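import Cfsg.Agent.H45.Galois
import Cfsg.Agent.H41.LocalRing
import Mathlib.NumberTheory.NumberField.Cyclotomic.Basic

/-!
# Galois twists and sums over the exponents prime to the level
-/

set_option autoImplicit false

open scoped ComplexConjugate

namespace Cfsg.Agent.H56.Twist

/-- The exponents below `N` prime to `N`. -/
def units (N : ℕ) : Finset ℕ := (Finset.range N).filter fun k => k.Coprime N

/-- `zk i` is the image of `z` under every automorphism acting by the exponent `i` on the `N`-th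
roots of unity. -/
def IsTwist (N : ℕ) (z : ℂ) (zk : ℕ → ℂ) : Prop :=
  ∀ (σ : ℂ ≃+* ℂ) (i : ℕ), (∀ w : ℂ, w ^ N = 1 → σ w = w ^ i) → σ z = zk i

variable {N : ℕ} {z : ℂ} {zk : ℕ → ℂ}

theorem IsTwist.exists_eq (h : IsTwist N z zk) (hN : N ≠ 0) {k : ℕ} (hk : k ∈ units N) :
    ∃ σ : ℂ ≃+* ℂ, (∀ w : ℂ, w ^ N = 1 → σ w = w ^ k) ∧ σ z = zk k := by
  obtain ⟨σ, hσ⟩ := H45.exists_ringAut_pow hN (Finset.mem_filter.1 hk).2
  exact ⟨σ, hσ, h σ k hσ⟩

/-- A nonzero algebraic integer has mean absolute value at least one. -/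
theorem IsTwist.card_le_sum_norm_pow (h : IsTwist N z zk) (hN : N ≠ 0) (hz : IsIntegral ℤ z)
    (hz0 : z ≠ 0) (m : ℕ) : ((units N).card : ℝ) ≤ ∑ k ∈ units N, ‖zk k‖ ^ m := by
  classical
  have hmem : ∀ i : ℕ, i.Coprime N → ∀ k ∈ units N, i * k % N ∈ units N := fun i hi k hk => by
    refine Finset.mem_filter.2 ⟨Finset.mem_range.2 (Nat.mod_lt _ (Nat.pos_of_ne_zero hN)), ?_⟩
    have := hi.mul_left (Finset.mem_filter.1 hk).2
    rwa [Nat.Coprime, ← Nat.gcd_rec, Nat.gcd_comm]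
  have hle := H45.card_le_sum_norm_pow (ι := {k // k ∈ units N}) (fun k => zk k.1) (fun k => by
    obtain ⟨σ, -, hσ⟩ := h.exists_eq hN k.2
    rw [← hσ]
    exact hz.map σ.toRingHom.toIntAlgHom) (fun k => by
    obtain ⟨σ, -, hσ⟩ := h.exists_eq hN k.2
    rw [← hσ]
    exact (map_ne_zero σ).2 hz0) (fun τ => by
    obtain ⟨i, hi, hτ⟩ := H45.exists_pow_of_ringAut τ hN
    let f : {k // k ∈ units N} → {k // k ∈ units N} := fun k => ⟨i * k.1 % N, hmem i hi k.1 k.2⟩
    have hf : Function.Injective f := fun k l hkl => by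
      refine Subtype.ext ?_
      have h' : i * k.1 % N = i * l.1 % N := congrArg Subtype.val hkl
      have h'' := Nat.ModEq.cancel_left_of_coprime (Nat.coprime_comm.1 hi) h'
      exact Nat.ModEq.eq_of_lt_of_lt h'' (Finset.mem_range.1 (Finset.mem_filter.1 k.2).1)
        (Finset.mem_range.1 (Finset.mem_filter.1 l.2).1)
    refine ⟨Equiv.ofBijective f (Finite.injective_iff_bijective.1 hf), fun k => ?_⟩
    obtain ⟨σ, hσ, hσz⟩ := h.exists_eq hN k.2
    show τ (zk k.1) = zk (i * k.1 % N)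
    rw [← hσz]
    refine h (σ.trans τ) _ fun w hw => ?_
    show τ (σ w) = _
    rw [hσ w hw, hτ _ (by rw [← pow_mul, mul_comm, pow_mul, hw, one_pow]), ← pow_mul,
      ← pow_eq_pow_mod _ hw, mul_comm]) m
  rw [Fintype.card_coe, Finset.sum_coe_sort (units N) fun k => ‖zk k‖ ^ m] at hle
  exact hle

section TwoPower

variable {m : ℕ} {ζ : ℂ}

theorem sum_odd_range (f : ℕ → ℂ) (h : ℕ) :
    ∑ k ∈ (Finset.range (2 * h)).filter Odd, f k = ∑ i ∈ Finset.range h, f (2 * i + 1) := by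
  rw [Finset.sum_filter]
  induction h with
  | zero => simp
  | succ h ih =>
    rw [show 2 * (h + 1) = 2 * h + 1 + 1 by ring, Finset.sum_range_succ, Finset.sum_range_succ,
      ih, Finset.sum_range_succ, if_neg (by simp), if_pos (by simp)]
    ring

theorem units_two_pow (m : ℕ) :
    units (2 ^ (m + 1)) = (Finset.range (2 * 2 ^ m)).filter Odd := by
  ext k
  simp only [units, Finset.mem_filter, Finset.mem_range, pow_succ']
  rw [← pow_succ', Nat.coprime_pow_right_iff (Nat.succ_pos m), Nat.coprime_two_right]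

theorem card_units_two_pow (m : ℕ) : (units (2 ^ (m + 1))).card = 2 ^ m := by
  have := sum_odd_range (fun _ => (1 : ℂ)) (2 ^ m)
  rw [← units_two_pow] at this
  simp only [Finset.sum_const, nsmul_eq_mul, mul_one, Finset.card_range] at this
  exact_mod_cast this

theorem sum_units_pow {w : ℂ} (hw : w ^ 2 ^ (m + 1) = 1) (h2 : w ^ 2 ≠ 1) :
    ∑ k ∈ units (2 ^ (m + 1)), w ^ k = 0 := by
  rw [units_two_pow, sum_odd_range]
  rw [Finset.sum_congr rfl fun i _ => show w ^ (2 * i + 1) = w * (w ^ 2) ^ i by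
    rw [pow_succ', pow_mul], ← Finset.mul_sum]
  rw [geom_sum_eq h2, ← pow_mul, ← pow_succ', hw, sub_self, zero_div, mul_zero]

theorem sum_units_powers (hζ : IsPrimitiveRoot ζ (2 ^ (m + 1))) {i : ℕ} (h : i < 2 ^ (m + 1))
    (h0 : i ≠ 0) (hh : i ≠ 2 ^ m) : ∑ k ∈ units (2 ^ (m + 1)), (ζ ^ i) ^ k = 0 := by
  refine sum_units_pow ?_ ?_
  · rw [← pow_mul, mul_comm, pow_mul, hζ.pow_eq_one, one_pow]
  · rw [← pow_mul]
    intro h1
    have hd := (hζ.pow_eq_one_iff_dvd _).1 h1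
    rw [pow_succ] at hd h
    have h2 : 2 ^ m ∣ i := Nat.dvd_of_mul_dvd_mul_right Nat.two_pos hd
    obtain ⟨c, rfl⟩ := h2
    have hc : c < 2 := Nat.lt_of_mul_lt_mul_left h
    interval_cases c <;> simp at h0 hh

theorem zeta_pow_half (hζ : IsPrimitiveRoot ζ (2 ^ (m + 1))) : ζ ^ 2 ^ m = -1 := by
  have h := hζ.pow (pow_pos Nat.two_pos _) (pow_succ 2 m)
  exact h.eq_neg_one_of_two_right

theorem exists_coeffs (hζ : IsPrimitiveRoot ζ (2 ^ (m + 1))) {z : ℂ}
    (hz : z ∈ Algebra.adjoin ℤ ({ζ} : Set ℂ)) :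
    ∃ a : ℕ → ℤ, z = ∑ i ∈ Finset.range (2 ^ m), (a i : ℂ) * ζ ^ i := by
  rw [Algebra.adjoin_singleton_eq_range_aeval, AlgHom.mem_range] at hz
  obtain ⟨f, rfl⟩ := hz
  induction f using Polynomial.induction_on' with
  | add f g hf hg =>
    obtain ⟨a, ha⟩ := hf
    obtain ⟨c, hc⟩ := hg
    refine ⟨fun i => a i + c i, ?_⟩
    rw [map_add, ha, hc, ← Finset.sum_add_distrib]
    exact Finset.sum_congr rfl fun i _ => by push_cast; ring
  | monomial n r =>
    refine ⟨fun i => if i = n % 2 ^ m then r * (-1) ^ (n / 2 ^ m) else 0, ?_⟩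
    rw [Finset.sum_eq_single (n % 2 ^ m) (fun i _ hi => by simp [hi])
      (fun h => absurd (Finset.mem_range.2 (Nat.mod_lt _ (pow_pos Nat.two_pos m))) h),
      Polynomial.aeval_monomial]
    simp only [if_true]
    conv_lhs => rw [← Nat.div_add_mod n (2 ^ m), pow_add, pow_mul, zeta_pow_half hζ]
    simp only [eq_intCast]
    push_cast
    ring

theorem map_coeffs (σ : ℂ ≃+* ℂ) {i : ℕ} (hi : σ ζ = ζ ^ i) (a : ℕ → ℤ) (h : ℕ) :
    σ (∑ j ∈ Finset.range h, (a j : ℂ) * ζ ^ j) =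
      ∑ j ∈ Finset.range h, (a j : ℂ) * (ζ ^ j) ^ i := by
  rw [map_sum]
  refine Finset.sum_congr rfl fun j _ => ?_
  rw [map_mul, map_intCast, map_pow, hi, ← pow_mul, ← pow_mul, mul_comm i]

theorem sum_units_coeffs (hζ : IsPrimitiveRoot ζ (2 ^ (m + 1))) (a : ℕ → ℤ) {e : ℕ}
    (he : e < 2 ^ m) :
    ∑ k ∈ units (2 ^ (m + 1)), ∑ j ∈ Finset.range (2 ^ m),
      (a j : ℂ) * (ζ ^ j) ^ k * ((ζ ^ e)⁻¹) ^ k = (2 ^ m : ℕ) * (a e : ℂ) := by
  have hζ0 : ζ ≠ 0 := hζ.ne_zero (pow_pos Nat.two_pos _).ne'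
  have hhalf : 2 ^ (m + 1) = 2 ^ m + 2 ^ m := by ring
  rw [Finset.sum_comm, Finset.sum_eq_single e]
  · rw [Finset.sum_congr rfl fun k _ => by
      rw [mul_assoc, ← mul_pow, mul_inv_cancel₀ (pow_ne_zero _ hζ0), one_pow, mul_one],
      Finset.sum_const, card_units_two_pow, nsmul_eq_mul]
  · intro j hj hje
    rw [Finset.sum_congr rfl fun k _ => by rw [mul_assoc, ← mul_pow], ← Finset.mul_sum]
    have hj' := Finset.mem_range.1 hj
    rw [show ζ ^ j * (ζ ^ e)⁻¹ = ζ ^ (if e ≤ j then j - e else j + (2 ^ (m + 1) - e)) by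
      rw [mul_inv_eq_iff_eq_mul₀ (pow_ne_zero _ hζ0), ← pow_add]
      split_ifs with hle
      · rw [Nat.sub_add_cancel hle]
      · rw [add_assoc, Nat.sub_add_cancel (by omega), pow_add, hζ.pow_eq_one, mul_one]]
    rw [sum_units_powers hζ (by split_ifs <;> omega) (by split_ifs <;> omega)
      (by split_ifs <;> omega), mul_zero]
  · intro h
    exact absurd (Finset.mem_range.2 he) h

/-- The powers below half the level are independent over `ℤ`. -/
theorem coeffs_eq_zero (hζ : IsPrimitiveRoot ζ (2 ^ (m + 1))) (a : ℕ → ℤ)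
    (h : ∑ j ∈ Finset.range (2 ^ m), (a j : ℂ) * ζ ^ j = 0) {e : ℕ} (he : e < 2 ^ m) :
    a e = 0 := by
  have hN : (2 : ℕ) ^ (m + 1) ≠ 0 := (pow_pos Nat.two_pos _).ne'
  have hs := sum_units_coeffs hζ a he
  rw [Finset.sum_eq_zero fun k hk => ?_] at hs
  · have := (mul_eq_zero.1 hs.symm).resolve_left (Nat.cast_ne_zero.2 (pow_pos Nat.two_pos m).ne')
    exact_mod_cast this
  · obtain ⟨σ, hσ⟩ := H45.exists_ringAut_pow hN (Finset.mem_filter.1 hk).2
    rw [← Finset.sum_mul, ← map_coeffs σ (hσ ζ hζ.pow_eq_one), h, map_zero, zero_mul]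

/-- A real member of the ring of the root has integral mean, congruent to it at the prime over
two. -/
theorem exists_mean (hζ : IsPrimitiveRoot ζ (2 ^ (m + 1))) {M : Ideal Cfsg.AlgInt} [M.IsMaximal]
    (hM : Cfsg.IsPModular 2 M) (hz : z ∈ Algebra.adjoin ℤ ({ζ} : Set ℂ)) (hreal : conj z = z)
    (htw : IsTwist (2 ^ (m + 1)) z zk) :
    ∃ t : ℤ, ∑ k ∈ units (2 ^ (m + 1)), zk k = (2 ^ m : ℕ) * (t : ℂ) ∧
      ∀ hl : z ∈ H41.localRing M, H41.res M ⟨z, hl⟩ = (t : H41.ResField M) := by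
  obtain ⟨a, ha⟩ := exists_coeffs hζ hz
  have hN : (2 : ℕ) ^ (m + 1) ≠ 0 := (pow_pos Nat.two_pos _).ne'
  have hh : 0 < 2 ^ m := pow_pos Nat.two_pos m
  refine ⟨a 0, ?_, fun hl => ?_⟩
  · rw [← sum_units_coeffs hζ a hh]
    refine Finset.sum_congr rfl fun k hk => ?_
    obtain ⟨σ, hσ, hσz⟩ := htw.exists_eq hN hk
    rw [← hσz, ha, map_coeffs σ (hσ ζ hζ.pow_eq_one)]
    exact Finset.sum_congr rfl fun j _ => by simp
  -- reflection from reality
  obtain ⟨r, hr⟩ : ∃ r, 2 ^ m = r + 1 := ⟨2 ^ m - 1, by omega⟩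
  have hzp : ∀ i, i ≤ r + 1 → conj (ζ ^ i) = -ζ ^ (r + 1 - i) := by
    intro i hi
    have hn : ‖ζ‖ = 1 := Complex.norm_eq_one_of_pow_eq_one hζ.pow_eq_one hN
    rw [← Complex.inv_eq_conj (by rw [norm_pow, hn, one_pow])]
    refine inv_eq_of_mul_eq_one_right ?_
    rw [mul_neg, ← pow_add, Nat.add_sub_cancel' hi, ← hr, zeta_pow_half hζ, neg_neg]
  have hcomb : ∑ j ∈ Finset.range (2 ^ m),
      (((if j = 0 then 0 else a j + a (r + 1 - j)) : ℤ) : ℂ) * ζ ^ j = 0 := by
    have h1 : conj z = (a 0 : ℂ) -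
        ∑ i ∈ Finset.range r, (a (r + 1 - (i + 1)) : ℂ) * ζ ^ (i + 1) := by
      rw [ha, hr, map_sum, Finset.sum_range_succ', pow_zero, mul_one, map_intCast, add_comm,
        sub_eq_add_neg, ← Finset.sum_neg_distrib, ← Finset.sum_range_reflect]
      congr 1
      refine Finset.sum_congr rfl fun i hi => ?_
      have hi' := Finset.mem_range.1 hi
      rw [map_mul, map_intCast, hzp _ (by omega), mul_neg]
      rw [show r + 1 - (r - 1 - i + 1) = i + 1 by omega,
        show r - 1 - i + 1 = r + 1 - (i + 1) by omega]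
    have h2 : z = (a 0 : ℂ) + ∑ i ∈ Finset.range r, (a (i + 1) : ℂ) * ζ ^ (i + 1) := by
      rw [ha, hr, Finset.sum_range_succ', pow_zero, mul_one, add_comm]
    rw [hr, Finset.sum_range_succ', if_pos rfl, Int.cast_zero, zero_mul, add_zero]
    rw [hreal] at h1
    have h3 := h2.symm.trans h1
    rw [Finset.sum_congr rfl fun i _ => show
      (((if i + 1 = 0 then 0 else a (i + 1) + a (r + 1 - (i + 1))) : ℤ) : ℂ) * ζ ^ (i + 1) =
      (a (i + 1) : ℂ) * ζ ^ (i + 1) + (a (r + 1 - (i + 1)) : ℂ) * ζ ^ (i + 1) by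
        rw [if_neg (Nat.succ_ne_zero i)]; push_cast; ring, Finset.sum_add_distrib]
    linear_combination h3
  have hrefl : ∀ i < r, a (i + 1) + a (r - i) = 0 := by
    intro i hi
    have := coeffs_eq_zero hζ _ hcomb (e := i + 1) (by omega)
    rw [if_neg (Nat.succ_ne_zero i)] at this
    rwa [show r + 1 - (i + 1) = r - i by omega] at this
  have hsum : ∑ i ∈ Finset.range (2 ^ m), a i = a 0 := by
    rw [hr, Finset.sum_range_succ']
    have hpair : ∑ i ∈ Finset.range r, a (i + 1) + ∑ i ∈ Finset.range r, a (r - i) = 0 := by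
      rw [← Finset.sum_add_distrib]
      exact Finset.sum_eq_zero fun i hi => hrefl i (Finset.mem_range.1 hi)
    have hre : ∑ i ∈ Finset.range r, a (r - i) = ∑ i ∈ Finset.range r, a (i + 1) := by
      rw [← Finset.sum_range_reflect (fun i => a (i + 1)) r]
      refine Finset.sum_congr rfl fun i hi => ?_
      have := Finset.mem_range.1 hi
      congr 1
      omega
    rw [hre] at hpair
    omega
  haveI : Fact (Nat.Prime 2) := ⟨Nat.prime_two⟩
  haveI := H41.IsPModular.charP hM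
  let Z : H41.localRing M :=
    ⟨ζ, H41.isIntegral_mem_localRing (hζ.isIntegral (Nat.pos_of_ne_zero hN))⟩
  have hZ : H41.res M Z = 1 := by
    have hw : Z ^ 2 ^ (m + 1) = 1 := Subtype.ext (by push_cast; exact hζ.pow_eq_one)
    have h1 : (H41.res M Z - 1) ^ 2 ^ (m + 1) = 0 := by
      rw [sub_pow_char_pow, ← map_pow, hw, map_one, one_pow, sub_self]
    exact sub_eq_zero.1 ((pow_eq_zero_iff hN).1 h1)
  have he : (⟨z, hl⟩ : H41.localRing M) =
      ∑ i ∈ Finset.range (2 ^ m), (a i : H41.localRing M) * Z ^ i := by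
    apply Subtype.ext
    simp only [AddSubmonoidClass.coe_finsetSum, Subring.coe_mul, SubringClass.coe_intCast,
      SubmonoidClass.coe_pow, Z]
    exact ha
  rw [he, map_sum, Finset.sum_congr rfl fun i _ => by
    rw [map_mul, map_pow, map_intCast, hZ, one_pow, mul_one], ← Int.cast_sum, hsum]

/-- Algebraic integers of the cyclotomic field lie in the ring of the root. -/
theorem mem_adjoin_of_isIntegral {q e : ℕ} [Fact q.Prime] (hζ : IsPrimitiveRoot ζ (q ^ e))
    {z : ℂ} (hz : IsIntegral ℤ z) {r : ℕ} (hr : r ≠ 0)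
    (h : (r : ℂ) * z ∈ Algebra.adjoin ℤ ({ζ} : Set ℂ)) :
    z ∈ Algebra.adjoin ℤ ({ζ} : Set ℂ) := by
  haveI : NeZero (q ^ e) := ⟨(pow_pos (Fact.out : q.Prime).pos e).ne'⟩
  set K := IntermediateField.adjoin ℚ ({ζ} : Set ℂ) with hK
  have hζK : ζ ∈ K := IntermediateField.mem_adjoin_simple_self ℚ ζ
  have hle : ∀ x ∈ Algebra.adjoin ℤ ({ζ} : Set ℂ), x ∈ K := fun x hx => by
    induction hx using Algebra.adjoin_induction with
    | mem x hx => rw [Set.mem_singleton_iff.1 hx]; exact hζK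
    | algebraMap n => rw [eq_intCast]; exact intCast_mem K n
    | add x y _ _ hx hy => exact add_mem hx hy
    | mul x y _ _ hx hy => exact mul_mem hx hy
  have hzK : z ∈ K := by
    have := mul_mem (inv_mem (natCast_mem K r)) (hle _ h)
    rwa [inv_mul_cancel_left₀ (Nat.cast_ne_zero.2 hr)] at this
  haveI : Algebra.IsAlgebraic ℚ K := by
    haveI : FiniteDimensional ℚ K := IntermediateField.adjoin.finiteDimensional
      ((hζ.isIntegral (Nat.pos_of_neZero _)).tower_top (A := ℚ))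
    exact Algebra.IsAlgebraic.of_finite ℚ K
  haveI : IsCyclotomicExtension {q ^ e} ℚ K := by
    show IsCyclotomicExtension {q ^ e} ℚ K.toSubalgebra
    rw [hK, IntermediateField.adjoin_simple_toSubalgebra_of_isAlgebraic
      ((hζ.isIntegral (Nat.pos_of_neZero _)).tower_top (A := ℚ)).isAlgebraic]
    exact hζ.adjoin_isCyclotomicExtension ℚ
  have hζ' : IsPrimitiveRoot (⟨ζ, hζK⟩ : K) (q ^ e) :=
    IsPrimitiveRoot.of_map_of_injective (f := K.val) hζ K.val.injective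
  have hz' : IsIntegral ℤ (⟨z, hzK⟩ : K) :=
    (isIntegral_algHom_iff (K.val.restrictScalars ℤ) K.val.injective).1 hz
  haveI := IsCyclotomicExtension.Rat.isIntegralClosure_adjoin_singleton_of_prime_pow hζ'
  obtain ⟨w, hw⟩ := (IsIntegralClosure.isIntegral_iff
    (A := Algebra.adjoin ℤ ({(⟨ζ, hζK⟩ : K)} : Set K))).1 hz'
  have := (Subalgebra.mem_map (f := K.val.restrictScalars ℤ)).2 ⟨(w : K), w.2, rfl⟩
  rw [AlgHom.map_adjoin, Set.image_singleton] at this
  rw [show z = ((⟨z, hzK⟩ : K) : ℂ) from rfl, ← hw]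
  exact this

end TwoPower

end Cfsg.Agent.H56.Twist
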