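import Cfsg.Agent.H56.SubsectionMajor
import Cfsg.Agent.H56.GaloisTwist

/-!
# Counting characters with the means of their contributions
-/

set_option autoImplicit false
set_option linter.unusedSectionVars false

open scoped ComplexConjugate

namespace Cfsg.Agent.H56.Subsec

open Cfsg.Agent.H32
open scoped Classical

section Gen

variable {G : Type*} [Group G] [Fintype G] {p : ℕ} [hp : Fact p.Prime] {M : Ideal Cfsg.AlgInt}
  {y : G} {b : Set (Cfsg.IrrCharacter (CZ y))} {B : Set (Cfsg.IrrCharacter G)}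

theorem isTwist_cont {N : ℕ} (hN : y ^ N = 1) (χ ψ : Cfsg.IrrCharacter G) :
    Twist.IsTwist N (cont p y b χ ψ 1) (cont p y b χ ψ) := fun σ i hσ => by
  rw [ringAut_cont hN σ hσ, mul_one]

theorem isTwist_redCont {N : ℕ} (hN : y ^ N = 1) (χ ψ : Cfsg.IrrCharacter G) :
    Twist.IsTwist N (redCont p y b B χ ψ)
      (fun k => cont p y b χ ψ k / (p : ℂ) ^ Cfsg.blockHeight p B (ψ : G → ℂ)) := fun σ i hσ => by
  rw [redCont, map_div₀, ringAut_cont hN σ hσ, map_pow, map_natCast, mul_one]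

/-- The square sum of a row, at every exponent. -/
theorem sum_norm_cont_sq (hM : Cfsg.IsPModular p M) (hy : ∃ k : ℕ, orderOf y = p ^ k)
    (hind : Cfsg.IsInducedBlock M (CZ y) b B) {N : ℕ} (hN0 : N ≠ 0) (hN : y ^ N = 1)
    (χ : Cfsg.IrrCharacter G) {k : ℕ} (hk : k ∈ Twist.units N) :
    ∑ ψ ∈ mem' B, ‖cont p y b χ ψ k‖ ^ 2 =
      (p : ℝ) ^ Cfsg.blockDefect p b * (cont p y b χ χ k).re := by
  obtain ⟨σ, hσ⟩ := H45.exists_ringAut_pow hN0 (Finset.mem_filter.1 hk).2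
  have h := congrArg σ (sum_cont_mul hM hy hind χ χ)
  simp only [map_sum, map_mul, map_pow, map_natCast, ringAut_cont hN σ hσ, mul_one] at h
  have h' : ((∑ ψ ∈ mem' B, ‖cont p y b χ ψ k‖ ^ 2 : ℝ) : ℂ) =
      (p : ℂ) ^ Cfsg.blockDefect p b * cont p y b χ χ k := by
    rw [← h, Complex.ofReal_sum]
    refine Finset.sum_congr rfl fun ψ _ => ?_
    rw [← conj_cont χ ψ, Complex.mul_conj', Complex.ofReal_pow]
  have := congrArg Complex.re h'
  rw [Complex.ofReal_re, show (p : ℂ) ^ Cfsg.blockDefect p b =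
    (((p : ℝ) ^ Cfsg.blockDefect p b : ℝ) : ℂ) by push_cast; rfl, Complex.re_ofReal_mul] at this
  exact this

theorem re_cont_self_nonneg (hM : Cfsg.IsPModular p M) (hy : ∃ k : ℕ, orderOf y = p ^ k)
    (hind : Cfsg.IsInducedBlock M (CZ y) b B) {N : ℕ} (hN0 : N ≠ 0) (hN : y ^ N = 1)
    (χ : Cfsg.IrrCharacter G) {k : ℕ} (hk : k ∈ Twist.units N) :
    0 ≤ (cont p y b χ χ k).re := by
  have h := sum_norm_cont_sq hM hy hind hN0 hN χ hk
  have h0 : 0 ≤ (p : ℝ) ^ Cfsg.blockDefect p b * (cont p y b χ χ k).re :=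
    h ▸ Finset.sum_nonneg fun ψ _ => sq_nonneg _
  exact (mul_nonneg_iff_of_pos_left (pow_pos (Nat.cast_pos.2 hp.out.pos) _)).1 h0

theorem sum_cont_self_twist (hM : Cfsg.IsPModular p M) (hy : ∃ k : ℕ, orderOf y = p ^ k)
    (hind : Cfsg.IsInducedBlock M (CZ y) b B) {N : ℕ} (hN0 : N ≠ 0) (hN : y ^ N = 1)
    {k : ℕ} (hk : k ∈ Twist.units N) :
    ∑ χ ∈ mem' B, cont p y b χ χ k =
      (p : ℂ) ^ Cfsg.blockDefect p b * (Cfsg.blockRank p b : ℂ) := by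
  obtain ⟨σ, hσ⟩ := H45.exists_ringAut_pow hN0 (Finset.mem_filter.1 hk).2
  have h := congrArg σ (sum_cont_self hM hy hind)
  simp only [map_sum, map_mul, map_pow, map_natCast, ringAut_cont hN σ hσ, mul_one] at h
  exact h

end Gen

section Two

variable {G : Type*} [Group G] [Fintype G] {M : Ideal Cfsg.AlgInt}
  {y : G} {b : Set (Cfsg.IrrCharacter (CZ y))} {B : Set (Cfsg.IrrCharacter G)}

/-- The members of height zero. -/
noncomputable def zeroSet (p : ℕ) (B : Set (Cfsg.IrrCharacter G)) : Finset (Cfsg.IrrCharacter G) :=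
  (mem' B).filter fun χ => Cfsg.blockHeight p B (χ : G → ℂ) = 0

/-- A row inequality between means. -/
theorem mean_ineq [Fact (Nat.Prime 2)] (hM : Cfsg.IsPModular 2 M)
    (hy : ∃ k : ℕ, orderOf y = 2 ^ k) (hind : Cfsg.IsInducedBlock M (CZ y) b B)
    {m : ℕ} (hN : y ^ 2 ^ (m + 1) = 1) {χ : Cfsg.IrrCharacter G} (hχ : χ ∈ B) (T : ℤ)
    (hT : ∑ k ∈ Twist.units (2 ^ (m + 1)), cont 2 y b χ χ k = (2 ^ m : ℕ) * (T : ℂ))
    (S : Finset (Cfsg.IrrCharacter G)) (hS : S ⊆ (mem' B).erase χ)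
    (wt : Cfsg.IrrCharacter G → ℕ)
    (hwt : ∀ ψ ∈ S, ((2 ^ m : ℕ) : ℝ) * (wt ψ : ℝ) ≤
      ∑ k ∈ Twist.units (2 ^ (m + 1)), ‖cont 2 y b χ ψ k‖ ^ 2) :
    T ^ 2 + ∑ ψ ∈ S, (wt ψ : ℤ) ≤ 2 ^ Cfsg.blockDefect 2 b * T ∧ 0 ≤ T := by
  set U := Twist.units (2 ^ (m + 1))
  have hN0 : (2 : ℕ) ^ (m + 1) ≠ 0 := (pow_pos Nat.two_pos _).ne'
  have hU : (U.card : ℝ) = ((2 ^ m : ℕ) : ℝ) := by rw [Twist.card_units_two_pow]
  have hh : (0 : ℝ) < ((2 ^ m : ℕ) : ℝ) := Nat.cast_pos.2 (pow_pos Nat.two_pos m)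
  have hre : ∑ k ∈ U, (cont 2 y b χ χ k).re = ((2 ^ m : ℕ) : ℝ) * (T : ℝ) := by
    have := congrArg Complex.re hT
    rw [Complex.re_sum, show ((2 ^ m : ℕ) : ℂ) * (T : ℂ) = ((((2 ^ m : ℕ) : ℝ) * (T : ℝ) : ℝ) : ℂ)
      by push_cast; rfl, Complex.ofReal_re] at this
    exact this
  have hT0 : (0 : ℝ) ≤ (T : ℝ) := (mul_nonneg_iff_of_pos_left hh).1
    (hre ▸ Finset.sum_nonneg fun k hk => re_cont_self_nonneg hM hy hind hN0 hN χ hk)
  refine ⟨?_, by exact_mod_cast hT0⟩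
  have hsq : (((2 ^ m : ℕ) : ℝ) * (T : ℝ)) ^ 2 ≤
      ((2 ^ m : ℕ) : ℝ) * ∑ k ∈ U, ‖cont 2 y b χ χ k‖ ^ 2 := by
    rw [← hre, ← hU]
    refine sq_sum_le_card_mul_sum_sq.trans (mul_le_mul_of_nonneg_left ?_ (Nat.cast_nonneg _))
    exact Finset.sum_le_sum fun k _ =>
      sq_le_sq.2 (by rw [abs_norm]; exact Complex.abs_re_le_norm _)
  have hsq' : ((2 ^ m : ℕ) : ℝ) * (T : ℝ) ^ 2 ≤ ∑ k ∈ U, ‖cont 2 y b χ χ k‖ ^ 2 :=
    le_of_mul_le_mul_left (le_trans (le_of_eq (by ring)) hsq) hh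
  have htot : ∑ ψ ∈ mem' B, ∑ k ∈ U, ‖cont 2 y b χ ψ k‖ ^ 2 =
      (2 : ℝ) ^ Cfsg.blockDefect 2 b * (((2 ^ m : ℕ) : ℝ) * (T : ℝ)) := by
    rw [Finset.sum_comm, Finset.sum_congr rfl fun k hk => sum_norm_cont_sq hM hy hind hN0 hN χ hk,
      ← Finset.mul_sum, hre, Nat.cast_ofNat]
  have hsub : ∑ k ∈ U, ‖cont 2 y b χ χ k‖ ^ 2 + ∑ ψ ∈ S, ∑ k ∈ U, ‖cont 2 y b χ ψ k‖ ^ 2 ≤
      ∑ ψ ∈ mem' B, ∑ k ∈ U, ‖cont 2 y b χ ψ k‖ ^ 2 := by
    rw [← Finset.add_sum_erase (mem' B) _ (mem_mem'.2 hχ)]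
    refine add_le_add le_rfl (Finset.sum_le_sum_of_subset_of_nonneg hS fun ψ _ _ => ?_)
    exact Finset.sum_nonneg fun k _ => sq_nonneg _
  have hw : ((2 ^ m : ℕ) : ℝ) * ∑ ψ ∈ S, (wt ψ : ℝ) ≤
      ∑ ψ ∈ S, ∑ k ∈ U, ‖cont 2 y b χ ψ k‖ ^ 2 := by
    rw [Finset.mul_sum]
    exact Finset.sum_le_sum hwt
  rw [htot] at hsub
  have hfin : ((2 ^ m : ℕ) : ℝ) * ((T : ℝ) ^ 2 + ∑ ψ ∈ S, (wt ψ : ℝ)) ≤
      ((2 ^ m : ℕ) : ℝ) * ((2 : ℝ) ^ Cfsg.blockDefect 2 b * (T : ℝ)) := by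
    rw [mul_add]
    linarith
  have hfin' := le_of_mul_le_mul_left hfin hh
  exact_mod_cast hfin'

/-- Distinct height zero members. -/
theorem zero_pair_bound [Fact (Nat.Prime 2)] (hM : Cfsg.IsPModular 2 M)
    (hy : ∃ k : ℕ, orderOf y = 2 ^ k) (hind : Cfsg.IsInducedBlock M (CZ y) b B)
    {m : ℕ} (hN : y ^ 2 ^ (m + 1) = 1) {χ ψ : Cfsg.IrrCharacter G}
    (hχ : χ ∈ zeroSet 2 B) (hψ : ψ ∈ zeroSet 2 B) :
    ((2 ^ m : ℕ) : ℝ) ≤ ∑ k ∈ Twist.units (2 ^ (m + 1)), ‖cont 2 y b χ ψ k‖ ^ 2 := by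
  haveI := hM.2.1
  rw [zeroSet, Finset.mem_filter] at hχ hψ
  have h := (isTwist_cont (p := 2) (b := b) hN χ ψ).card_le_sum_norm_pow
    (pow_pos Nat.two_pos _).ne' (isIntegral_cont χ ψ 1) (fun h0 => ?_) 2
  · rwa [Twist.card_units_two_pow] at h
  refine res_cont_ne_zero hM hy hind (mem_mem'.1 hχ.1) hχ.2 (mem_mem'.1 hψ.1) hψ.2 1
    (H41.isIntegral_mem_localRing (isIntegral_cont χ ψ 1)) ?_
  rw [← map_zero (H41.res M)]
  exact congrArg _ (Subtype.ext h0)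

/-- The mean of the contribution of a height zero member with itself is odd. -/
theorem exists_zero_mean [Fact (Nat.Prime 2)] (hM : Cfsg.IsPModular 2 M)
    (hy : ∃ k : ℕ, orderOf y = 2 ^ k) (hind : Cfsg.IsInducedBlock M (CZ y) b B)
    {m : ℕ} (hN : y ^ 2 ^ (m + 1) = 1) {χ : Cfsg.IrrCharacter G} (hχ : χ ∈ zeroSet 2 B) :
    ∃ T : ℤ, Odd T ∧ ∑ k ∈ Twist.units (2 ^ (m + 1)), cont 2 y b χ χ k = (2 ^ m : ℕ) * (T : ℂ) := by
  haveI := hM.2.1
  rw [zeroSet, Finset.mem_filter] at hχ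
  have hζ := Complex.isPrimitiveRoot_exp (2 ^ (m + 1)) (pow_pos Nat.two_pos _).ne'
  obtain ⟨T, hT, hres⟩ := Twist.exists_mean hζ hM
    (cont_mem_adjoin (p := 2) (b := b) (pow_pos Nat.two_pos _) hN hζ χ χ 1) (conj_cont χ χ 1)
    (isTwist_cont hN χ χ)
  refine ⟨T, ?_, hT⟩
  rw [← Int.not_even_iff_odd, even_iff_two_dvd]
  intro h2
  refine res_cont_ne_zero hM hy hind (mem_mem'.1 hχ.1) hχ.2 (mem_mem'.1 hχ.1) hχ.2 1
    (H41.isIntegral_mem_localRing (isIntegral_cont χ χ 1)) ?_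
  rw [hres, H41.IsPModular.intCast_eq_zero_iff hM]
  exact_mod_cast h2

/-- The numbers behind the height zero bound. -/
theorem exists_zero_means (hM : Cfsg.IsPModular 2 M) (hy : ∃ k : ℕ, orderOf y = 2 ^ k)
    (hind : Cfsg.IsInducedBlock M (CZ y) b B) :
    ∃ T : Cfsg.IrrCharacter G → ℤ, (∀ χ ∈ zeroSet 2 B, Odd (T χ) ∧ 1 ≤ T χ ∧
      T χ ^ 2 + ((zeroSet 2 B).card : ℤ) ≤ 2 ^ Cfsg.blockDefect 2 b * T χ + 1) ∧
      ∑ χ ∈ zeroSet 2 B, T χ ≤ (Cfsg.blockRank 2 b : ℤ) * 2 ^ Cfsg.blockDefect 2 b := by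
  haveI : Fact (Nat.Prime 2) := ⟨Nat.prime_two⟩
  obtain ⟨j, hj⟩ := id hy
  have hN : y ^ 2 ^ (j + 1) = 1 := by rw [pow_succ, pow_mul, ← hj, pow_orderOf_eq_one, one_pow]
  have hN0 : (2 : ℕ) ^ (j + 1) ≠ 0 := (pow_pos Nat.two_pos _).ne'
  choose! T hodd hT using fun χ (hχ : χ ∈ zeroSet 2 B) => exists_zero_mean hM hy hind hN hχ
  refine ⟨T, fun χ hχ => ?_, ?_⟩
  · have hsub : (zeroSet 2 B).erase χ ⊆ (mem' B).erase χ :=
      Finset.erase_subset_erase _ (Finset.filter_subset _ _)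
    obtain ⟨h1, h0⟩ := mean_ineq hM hy hind hN (mem_mem'.1 (Finset.mem_filter.1 hχ).1) (T χ)
      (hT χ hχ) _ hsub (fun _ => 1) fun ψ hψ => by
        rw [Nat.cast_one, mul_one]
        exact zero_pair_bound hM hy hind hN hχ (Finset.mem_of_mem_erase hψ)
    have hc : ((zeroSet 2 B).erase χ).card + 1 = (zeroSet 2 B).card :=
      Finset.card_erase_add_one hχ
    rw [Finset.sum_const, nsmul_eq_mul, Nat.cast_one, mul_one] at h1
    refine ⟨hodd χ hχ, ?_, ?_⟩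
    · obtain ⟨r, hr⟩ := hodd χ hχ
      omega
    · rw [← hc, Nat.cast_add, Nat.cast_one]
      linarith
  · set U := Twist.units (2 ^ (j + 1))
    have h : ∑ χ ∈ zeroSet 2 B, ((2 ^ j : ℕ) : ℝ) * (T χ : ℝ) ≤
        ((2 ^ j : ℕ) : ℝ) * ((2 : ℝ) ^ Cfsg.blockDefect 2 b * (Cfsg.blockRank 2 b : ℝ)) := by
      calc ∑ χ ∈ zeroSet 2 B, ((2 ^ j : ℕ) : ℝ) * (T χ : ℝ)
          = ∑ χ ∈ zeroSet 2 B, ∑ k ∈ U, (cont 2 y b χ χ k).re := by
            refine Finset.sum_congr rfl fun χ hχ => ?_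
            rw [← Complex.re_sum, hT χ hχ,
              show ((2 ^ j : ℕ) : ℂ) * (T χ : ℂ) = ((((2 ^ j : ℕ) : ℝ) * (T χ : ℝ) : ℝ) : ℂ) by
                push_cast; rfl, Complex.ofReal_re]
        _ ≤ ∑ χ ∈ mem' B, ∑ k ∈ U, (cont 2 y b χ χ k).re :=
            Finset.sum_le_sum_of_subset_of_nonneg (Finset.filter_subset _ _) fun χ _ _ =>
              Finset.sum_nonneg fun k hk => re_cont_self_nonneg hM hy hind hN0 hN χ hk
        _ = _ := by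
            rw [Finset.sum_comm, Finset.sum_congr rfl fun k hk => by
              rw [← Complex.re_sum, sum_cont_self_twist hM hy hind hN0 hN hk],
              Finset.sum_const, Twist.card_units_two_pow, nsmul_eq_mul]
            congr 1
            norm_cast
    rw [← Finset.mul_sum] at h
    have h' := le_of_mul_le_mul_left h (Nat.cast_pos.2 (pow_pos Nat.two_pos j))
    rw [mul_comm]
    exact_mod_cast h'

/-- The numbers behind the bounds from a major subsection. -/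
theorem exists_major_means (hM : Cfsg.IsPModular 2 M) (hy : ∃ k : ℕ, orderOf y = 2 ^ k)
    (hind : Cfsg.IsInducedBlock M (CZ y) b B)
    (hbd : Cfsg.blockDefect 2 b = Cfsg.blockDefect 2 B) :
    ∃ T : Cfsg.IrrCharacter G → ℤ,
      (∀ χ ∈ zeroSet 2 B, Odd (T χ) ∧ 1 ≤ T χ ∧
        T χ ^ 2 + ∑ ψ ∈ (mem' B).erase χ, 4 ^ Cfsg.blockHeight 2 B (ψ : G → ℂ) ≤
          2 ^ Cfsg.blockDefect 2 b * T χ) ∧
      (∀ χ ∈ mem' B, Cfsg.blockHeight 2 B (χ : G → ℂ) ≠ 0 →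
        2 ^ (Cfsg.blockHeight 2 B (χ : G → ℂ) + 1) ∣ T χ ∧ 0 < T χ ∧
          T χ < 2 ^ Cfsg.blockDefect 2 b) ∧
      ∑ χ ∈ mem' B, T χ = (Cfsg.blockRank 2 b : ℤ) * 2 ^ Cfsg.blockDefect 2 b := by
  haveI : Fact (Nat.Prime 2) := ⟨Nat.prime_two⟩
  haveI := hM.2.1
  obtain ⟨j, hj⟩ := id hy
  have hN : y ^ 2 ^ (j + 1) = 1 := by rw [pow_succ, pow_mul, ← hj, pow_orderOf_eq_one, one_pow]
  have hN0 : (2 : ℕ) ^ (j + 1) ≠ 0 := (pow_pos Nat.two_pos _).ne'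
  set U := Twist.units (2 ^ (j + 1)) with hUdef
  have hζ := Complex.isPrimitiveRoot_exp (2 ^ (j + 1)) hN0
  set ht := fun χ : Cfsg.IrrCharacter G => Cfsg.blockHeight 2 B (χ : G → ℂ) with hht
  -- the means
  have hmean : ∀ χ ∈ mem' B, ∃ t : ℤ,
      ∑ k ∈ U, cont 2 y b χ χ k = (2 ^ j : ℕ) * (((2 ^ ht χ * t : ℤ)) : ℂ) ∧
      ((2 : ℤ) ∣ t ↔ ht χ ≠ 0) := by
    intro χ hχ
    have hχB := mem_mem'.1 hχ
    have hi := isIntegral_redCont hM hy hind hbd χ hχB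
    have h2 : ((2 : ℂ) ^ ht χ) ≠ 0 := pow_ne_zero _ two_ne_zero
    have hred : redCont 2 y b B χ χ = cont 2 y b χ χ 1 / (2 : ℂ) ^ ht χ := by
      simp [redCont, hht]
    have hmem : redCont 2 y b B χ χ ∈ Algebra.adjoin ℤ
        ({Complex.exp (2 * Real.pi * Complex.I / ((2 ^ (j + 1) : ℕ) : ℂ))} : Set ℂ) := by
      refine Twist.mem_adjoin_of_isIntegral hζ hi (r := 2 ^ ht χ) (pow_pos Nat.two_pos _).ne' ?_
      rw [hred, show ((2 ^ ht χ : ℕ) : ℂ) = (2 : ℂ) ^ ht χ by push_cast; rfl, mul_div_cancel₀ _ h2]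
      exact cont_mem_adjoin (pow_pos Nat.two_pos _) hN hζ χ χ 1
    obtain ⟨t, ht', hres⟩ := Twist.exists_mean hζ hM hmem (by
      rw [hred, map_div₀, conj_cont, map_pow, map_ofNat]) (isTwist_redCont hN χ χ)
    refine ⟨t, ?_, ?_⟩
    · rw [← Finset.sum_div, div_eq_iff (by simpa [hht] using h2)] at ht'
      rw [hUdef, ht']
      simp only [hht]
      push_cast
      ring
    · rw [show (2 : ℤ) = ((2 : ℕ) : ℤ) by rfl, ← H41.IsPModular.intCast_eq_zero_iff hM t,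
        ← hres (H41.isIntegral_mem_localRing hi)]
      exact res_redCont_eq_zero_iff hM hy hind hbd hχB hχB
  choose! t hmean_eq hmean_par using hmean
  -- pairs with a first member of height zero
  have hpair : ∀ χ ∈ zeroSet 2 B, ∀ ψ ∈ mem' B,
      ((2 ^ j : ℕ) : ℝ) * ((4 ^ ht ψ : ℕ) : ℝ) ≤ ∑ k ∈ U, ‖cont 2 y b χ ψ k‖ ^ 2 := by
    intro χ hχ ψ hψ
    rw [zeroSet, Finset.mem_filter] at hχ
    have hi := isIntegral_redCont hM hy hind hbd χ (mem_mem'.1 hψ)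
    have h := (isTwist_redCont (p := 2) (b := b) (B := B) hN χ ψ).card_le_sum_norm_pow hN0 hi
      (fun h0 => (res_redCont_eq_zero_iff hM hy hind hbd (mem_mem'.1 hχ.1) (mem_mem'.1 hψ)).1
        (by rw [← map_zero (H41.res M)]; exact congrArg _ (Subtype.ext h0)) hχ.2) 2
    rw [Twist.card_units_two_pow] at h
    rw [Finset.sum_congr rfl fun k _ =>
      show ‖cont 2 y b χ ψ k / ((2 : ℕ) : ℂ) ^ Cfsg.blockHeight 2 B (ψ : G → ℂ)‖ ^ 2 =
        ‖cont 2 y b χ ψ k‖ ^ 2 / ((4 ^ ht ψ : ℕ) : ℝ) by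
      rw [norm_div, norm_pow, Complex.norm_natCast, div_pow, ← pow_mul, mul_comm, pow_mul]
      simp only [hht]
      push_cast
      norm_num, ← Finset.sum_div, le_div_iff₀ (by positivity)] at h
    exact h
  refine ⟨fun χ => 2 ^ ht χ * t χ, fun χ hχ => ?_, fun χ hχ hpos => ?_, ?_⟩
  · have hχ' := Finset.mem_filter.1 hχ
    have h0 : ht χ = 0 := hχ'.2
    obtain ⟨h1, h2⟩ := mean_ineq hM hy hind hN (mem_mem'.1 hχ'.1) _ (hmean_eq χ hχ'.1) _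
      (Finset.Subset.refl _) (fun ψ => 4 ^ ht ψ)
      fun ψ hψ => hpair χ hχ ψ (Finset.mem_of_mem_erase hψ)
    have hodd : Odd (t χ) := by
      rw [← Int.not_even_iff_odd, even_iff_two_dvd, hmean_par χ hχ'.1]
      simp [h0]
    simp only [h0, pow_zero, one_mul] at h1 h2 ⊢
    refine ⟨hodd, ?_, ?_⟩
    · obtain ⟨r, hr⟩ := hodd
      omega
    · push_cast at h1
      exact h1
  · obtain ⟨χ₀, hχ₀, h00⟩ :=
      H41.exists_height_zero (p := 2) (H41.IsPBlock.nonempty hind.2.1)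
    have hχ₀' : χ₀ ∈ zeroSet 2 B := Finset.mem_filter.2 ⟨mem_mem'.2 hχ₀, h00⟩
    have hne : χ₀ ≠ χ := fun h => hpos (h ▸ h00)
    obtain ⟨h1, h2⟩ := mean_ineq hM hy hind hN (mem_mem'.1 hχ) _ (hmean_eq χ hχ) {χ₀}
      (Finset.singleton_subset_iff.2 (Finset.mem_erase.2 ⟨hne, mem_mem'.2 hχ₀⟩))
      (fun _ => 4 ^ ht χ) fun ψ hψ => by
        rw [Finset.mem_singleton.1 hψ]
        refine (hpair χ₀ hχ₀' χ hχ).trans_eq (Finset.sum_congr rfl fun k _ => ?_)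
        rw [← conj_cont χ χ₀, Complex.norm_conj]
    rw [Finset.sum_singleton] at h1
    push_cast at h1
    have h4 : (0 : ℤ) < 4 ^ ht χ := pow_pos (by norm_num) _
    obtain ⟨s, hs⟩ := (hmean_par χ hχ).2 hpos
    refine ⟨⟨s, ?_⟩, ?_, ?_⟩
    · show 2 ^ ht χ * t χ = 2 ^ (ht χ + 1) * s
      rw [hs, pow_succ]; ring
    · rcases h2.lt_or_eq with h | h
      · exact h
      · rw [← h] at h1; linarith
    · by_contra hge
      push_neg at hge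
      nlinarith
  · have h : ∑ χ ∈ mem' B, ∑ k ∈ U, cont 2 y b χ χ k =
        ∑ χ ∈ mem' B, (2 ^ j : ℕ) * (((2 ^ ht χ * t χ : ℤ)) : ℂ) :=
      Finset.sum_congr rfl fun χ hχ => hmean_eq χ hχ
    rw [Finset.sum_comm, Finset.sum_congr rfl fun k hk => sum_cont_self_twist hM hy hind hN0 hN hk,
      Finset.sum_const, Twist.card_units_two_pow, nsmul_eq_mul, ← Finset.mul_sum, ← Int.cast_sum,
      Nat.cast_ofNat] at h
    have h' := mul_left_cancel₀ (Nat.cast_ne_zero.2 (pow_pos Nat.two_pos j).ne') h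
    rw [mul_comm]
    exact_mod_cast h'.symm

end Two

end Cfsg.Agent.H56.Subsec

namespace Cfsg.Agent.H56.Subsec

open scoped Classical
open Cfsg.Agent.H32

variable {G : Type*} [Group G] [Fintype G] {M : Ideal Cfsg.AlgInt} {B : Set (Cfsg.IrrCharacter G)}

theorem centralizer_singleton_eq (u : G) : Subgroup.centralizer ({u} : Set G) = CZ u := by
  ext z
  rw [mem_centralizer_zpowers_iff, Subgroup.mem_centralizer_singleton_iff]
  exact ⟨fun h => h, fun h => h.eq⟩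

/-- The height zero count, for a subgroup equal to the centralizer. -/
theorem zero_count (hM : Cfsg.IsPModular 2 M) {u : G} (hu : ∃ k : ℕ, orderOf u = 2 ^ k)
    {K : Subgroup G} (hK : K = CZ u) {b : Set (Cfsg.IrrCharacter K)}
    (hind : Cfsg.IsInducedBlock M K b B) :
    (Odd (Nat.sqrt (Cfsg.blockRank 2 b)) →
      (zeroSet 2 B).card ≤ Nat.sqrt (Cfsg.blockRank 2 b) * 2 ^ Cfsg.blockDefect 2 b) ∧
    (¬ Odd (Nat.sqrt (Cfsg.blockRank 2 b)) → (Nat.sqrt (Cfsg.blockRank 2 b) + 1) *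
      (zeroSet 2 B).card ≤ Cfsg.blockRank 2 b * 2 ^ Cfsg.blockDefect 2 b) := by
  subst hK
  obtain ⟨T, hrow, hsum⟩ := exists_zero_means hM hu hind
  set l := Cfsg.blockRank 2 b
  set s := Nat.sqrt l
  set P := 2 ^ Cfsg.blockDefect 2 b
  set k0 := (zeroSet 2 B).card
  have hs1 : (s : ℤ) * s ≤ l := by exact_mod_cast Nat.sqrt_le l
  have hs2 : (l : ℤ) ≤ s * s + 2 * s := by
    have := Nat.lt_succ_sqrt l
    have h' : (l : ℤ) < ((s : ℤ) + 1) * ((s : ℤ) + 1) := by exact_mod_cast this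
    linarith
  have hP : (0 : ℤ) < (P : ℤ) := by exact_mod_cast pow_pos Nat.two_pos _
  have hPeq : (2 : ℤ) ^ Cfsg.blockDefect 2 b = (P : ℤ) := by simp [P]
  rw [hPeq] at hsum
  have hall : ∀ c : ℤ, (∀ χ ∈ zeroSet 2 B, c ≤ T χ) → c * (k0 : ℤ) ≤ (l : ℤ) * P := by
    intro c hc
    refine le_trans ?_ hsum
    have := Finset.card_nsmul_le_sum (zeroSet 2 B) T c hc
    rw [nsmul_eq_mul] at this
    linarith
  constructor
  · intro hodd
    have hs0 : (1 : ℤ) ≤ s := by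
      obtain ⟨r, hr⟩ := hodd
      omega
    by_cases hall' : ∀ χ ∈ zeroSet 2 B, (s : ℤ) + 2 ≤ T χ
    · have h := hall _ hall'
      have : (k0 : ℤ) ≤ (s : ℤ) * P := by nlinarith
      exact_mod_cast this
    · push_neg at hall'
      obtain ⟨χ, hχ, hlt⟩ := hall'
      obtain ⟨hTodd, hT1, hrowχ⟩ := hrow χ hχ
      rw [hPeq] at hrowχ
      have hle : T χ ≤ s := by
        obtain ⟨r, hr⟩ := hTodd
        obtain ⟨r', hr'⟩ := hodd
        omega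
      have : (k0 : ℤ) ≤ (s : ℤ) * P := by nlinarith
      exact_mod_cast this
  · intro heven
    by_cases hall' : ∀ χ ∈ zeroSet 2 B, (s : ℤ) + 1 ≤ T χ
    · have h := hall _ hall'
      exact_mod_cast h
    · push_neg at hall'
      obtain ⟨χ, hχ, hlt⟩ := hall'
      obtain ⟨hTodd, hT1, hrowχ⟩ := hrow χ hχ
      rw [hPeq] at hrowχ
      have hle : T χ ≤ (s : ℤ) - 1 := by
        obtain ⟨r, hr⟩ := hTodd
        rw [Nat.not_odd_iff_even] at heven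
        obtain ⟨r', hr'⟩ := heven
        omega
      have hk : (k0 : ℤ) ≤ ((s : ℤ) - 1) * P := by nlinarith
      have : ((s : ℤ) + 1) * (k0 : ℤ) ≤ (l : ℤ) * P := by nlinarith
      exact_mod_cast this

/-- The three halves bound from integral means. -/
theorem three_bound {ι : Type*} [DecidableEq ι] (S Z : Finset ι) (hZ : Z ⊆ S) (ht : ι → ℕ) (T : ι → ℤ) (d : ℕ)
    (hZ0 : ∀ i ∈ Z, ht i = 0) (hpos : ∀ i ∈ S \ Z, 1 ≤ ht i) (hZne : Z.Nonempty)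
    (hodd : ∀ i ∈ Z, Odd (T i) ∧ 1 ≤ T i)
    (hrow : ∀ i ∈ Z, T i ^ 2 + ∑ j ∈ S.erase i, 4 ^ ht j ≤ 2 ^ d * T i)
    (heven : (∀ i ∈ Z, T i ≠ 1) → ∀ i ∈ S \ Z, 2 ^ (ht i + 1) ≤ T i)
    (hsum : (∀ i ∈ Z, T i ≠ 1) → ∑ i ∈ S, T i ≤ 3 * 2 ^ d) :
    3 * S.card ≤ 3 * Z.card + 2 * ∑ i ∈ S \ Z, 2 ^ ht i ∧
      3 * Z.card + 2 * ∑ i ∈ S \ Z, 2 ^ ht i ≤ 3 * 2 ^ d := by
  refine ⟨?_, ?_⟩
  · rw [← Finset.card_sdiff_add_card_eq_card hZ, mul_add, add_comm, Finset.mul_sum]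
    refine Nat.add_le_add_left ?_ _
    rw [mul_comm, ← smul_eq_mul, ← Finset.sum_const]
    refine Finset.sum_le_sum fun i hi => ?_
    have : 2 ^ 1 ≤ 2 ^ ht i := Nat.pow_le_pow_right Nat.two_pos (hpos i hi)
    omega
  suffices h : 3 * (Z.card : ℤ) + 2 * ∑ i ∈ S \ Z, (2 : ℤ) ^ ht i ≤ 3 * 2 ^ d by
    exact_mod_cast h
  by_cases h1 : ∀ i ∈ Z, T i ≠ 1
  · refine le_trans ?_ (hsum h1)
    rw [← Finset.sum_sdiff hZ, add_comm, Finset.mul_sum]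
    refine add_le_add (Finset.sum_le_sum fun i hi => ?_) ?_
    · have := heven h1 i hi
      rw [pow_succ] at this
      linarith
    · have h3 : ∀ i ∈ Z, (3 : ℤ) ≤ T i := fun i hi => by
        obtain ⟨⟨r, hr⟩, hp⟩ := hodd i hi
        have := h1 i hi
        omega
      have := Finset.card_nsmul_le_sum Z T 3 h3
      rw [nsmul_eq_mul] at this
      linarith
  · push_neg at h1
    obtain ⟨i, hi, hi1⟩ := h1
    have h := hrow i hi
    rw [hi1, one_pow, mul_one] at h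
    have he : ∑ j ∈ S, (4 : ℤ) ^ ht j ≤ 2 ^ d := by
      rw [← Finset.add_sum_erase S _ (hZ hi), hZ0 i hi, pow_zero]
      exact h
    have hbound : ∑ j ∈ S \ Z, 2 * (2 : ℤ) ^ ht j + ∑ j ∈ Z, (3 : ℤ) ≤
        ∑ j ∈ S, 3 * (4 : ℤ) ^ ht j := by
      rw [← Finset.sum_sdiff hZ]
      refine add_le_add (Finset.sum_le_sum fun j _ => ?_) (Finset.sum_le_sum fun j hj => ?_)
      · have : (2 : ℤ) ^ ht j ≤ 4 ^ ht j := pow_le_pow_left₀ (by norm_num) (by norm_num) _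
        have h0 : (0 : ℤ) < 2 ^ ht j := pow_pos (by norm_num) _
        linarith
      · rw [hZ0 j hj]; norm_num
    rw [Finset.mul_sum]
    rw [← Finset.mul_sum S] at hbound
    rw [Finset.sum_const, nsmul_eq_mul] at hbound
    linarith

/-- The bounds from a major subsection. -/
theorem major_count (hM : Cfsg.IsPModular 2 M) {u : G} (hu : ∃ k : ℕ, orderOf u = 2 ^ k)
    {K : Subgroup G} (hK : K = CZ u) {b : Set (Cfsg.IrrCharacter K)}
    (hind : Cfsg.IsInducedBlock M K b B)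
    (hbd : Cfsg.blockDefect 2 b = Cfsg.blockDefect 2 B)
    (h : Cfsg.blockRank 2 b ≤ 3 ∨ (mem' B).card ≤ Cfsg.blockRank 2 b + 3) :
    3 * (mem' B).card ≤
      3 * (zeroSet 2 B).card + 2 * ∑ χ ∈ mem' B \ zeroSet 2 B,
        2 ^ Cfsg.blockHeight 2 B (χ : G → ℂ) ∧
    3 * (zeroSet 2 B).card + 2 * ∑ χ ∈ mem' B \ zeroSet 2 B,
        2 ^ Cfsg.blockHeight 2 B (χ : G → ℂ) ≤ 3 * 2 ^ Cfsg.blockDefect 2 B := by
  subst hK
  haveI := hM.2.1
  obtain ⟨T, hzero, hpos, hsum⟩ := exists_major_means hM hu hind hbd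
  set P : ℤ := 2 ^ Cfsg.blockDefect 2 b with hPdef
  set ht := fun χ : Cfsg.IrrCharacter G => Cfsg.blockHeight 2 B (χ : G → ℂ) with hhtdef
  obtain ⟨χ₀, hχ₀, h00⟩ := H41.exists_height_zero (p := 2) (H41.IsPBlock.nonempty hind.2.1)
  have hχ₀' : χ₀ ∈ zeroSet 2 B := Finset.mem_filter.2 ⟨mem_mem'.2 hχ₀, h00⟩
  have hsd : ∀ χ ∈ mem' B \ zeroSet 2 B, χ ∈ mem' B ∧ ht χ ≠ 0 := fun χ hχ => by
    obtain ⟨h1, h2⟩ := Finset.mem_sdiff.1 hχ
    exact ⟨h1, fun h0 => h2 (Finset.mem_filter.2 ⟨h1, h0⟩)⟩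
  have hhpos : ∀ χ ∈ mem' B \ zeroSet 2 B, 1 ≤ ht χ := fun χ hχ =>
    Nat.one_le_iff_ne_zero.2 (hsd χ hχ).2
  rw [← hbd]
  rcases h with h | h
  · refine three_bound (mem' B) (zeroSet 2 B) (Finset.filter_subset _ _) ht T _
      (fun χ hχ => (Finset.mem_filter.1 hχ).2) hhpos ⟨χ₀, hχ₀'⟩
      (fun χ hχ => ⟨(hzero χ hχ).1, (hzero χ hχ).2.1⟩) (fun χ hχ => (hzero χ hχ).2.2)
      (fun _ χ hχ => ?_) (fun _ => ?_)
    · obtain ⟨hd, hp, -⟩ := hpos χ (hsd χ hχ).1 (hsd χ hχ).2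
      exact Int.le_of_dvd hp hd
    · rw [hsum]
      exact mul_le_mul_of_nonneg_right (by exact_mod_cast h) (by positivity)
  · by_cases hd : Cfsg.blockDefect 2 b = 0
    · refine three_bound (mem' B) (zeroSet 2 B) (Finset.filter_subset _ _) ht T _
        (fun χ hχ => (Finset.mem_filter.1 hχ).2) hhpos ⟨χ₀, hχ₀'⟩
        (fun χ hχ => ⟨(hzero χ hχ).1, (hzero χ hχ).2.1⟩) (fun χ hχ => (hzero χ hχ).2.2)
        (fun h1 => absurd ?_ (h1 χ₀ hχ₀')) (fun h1 => absurd ?_ (h1 χ₀ hχ₀'))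
      all_goals
        obtain ⟨-, h1', h2'⟩ := hzero χ₀ hχ₀'
        rw [hPdef, hd, pow_zero, one_mul] at h2'
        have h3 : (0 : ℤ) ≤ ∑ j ∈ (mem' B).erase χ₀, 4 ^ ht j :=
          Finset.sum_nonneg fun j _ => by positivity
        nlinarith
    have hPeven : Even P := by
      rw [hPdef]; exact (even_two).pow_of_ne_zero hd
    have hlt : ∀ χ ∈ mem' B \ zeroSet 2 B, ht χ < Cfsg.blockDefect 2 b := fun χ hχ => by
      obtain ⟨-, -, hrow⟩ := hzero χ₀ hχ₀'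
      have hne : χ ≠ χ₀ := fun e => (hsd χ hχ).2 (e ▸ h00)
      have h4 : (4 : ℤ) ^ ht χ ≤ ∑ j ∈ (mem' B).erase χ₀, 4 ^ ht j :=
        Finset.single_le_sum (f := fun j => (4 : ℤ) ^ ht j) (fun j _ => by positivity)
          (Finset.mem_erase.2 ⟨hne, (hsd χ hχ).1⟩)
      by_contra hge
      push_neg at hge
      have hP4 : (4 : ℤ) ^ Cfsg.blockDefect 2 b = P * P := by
        rw [hPdef, ← mul_pow]; norm_num
      have h5 : (4 : ℤ) ^ Cfsg.blockDefect 2 b ≤ 4 ^ ht χ :=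
        pow_le_pow_right₀ (by norm_num) hge
      have h6 : (0 : ℤ) < P := by rw [hPdef]; positivity
      nlinarith [sq_nonneg (P - 2 * T χ₀), mul_pos h6 h6]
    refine three_bound (mem' B) (zeroSet 2 B) (Finset.filter_subset _ _) ht (fun χ => P - T χ) _
      (fun χ hχ => (Finset.mem_filter.1 hχ).2) hhpos ⟨χ₀, hχ₀'⟩
      (fun χ hχ => ?_) (fun χ hχ => ?_) (fun _ χ hχ => ?_) (fun _ => ?_)
    · obtain ⟨hodd, h1, hrow⟩ := hzero χ hχ
      refine ⟨hPeven.sub_odd hodd, ?_⟩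
      have h3 : (0 : ℤ) ≤ ∑ j ∈ (mem' B).erase χ, 4 ^ ht j :=
        Finset.sum_nonneg fun j _ => by positivity
      have hle : T χ ≤ P := by nlinarith
      have hne : T χ ≠ P := fun e => by
        rw [e] at hodd
        exact (Int.not_odd_iff_even.2 hPeven) hodd
      omega
    · have := (hzero χ hχ).2.2
      nlinarith
    · obtain ⟨hdvd, hp', hltP⟩ := hpos χ (hsd χ hχ).1 (hsd χ hχ).2
      refine Int.le_of_dvd (sub_pos.2 hltP) (dvd_sub ?_ hdvd)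
      exact pow_dvd_pow 2 (hlt χ hχ)
    · rw [Finset.sum_sub_distrib, hsum, Finset.sum_const, nsmul_eq_mul]
      have h' : ((mem' B).card : ℤ) ≤ (Cfsg.blockRank 2 b : ℤ) + 3 := by exact_mod_cast h
      have h6 : (0 : ℤ) ≤ P := by rw [hPdef]; positivity
      nlinarith

theorem card_mem' (S : Set (Cfsg.IrrCharacter G)) : (mem' S).card = Nat.card S := by
  rw [Nat.card_eq_fintype_card, Fintype.card_subtype]
  simp [mem']

theorem card_zeroSet (p : ℕ) : (zeroSet p B).card = Nat.card {χ : Cfsg.IrrCharacter G //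
    χ ∈ B ∧ Cfsg.blockHeight p B (χ : G → ℂ) = 0} := by
  rw [Nat.card_eq_fintype_card, Fintype.card_subtype, zeroSet, mem', Finset.filter_filter]

theorem finsum_pos_height (p : ℕ) :
    (∑ᶠ χ ∈ {χ : Cfsg.IrrCharacter G | χ ∈ B ∧ 1 ≤ Cfsg.blockHeight p B (χ : G → ℂ)},
      2 ^ Cfsg.blockHeight p B (χ : G → ℂ)) =
    ∑ χ ∈ mem' B \ zeroSet p B, 2 ^ Cfsg.blockHeight p B (χ : G → ℂ) := by
  rw [finsum_mem_eq_finite_toFinset_sum _ (Set.toFinite _)]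
  refine Finset.sum_congr ?_ fun _ _ => rfl
  ext χ
  simp only [Set.Finite.mem_toFinset, Set.mem_setOf_eq, Finset.mem_sdiff, zeroSet,
    Finset.mem_filter, mem_mem', not_and, Nat.one_le_iff_ne_zero]
  exact ⟨fun ⟨h1, h2⟩ => ⟨h1, fun _ => h2⟩, fun ⟨h1, h2⟩ => ⟨h1, h2 h1⟩⟩

/-- In a major subsection both blocks have the same defect. -/
theorem blockDefect_eq_of_defectGroup {p : ℕ} [Fact p.Prime] (hM : Cfsg.IsPModular p M)
    (hB : Cfsg.IsPBlock M B) {D : Subgroup G} (hD : Cfsg.IsDefectGroup p M B D) {z : G}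
    (hzc : ∀ d ∈ D, d * z = z * d)
    {b : Set (Cfsg.IrrCharacter (Subgroup.centralizer ({z} : Set G)))} (hb : Cfsg.IsPBlock M b)
    (hbD : Cfsg.IsDefectGroup p M b (D.subgroupOf (Subgroup.centralizer ({z} : Set G)))) :
    Cfsg.blockDefect p b = Cfsg.blockDefect p B := by
  haveI := hM.2.1
  have hle : D ≤ Subgroup.centralizer ({z} : Set G) := fun d hd =>
    Subgroup.mem_centralizer_singleton_iff.2 (hzc d hd)
  have h1 := H40.card_defectGroup hM hB hD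
  have h2 := H40.card_defectGroup hM hb hbD
  rw [Nat.card_congr (Subgroup.subgroupOfEquivOfLe hle).toEquiv, h1] at h2
  exact (Nat.pow_right_injective (Fact.out : p.Prime).two_le h2).symm

/-- Members of a defect group have `p`-power order. -/
theorem exists_orderOf_eq_pow {p : ℕ} [Fact p.Prime] (hM : Cfsg.IsPModular p M)
    (hB : Cfsg.IsPBlock M B) {D : Subgroup G} (hD : Cfsg.IsDefectGroup p M B D) {z : G}
    (hz : z ∈ D) : ∃ k : ℕ, orderOf z = p ^ k := by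
  haveI := hM.2.1
  have h : orderOf z ∣ p ^ Cfsg.blockDefect p B := by
    rw [← H40.card_defectGroup hM hB hD]
    exact Subgroup.orderOf_dvd_natCard D hz
  obtain ⟨i, -, hi⟩ := (Nat.dvd_prime_pow (Fact.out : p.Prime)).1 h
  exact ⟨i, hi⟩

end Cfsg.Agent.H56.Subsec
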