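import Cfsg.Agent.H56.ContribBounds
import Mathlib.LinearAlgebra.FreeModule.PID
import Mathlib.LinearAlgebra.Matrix.ToLinearEquiv

/-!
# Major subsections of rank at most two

The regular restrictions of a block of rank two span a lattice with an integral binary form.  In a
reduced basis the coordinates of the characters give the bound `k(B) ≤ p ^ d`.
-/

set_option autoImplicit false
set_option linter.unusedSectionVars false

open scoped ComplexConjugate

namespace Cfsg.Agent.H56.Subsec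

open Cfsg.Agent.H32
open scoped Classical

variable {G : Type*} [Group G] [Fintype G] {p : ℕ} [hp : Fact p.Prime] {M : Ideal Cfsg.AlgInt}
  {y : G} {b : Set (Cfsg.IrrCharacter (CZ y))} {B : Set (Cfsg.IrrCharacter G)}

theorem classInner_regRes_regRes (φ η : Cfsg.IrrCharacter (CZ y)) :
    Cfsg.classInner (H42.regRes p (φ : CZ y → ℂ)) (H42.regRes p (η : CZ y → ℂ)) =
      Cfsg.classInner (H42.regRes p (φ : CZ y → ℂ)) (η : CZ y → ℂ) := by
  rw [Cfsg.classInner, Cfsg.classInner]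
  congr 1
  refine Finset.sum_congr rfl fun x _ => ?_
  simp only [H42.regRes]
  split_ifs
  · simp
  · rfl

theorem scaledReg_eq_inner [M.IsMaximal] (hb : Cfsg.IsPBlock M b)
    {φ : Cfsg.IrrCharacter (CZ y)} (hφ : φ ∈ b) (η : Cfsg.IrrCharacter (CZ y)) :
    (scaledReg p b φ η : ℂ) = (p : ℂ) ^ Cfsg.blockDefect p b *
      Cfsg.classInner (H42.regRes p (φ : CZ y → ℂ)) (H42.regRes p (η : CZ y → ℂ)) := by
  obtain ⟨ξ, hξ, hξ0⟩ := H41.exists_height_zero (p := p) (H41.IsPBlock.nonempty hb)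
  have hva := (H42.blockHeight_eq_zero_iff (p := p) hb hξ).1 hξ0
  rw [H41.factorization_eq_of_height_zero hξ hξ0] at hva
  have hspec := H42.regInt_spec p φ η
  rw [← cast_scaledReg (F := ℂ) hφ η, Nat.cast_pow, ← hva, pow_add] at hspec
  rw [classInner_regRes_regRes]
  exact mul_right_cancel₀ (pow_ne_zero (minVal p b) (Nat.cast_ne_zero.2 hp.out.ne_zero : (p : ℂ) ≠ 0))
    (by rw [hspec]; ring)

theorem classInner_self_eq_zero {H : Type*} [Group H] [Fintype H] {u : H → ℂ}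
    (h : Cfsg.classInner u u = 0) : u = 0 := by
  have h1 : ((∑ x : H, ‖u x‖ ^ 2 : ℝ) : ℂ) = 0 := by
    rw [Cfsg.classInner] at h
    have h2 := (mul_eq_zero.1 h).resolve_left (inv_ne_zero (Nat.cast_ne_zero.2 Nat.card_pos.ne'))
    rw [Complex.ofReal_sum]
    refine Eq.trans (Finset.sum_congr rfl fun x _ => ?_) h2
    rw [Complex.mul_conj', Complex.ofReal_pow]
  have h3 : ∑ x : H, ‖u x‖ ^ 2 = 0 := by exact_mod_cast h1
  ext x
  have := (Finset.sum_eq_zero_iff_of_nonneg fun x _ => sq_nonneg ‖u x‖).1 h3 x (Finset.mem_univ x)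
  exact norm_eq_zero.1 ((pow_eq_zero_iff two_ne_zero).1 this)

/-- Coordinates for the contributions of a rank two block. -/
structure Coords (p : ℕ) (y : G) (b : Set (Cfsg.IrrCharacter (CZ y)))
    (B : Set (Cfsg.IrrCharacter G)) (α β γ : ℤ) where
  /-- the first coordinate, with its twists -/
  u : Cfsg.IrrCharacter G → ℕ → ℂ
  /-- the second coordinate, with its twists -/
  v : Cfsg.IrrCharacter G → ℕ → ℂ
  u_int : ∀ χ, IsIntegral ℤ (u χ 1)
  v_int : ∀ χ, IsIntegral ℤ (v χ 1)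
  u_twist : ∀ (N : ℕ), y ^ N = 1 → ∀ χ, Twist.IsTwist N (u χ 1) (u χ)
  v_twist : ∀ (N : ℕ), y ^ N = 1 → ∀ χ, Twist.IsTwist N (v χ 1) (v χ)
  cont_eq : ∀ χ ψ k, cont p y b χ ψ k = (α : ℂ) * (u χ k * conj (u ψ k)) +
    (β : ℂ) * (u χ k * conj (v ψ k) + v χ k * conj (u ψ k)) + (γ : ℂ) * (v χ k * conj (v ψ k))
  pos : ∀ s t : ℤ, (s ≠ 0 ∨ t ≠ 0) → 0 < α * s ^ 2 + 2 * β * s * t + γ * t ^ 2
  dvd : (p : ℤ) ∣ α * γ - β ^ 2
  gram_u : ∀ (N : ℕ), N ≠ 0 → y ^ N = 1 → ∀ k ∈ Twist.units N,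
    (∑ χ ∈ mem' B, ‖u χ k‖ ^ 2) * ((α * γ - β ^ 2 : ℤ) : ℝ) =
      (p : ℝ) ^ Cfsg.blockDefect p b * (γ : ℝ)
  gram_v : ∀ (N : ℕ), N ≠ 0 → y ^ N = 1 → ∀ k ∈ Twist.units N,
    (∑ χ ∈ mem' B, ‖v χ k‖ ^ 2) * ((α * γ - β ^ 2 : ℤ) : ℝ) =
      (p : ℝ) ^ Cfsg.blockDefect p b * (α : ℝ)
  gram_uv : ∀ (N : ℕ), N ≠ 0 → y ^ N = 1 → ∀ k ∈ Twist.units N,
    (∑ χ ∈ mem' B, (u χ k * conj (v χ k)).re) * ((α * γ - β ^ 2 : ℤ) : ℝ) =
      -((p : ℝ) ^ Cfsg.blockDefect p b * (β : ℝ))

namespace Coords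

variable {α β γ : ℤ}

/-- Exchange of the coordinates. -/
noncomputable def swap (X : Coords p y b B α β γ) : Coords p y b B γ β α where
  u := X.v
  v := X.u
  u_int := X.v_int
  v_int := X.u_int
  u_twist := X.v_twist
  v_twist := X.u_twist
  cont_eq χ ψ k := by rw [X.cont_eq]; ring
  pos s t h := by
    have := X.pos t s h.symm
    linarith
  dvd := by rw [mul_comm]; exact X.dvd
  gram_u N h0 hN k hk := by rw [mul_comm γ α]; exact X.gram_v N h0 hN k hk
  gram_v N h0 hN k hk := by rw [mul_comm γ α]; exact X.gram_u N h0 hN k hk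
  gram_uv N h0 hN k hk := by
    rw [mul_comm γ α, ← X.gram_uv N h0 hN k hk]
    congr 1
    refine Finset.sum_congr rfl fun χ _ => ?_
    rw [← Complex.conj_re (X.u χ k * conj (X.v χ k)), map_mul, Complex.conj_conj, mul_comm]

/-- A transvection of the basis. -/
noncomputable def shear (X : Coords p y b B α β γ) (s : ℤ) :
    Coords p y b B α (β + s * α) (γ + 2 * s * β + s ^ 2 * α) where
  u χ k := X.u χ k - (s : ℂ) * X.v χ k
  v := X.v
  u_int χ := (X.u_int χ).sub ((isIntegral_algebraMap (R := ℤ) (x := s)).mul (X.v_int χ))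
  v_int := X.v_int
  u_twist N hN χ σ i hσ := by
    rw [map_sub, map_mul, map_intCast, X.u_twist N hN χ σ i hσ, X.v_twist N hN χ σ i hσ]
  v_twist := X.v_twist
  cont_eq χ ψ k := by
    rw [X.cont_eq]
    simp only [map_sub, map_mul, map_intCast]
    push_cast
    ring
  pos a c h := by
    have := X.pos (a + s * c) c (by
      rcases eq_or_ne c 0 with rfl | hc
      · left; simpa using h
      · exact Or.inr hc)
    linarith [this, show α * (a + s * c) ^ 2 + 2 * β * (a + s * c) * c + γ * c ^ 2 =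
      α * a ^ 2 + 2 * (β + s * α) * a * c + (γ + 2 * s * β + s ^ 2 * α) * c ^ 2 by ring]
  dvd := by
    rw [show α * (γ + 2 * s * β + s ^ 2 * α) - (β + s * α) ^ 2 = α * γ - β ^ 2 by ring]
    exact X.dvd
  gram_u N h0 hN k hk := by
    rw [show α * (γ + 2 * s * β + s ^ 2 * α) - (β + s * α) ^ 2 = α * γ - β ^ 2 by ring]
    have hexp : ∀ χ, ‖X.u χ k - (s : ℂ) * X.v χ k‖ ^ 2 = ‖X.u χ k‖ ^ 2 -
        2 * (s : ℝ) * (X.u χ k * conj (X.v χ k)).re + (s : ℝ) ^ 2 * ‖X.v χ k‖ ^ 2 := by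
      intro χ
      simp only [Complex.sq_norm, Complex.normSq_apply, Complex.sub_re, Complex.sub_im,
        Complex.mul_re, Complex.mul_im, Complex.conj_re, Complex.conj_im, Complex.intCast_re,
        Complex.intCast_im]
      ring
    simp only [hexp, Finset.sum_add_distrib, Finset.sum_sub_distrib, ← Finset.mul_sum]
    have h1 := X.gram_u N h0 hN k hk
    have h2 := X.gram_v N h0 hN k hk
    have h3 := X.gram_uv N h0 hN k hk
    push_cast at h1 h2 h3 ⊢
    linear_combination h1 - 2 * (s : ℝ) * h3 + (s : ℝ) ^ 2 * h2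
  gram_v N h0 hN k hk := by
    rw [show α * (γ + 2 * s * β + s ^ 2 * α) - (β + s * α) ^ 2 = α * γ - β ^ 2 by ring]
    exact X.gram_v N h0 hN k hk
  gram_uv N h0 hN k hk := by
    rw [show α * (γ + 2 * s * β + s ^ 2 * α) - (β + s * α) ^ 2 = α * γ - β ^ 2 by ring]
    have hexp : ∀ χ, ((X.u χ k - (s : ℂ) * X.v χ k) * conj (X.v χ k)).re =
        (X.u χ k * conj (X.v χ k)).re - (s : ℝ) * ‖X.v χ k‖ ^ 2 := by
      intro χ
      simp only [Complex.sq_norm, Complex.normSq_apply, Complex.sub_re, Complex.sub_im,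
        Complex.mul_re, Complex.mul_im, Complex.conj_re, Complex.conj_im, Complex.intCast_re,
        Complex.intCast_im]
      ring
    simp only [hexp, Finset.sum_sub_distrib, ← Finset.mul_sum]
    have h2 := X.gram_v N h0 hN k hk
    have h3 := X.gram_uv N h0 hN k hk
    push_cast at h2 h3 ⊢
    linear_combination h3 - (s : ℝ) * h2

theorem diag_pos (X : Coords p y b B α β γ) : 0 < α ∧ 0 < γ := by
  have h1 := X.pos 1 0 (Or.inl one_ne_zero)
  have h2 := X.pos 0 1 (Or.inr one_ne_zero)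
  simp at h1 h2
  exact ⟨h1, h2⟩

/-- A reduced basis. -/
theorem exists_reduced (X : Coords p y b B α β γ) :
    ∃ (α' β' γ' : ℤ) (_ : Coords p y b B α' β' γ'), 2 * |β'| ≤ α' ∧ 2 * |β'| ≤ γ' := by
  induction hn : (α + γ).toNat using Nat.strong_induction_on generalizing α β γ with
  | _ n ih =>
    obtain ⟨hα, hγ⟩ := X.diag_pos
    by_cases h1 : 2 * |β| ≤ α
    · by_cases h2 : 2 * |β| ≤ γ
      · exact ⟨α, β, γ, X, h1, h2⟩
      · push_neg at h2
        set s : ℤ := if 0 ≤ β then -1 else 1 with hs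
        have hs2 : s ^ 2 = 1 := by rw [hs]; split_ifs <;> norm_num
        have hsb : s * β = -|β| := by
          rw [hs]; split_ifs with h
          · rw [abs_of_nonneg h]; ring
          · rw [abs_of_neg (not_le.1 h)]; ring
        have Y := X.swap.shear s
        refine ih _ ?_ Y rfl
        obtain ⟨-, hY⟩ := Y.diag_pos
        rw [hs2, one_mul] at hY ⊢
        rw [← hn]
        have : 2 * s * β = -(2 * |β|) := by rw [mul_assoc, hsb]; ring
        omega
    · push_neg at h1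
      set s : ℤ := if 0 ≤ β then -1 else 1 with hs
      have hs2 : s ^ 2 = 1 := by rw [hs]; split_ifs <;> norm_num
      have hsb : s * β = -|β| := by
        rw [hs]; split_ifs with h
        · rw [abs_of_nonneg h]; ring
        · rw [abs_of_neg (not_le.1 h)]; ring
      have Y := X.shear s
      refine ih _ ?_ Y rfl
      obtain ⟨-, hY⟩ := Y.diag_pos
      rw [hs2, one_mul] at hY ⊢
      rw [← hn]
      have : 2 * s * β = -(2 * |β|) := by rw [mul_assoc, hsb]; ring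
      omega

end Coords

/-- Coordinates exist when the rank is two. -/
theorem exists_coords (hM : Cfsg.IsPModular p M) (hy : ∃ k : ℕ, orderOf y = p ^ k)
    (hind : Cfsg.IsInducedBlock M (CZ y) b B) (hl : Cfsg.blockRank p b = 2) :
    ∃ α β γ : ℤ, Nonempty (Coords p y b B α β γ) := by
  haveI := hM.2.1
  have hb := hind.1
  set q := Cfsg.blockDefect p b
  have hP0 : (p : ℂ) ^ q ≠ 0 := pow_ne_zero _ (Nat.cast_ne_zero.2 hp.out.ne_zero)
  set L : Submodule ℤ (CZ y → ℂ) :=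
    Submodule.span ℤ ((fun φ : Cfsg.IrrCharacter (CZ y) => H42.regRes p (φ : CZ y → ℂ)) '' b)
  haveI : Module.Finite ℤ L := Module.Finite.iff_fg.2 (Submodule.fg_span (Set.toFinite _))
  haveI : Module.Free ℤ L := Module.free_of_finite_type_torsion_free'
  let bas := Module.Free.chooseBasis ℤ L
  -- the form is integral
  have hform : ∀ u ∈ L, ∀ v ∈ L, ∃ z : ℤ, (z : ℂ) = (p : ℂ) ^ q * Cfsg.classInner u v := by
    intro u hu v hv
    induction hu, hv using Submodule.span_induction₂ with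
    | mem_mem u v hu hv =>
      obtain ⟨φ, hφ, rfl⟩ := hu
      obtain ⟨η, hη, rfl⟩ := hv
      exact ⟨_, scaledReg_eq_inner hb hφ η⟩
    | zero_left v _ => exact ⟨0, by simp [Cfsg.classInner]⟩
    | zero_right u _ => exact ⟨0, by simp [Cfsg.classInner]⟩
    | add_left u v w _ _ _ h1 h2 =>
      obtain ⟨z1, h1⟩ := h1
      obtain ⟨z2, h2⟩ := h2
      exact ⟨z1 + z2, by rw [H26.classInner_add_left, mul_add, ← h1, ← h2]; push_cast; rfl⟩
    | add_right u v w _ _ _ h1 h2 =>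
      obtain ⟨z1, h1⟩ := h1
      obtain ⟨z2, h2⟩ := h2
      exact ⟨z1 + z2, by rw [H26.classInner_add_right, mul_add, ← h1, ← h2]; push_cast; rfl⟩
    | smul_left n u v _ _ h1 =>
      obtain ⟨z1, h1⟩ := h1
      refine ⟨n * z1, ?_⟩
      rw [← Int.cast_smul_eq_zsmul ℂ, H26.classInner_smul_left, mul_left_comm, ← h1]
      push_cast; ring
    | smul_right n u v _ _ h1 =>
      obtain ⟨z1, h1⟩ := h1
      refine ⟨n * z1, ?_⟩
      rw [← Int.cast_smul_eq_zsmul ℂ, H26.classInner_smul_right, map_intCast, mul_left_comm, ← h1]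
      push_cast; ring
  -- the Gram matrix of the lattice basis
  let e : Module.Free.ChooseBasisIndex ℤ L → (CZ y → ℂ) := fun i => (bas i : L)
  choose Q hQ using fun i j => hform (e i) (bas i).2 (e j) (bas j).2
  have hQdef : ∀ (w : Module.Free.ChooseBasisIndex ℤ L → ℤ),
      (((∑ i, ∑ j, w i * Q i j * w j : ℤ)) : ℂ) = (p : ℂ) ^ q *
        Cfsg.classInner (∑ i, (w i : ℂ) • e i) (∑ j, (w j : ℂ) • e j) := by
    intro w
    simp only [H26.classInner_sum_left]
    simp only [H26.classInner_sum_right, H26.classInner_smul_left,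
      H26.classInner_smul_right, map_intCast, Finset.mul_sum]
    push_cast
    refine Finset.sum_congr rfl fun i _ => Finset.sum_congr rfl fun j _ => ?_
    rw [hQ]; ring
  have hzero : ∀ (w : Module.Free.ChooseBasisIndex ℤ L → ℤ),
      ∑ i, ∑ j, w i * Q i j * w j = 0 → w = 0 := by
    intro w hw
    have h := hQdef w
    rw [hw, Int.cast_zero, eq_comm, mul_eq_zero, or_iff_right hP0] at h
    have hz := classInner_self_eq_zero h
    have hL : ∑ i, w i • bas i = 0 := by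
      apply Subtype.ext
      rw [AddSubmonoidClass.coe_finsetSum, ZeroMemClass.coe_zero, ← hz]
      exact Finset.sum_congr rfl fun i _ => by
        rw [SetLike.val_smul, ← Int.cast_smul_eq_zsmul ℂ]
    exact funext (Fintype.linearIndependent_iff.1 bas.linearIndependent w hL)
  -- independence over the complex numbers
  have hdet : (Matrix.of fun i j => Q i j).det ≠ 0 := by
    intro h0
    obtain ⟨w, hw0, hw⟩ := Matrix.exists_mulVec_eq_zero_iff.2 h0
    refine hw0 (hzero w ?_)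
    refine Finset.sum_eq_zero fun i _ => ?_
    have := congrFun hw i
    simp only [Matrix.mulVec, dotProduct, Matrix.of_apply, Pi.zero_apply] at this
    simp only [mul_assoc, ← Finset.mul_sum, this, mul_zero]
  have hindep : LinearIndependent ℂ e := by
    rw [Fintype.linearIndependent_iff]
    intro g hg
    have hrow : Matrix.mulVec ((Matrix.of fun i j => Q i j).map ((↑) : ℤ → ℂ)).transpose g = 0 := by
      ext j
      have h := congrArg (fun f => (p : ℂ) ^ q * Cfsg.classInner f (e j)) hg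
      simp only [H26.classInner_sum_left, H26.classInner_smul_left, Finset.mul_sum] at h
      simp only [Matrix.mulVec, dotProduct, Matrix.transpose_apply, Matrix.map_apply,
        Matrix.of_apply, Pi.zero_apply]
      refine Eq.trans (Finset.sum_congr rfl fun i _ => ?_) (h.trans (by simp [Cfsg.classInner]))
      rw [hQ]; ring
    by_contra hne
    have h0 := Matrix.exists_mulVec_eq_zero_iff.1 ⟨g, fun h => hne fun i => congrFun h i, hrow⟩
    rw [Matrix.det_transpose, show ((Matrix.of fun i j => Q i j).map ((↑) : ℤ → ℂ)) =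
      (Matrix.of fun i j => Q i j).map (Int.castRingHom ℂ) from rfl,
      ← RingHom.mapMatrix_apply, ← RingHom.map_det] at h0
    exact hdet (by simpa using h0)
  set E := Submodule.span ℂ ((fun φ : Cfsg.IrrCharacter (CZ y) =>
    Cfsg.pRegularPart p (φ : CZ y → ℂ)) '' b) with hEdef
  have hreg : ∀ φ : Cfsg.IrrCharacter (CZ y),
      H42.regRes p (φ : CZ y → ℂ) = Cfsg.pRegularPart p (φ : CZ y → ℂ) := fun φ => by
    ext x
    by_cases hx : p ∣ orderOf x <;> simp [H42.regRes, Cfsg.pRegularPart, Cfsg.IsPRegular, hx]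
  have hspan : Submodule.span ℂ (Set.range e) = E := by
    refine le_antisymm (Submodule.span_le.2 ?_) (Submodule.span_le.2 ?_)
    · rintro _ ⟨i, rfl⟩
      have hle : L ≤ E.restrictScalars ℤ := Submodule.span_le.2 (by
        rintro _ ⟨φ, hφ, rfl⟩
        exact Submodule.subset_span ⟨φ, hφ, (hreg φ).symm⟩)
      exact hle (bas i).2
    · rintro _ ⟨φ, hφ, rfl⟩
      have hmem : H42.regRes p (φ : CZ y → ℂ) ∈ L := Submodule.subset_span ⟨φ, hφ, rfl⟩
      have h : (((∑ i, bas.repr ⟨_, hmem⟩ i • bas i : L)) : CZ y → ℂ) =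
          H42.regRes p (φ : CZ y → ℂ) :=
        congrArg (Subtype.val : L → CZ y → ℂ) (bas.sum_repr ⟨_, hmem⟩)
      rw [AddSubmonoidClass.coe_finsetSum] at h
      show Cfsg.pRegularPart p (φ : CZ y → ℂ) ∈ Submodule.span ℂ (Set.range e)
      rw [← hreg, ← h]
      refine Submodule.sum_mem _ fun i _ => ?_
      rw [SetLike.val_smul, ← Int.cast_smul_eq_zsmul ℂ]
      exact Submodule.smul_mem _ _ (Submodule.subset_span ⟨i, rfl⟩)
  have hcard : Fintype.card (Module.Free.ChooseBasisIndex ℤ L) = 2 := by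
    rw [← finrank_span_eq_card hindep, hspan]
    exact hl
  let σ := (Fintype.equivFinOfCardEq hcard).symm
  -- coefficients of the restrictions
  let m : Cfsg.IrrCharacter (CZ y) → Fin 2 → ℤ := fun φ i =>
    if h : φ ∈ b then bas.repr ⟨_, Submodule.subset_span ⟨φ, h, rfl⟩⟩ (σ i) else 0
  let E0 := e (σ 0)
  let E1 := e (σ 1)
  have hdec : ∀ φ ∈ b, H42.regRes p (φ : CZ y → ℂ) =
      (m φ 0 : ℂ) • E0 + (m φ 1 : ℂ) • E1 := by
    intro φ hφ
    have h := congrArg (Subtype.val : L → CZ y → ℂ)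
      (bas.sum_repr ⟨_, Submodule.subset_span ⟨φ, hφ, rfl⟩⟩)
    rw [AddSubmonoidClass.coe_finsetSum, ← σ.sum_comp, Fin.sum_univ_two] at h
    simp only [SetLike.val_smul, ← Int.cast_smul_eq_zsmul ℂ] at h
    simp only [m, dif_pos hφ]
    exact h.symm
  set α := Q (σ 0) (σ 0)
  set β := Q (σ 0) (σ 1)
  set γ := Q (σ 1) (σ 1)
  have hα : (α : ℂ) = (p : ℂ) ^ q * Cfsg.classInner E0 E0 := hQ _ _
  have hβ : (β : ℂ) = (p : ℂ) ^ q * Cfsg.classInner E0 E1 := hQ _ _
  have hγ : (γ : ℂ) = (p : ℂ) ^ q * Cfsg.classInner E1 E1 := hQ _ _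
  have hβ' : (β : ℂ) = (p : ℂ) ^ q * Cfsg.classInner E1 E0 := by
    have h := congrArg conj hβ
    rw [map_intCast, map_mul, map_pow, map_natCast] at h
    rw [h]
    congr 1
    simp only [Cfsg.classInner, map_mul, map_inv₀, map_natCast, map_sum, Complex.conj_conj]
    exact congrArg _ (Finset.sum_congr rfl fun x _ => mul_comm _ _)
  let u : Cfsg.IrrCharacter G → ℕ → ℂ := fun χ k =>
    ∑ φ ∈ mem' b, (mult y χ φ : ℂ) * scal y φ ^ k * (m φ 0 : ℂ)
  let v : Cfsg.IrrCharacter G → ℕ → ℂ := fun χ k =>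
    ∑ φ ∈ mem' b, (mult y χ φ : ℂ) * scal y φ ^ k * (m φ 1 : ℂ)
  have hpart : ∀ χ c, bpart p y b χ c = u χ 1 * E0 c + v χ 1 * E1 c := by
    intro χ c
    rw [bpart_apply]
    simp only [u, v, Finset.sum_mul, pow_one, ← Finset.sum_add_distrib]
    refine Finset.sum_congr rfl fun φ hφ => ?_
    rw [congrFun (hdec φ (mem_mem'.1 hφ)) c]
    simp only [Pi.add_apply, Pi.smul_apply, smul_eq_mul]
    ring
  have hS : ∀ φ ∈ b, ∀ η ∈ b, (scaledReg p b φ η : ℂ) = (α : ℂ) * (m φ 0 * m η 0) +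
      (β : ℂ) * (m φ 0 * m η 1 + m φ 1 * m η 0) + (γ : ℂ) * (m φ 1 * m η 1) := by
    intro φ hφ η hη
    rw [scaledReg_eq_inner hb hφ η, hdec φ hφ, hdec η hη]
    simp only [H26.classInner_add_left, H26.classInner_add_right, H26.classInner_smul_left,
      H26.classInner_smul_right, map_intCast]
    linear_combination -((m φ 0 : ℂ) * m η 0) * hα - ((m φ 0 : ℂ) * m η 1) * hβ -
      ((m φ 1 : ℂ) * m η 0) * hβ' - ((m φ 1 : ℂ) * m η 1) * hγ
  -- a basis element is a combination of the restrictions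
  have hcomb : ∀ w ∈ L, ∃ r : Cfsg.IrrCharacter (CZ y) → ℤ,
      w = ∑ φ ∈ mem' b, (r φ : ℂ) • H42.regRes p (φ : CZ y → ℂ) := by
    intro w hw
    induction hw using Submodule.span_induction with
    | mem w hw =>
      obtain ⟨φ, hφ, rfl⟩ := hw
      refine ⟨fun η => if η = φ then 1 else 0, ?_⟩
      rw [Finset.sum_eq_single φ (fun η _ h => by simp [h])
        (fun h => absurd (mem_mem'.2 hφ) h)]
      simp
    | zero => exact ⟨fun _ => 0, by simp⟩
    | add u v _ _ h1 h2 =>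
      obtain ⟨r1, rfl⟩ := h1
      obtain ⟨r2, rfl⟩ := h2
      exact ⟨r1 + r2, by simp [Finset.sum_add_distrib, add_smul]⟩
    | smul n u _ h1 =>
      obtain ⟨r, rfl⟩ := h1
      refine ⟨n • r, ?_⟩
      rw [← Int.cast_smul_eq_zsmul ℂ, Finset.smul_sum]
      refine Finset.sum_congr rfl fun φ _ => ?_
      rw [smul_smul]
      simp
  obtain ⟨ξ, hξ, hξ0⟩ := H41.exists_height_zero (p := p) (H41.IsPBlock.nonempty hb)
  have hmod : ∀ w ∈ L, ∀ w' ∈ L, ∀ (z : ℤ), (z : ℂ) = (p : ℂ) ^ q * Cfsg.classInner w w' →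
      ∀ r r' : Cfsg.IrrCharacter (CZ y) → ℤ,
      w = ∑ φ ∈ mem' b, (r φ : ℂ) • H42.regRes p (φ : CZ y → ℂ) →
      w' = ∑ φ ∈ mem' b, (r' φ : ℂ) • H42.regRes p (φ : CZ y → ℂ) →
      (p : ℤ) ∣ z * scaledDeg p b ξ * scaledDeg p b ξ - scaledReg p b ξ ξ *
        (∑ φ ∈ mem' b, r φ * scaledDeg p b φ) * (∑ φ ∈ mem' b, r' φ * scaledDeg p b φ) := by
    intro w _ w' _ z hz r r' hr hr'
    have hzeq : z = ∑ φ ∈ mem' b, ∑ η ∈ mem' b, r φ * r' η * scaledReg p b φ η := by
      have : (z : ℂ) =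
          ((∑ φ ∈ mem' b, ∑ η ∈ mem' b, r φ * r' η * scaledReg p b φ η : ℤ) : ℂ) := by
        rw [hz, hr, hr']
        simp only [H26.classInner_sum_left]
        simp only [H26.classInner_sum_right, H26.classInner_smul_left,
          H26.classInner_smul_right, map_intCast, Finset.mul_sum]
        push_cast
        refine Finset.sum_congr rfl fun φ hφ => Finset.sum_congr rfl fun η _ => ?_
        rw [scaledReg_eq_inner hb (mem_mem'.1 hφ) η]; ring
      exact_mod_cast this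
    rw [hzeq, mul_assoc (scaledReg p b ξ ξ), Finset.sum_mul_sum, Finset.mul_sum,
      Finset.sum_mul, Finset.sum_mul, ← Finset.sum_sub_distrib]
    refine Finset.dvd_sum fun φ hφ => ?_
    rw [Finset.sum_mul, Finset.sum_mul, Finset.mul_sum, ← Finset.sum_sub_distrib]
    refine Finset.dvd_sum fun η hη => ?_
    refine ((dvd_scaledReg_rank_one hM hb (mem_mem'.1 hφ) (mem_mem'.1 hη)
      hξ).mul_left (r φ * r' η)).trans (dvd_of_eq ?_)
    ring
  have hdvd : (p : ℤ) ∣ α * γ - β ^ 2 := by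
    obtain ⟨r0, hr0⟩ := hcomb E0 (bas (σ 0)).2
    obtain ⟨r1, hr1⟩ := hcomb E1 (bas (σ 1)).2
    have ha := hmod E0 (bas (σ 0)).2 E0 (bas (σ 0)).2 α hα r0 r0 hr0 hr0
    have hb' := hmod E0 (bas (σ 0)).2 E1 (bas (σ 1)).2 β hβ r0 r1 hr0 hr1
    have hc := hmod E1 (bas (σ 1)).2 E1 (bas (σ 1)).2 γ hγ r1 r1 hr1 hr1
    set D := scaledDeg p b ξ
    set S := scaledReg p b ξ ξ
    set d0 := ∑ φ ∈ mem' b, r0 φ * scaledDeg p b φ
    set d1 := ∑ φ ∈ mem' b, r1 φ * scaledDeg p b φ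
    have h : (p : ℤ) ∣ (α * γ - β ^ 2) * (D * D * (D * D)) := by
      have h' := dvd_sub (dvd_add (ha.mul_right (γ * D * D)) (hc.mul_right (S * d0 * d0)))
        (dvd_add (hb'.mul_right (β * D * D)) (hb'.mul_right (S * d0 * d1)))
      refine h'.trans (dvd_of_eq ?_)
      ring
    have hpp := Nat.prime_iff_prime_int.1 hp.out
    have hD := not_dvd_scaledDeg (p := p) hξ hξ0
    rcases hpp.dvd_mul.1 h with h | h
    · exact h
    · exfalso
      rcases hpp.dvd_mul.1 h with h | h <;> rcases hpp.dvd_mul.1 h with h | h <;> exact hD h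
  -- column orthogonality in coordinates
  have hfix : ∀ w ∈ L, ∀ s : CZ y, ∑ t : CZ y, projKernel p b s t * w t = w s := by
    intro w hw s
    have h := isProj_projKernel (weakOrthogonal_of_isPBlock (C := CZ y) hM hb)
    have hle : L ≤ E.restrictScalars ℤ := Submodule.span_le.2 (by
      rintro _ ⟨φ, hφ, rfl⟩
      exact Submodule.subset_span ⟨φ, hφ, (hreg φ).symm⟩)
    exact congrFun (h.map_id w (hle hw)) s
  set SA : ℂ := ∑ χ ∈ mem' B, u χ 1 * conj (u χ 1)
  set SB : ℂ := ∑ χ ∈ mem' B, u χ 1 * conj (v χ 1)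
  set SB' : ℂ := ∑ χ ∈ mem' B, v χ 1 * conj (u χ 1)
  set SC : ℂ := ∑ χ ∈ mem' B, v χ 1 * conj (v χ 1)
  have hcol : ∀ w ∈ L, ∀ s, (p : ℂ) ^ q * w s =
      (SA * ((p : ℂ) ^ q * Cfsg.classInner w E0) + SB * ((p : ℂ) ^ q * Cfsg.classInner w E1)) * E0 s +
      (SB' * ((p : ℂ) ^ q * Cfsg.classInner w E0) +
        SC * ((p : ℂ) ^ q * Cfsg.classInner w E1)) * E1 s := by
    intro w hw s
    have hC : (Nat.card (CZ y) : ℂ) ≠ 0 := Nat.cast_ne_zero.2 Nat.card_pos.ne'
    have h1 : (Nat.card (CZ y) : ℂ) * w s =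
        ∑ t : CZ y, ∑ χ ∈ mem' B, bpart p y b χ s * conj (bpart p y b χ t) * w t := by
      rw [← hfix w hw s, Finset.mul_sum]
      refine Finset.sum_congr rfl fun t _ => ?_
      rw [← Finset.sum_mul, sum_bpart_mul hM hy hind]
      ring
    rw [Finset.sum_comm] at h1
    simp only [hpart, map_add, map_mul] at h1
    simp only [SA, SB, SB', SC, Cfsg.classInner, Finset.sum_mul, ← Finset.sum_add_distrib]
    have h2 : w s = (Nat.card (CZ y) : ℂ)⁻¹ * ((Nat.card (CZ y) : ℂ) * w s) := by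
      rw [inv_mul_cancel_left₀ hC]
    rw [h2, h1, Finset.mul_sum, Finset.mul_sum]
    refine Finset.sum_congr rfl fun χ _ => ?_
    simp only [Finset.mul_sum, Finset.sum_mul, ← Finset.sum_add_distrib]
    exact Finset.sum_congr rfl fun t _ => by ring
  have hpair : LinearIndependent ℂ ![E0, E1] := by
    have h := hindep.comp σ σ.injective
    convert h using 1
    ext i : 1
    fin_cases i <;> rfl
  have hsolve : ∀ c0 c1 : ℂ, (∀ s, c0 * E0 s + c1 * E1 s = 0) → c0 = 0 ∧ c1 = 0 := by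
    intro c0 c1 h
    exact LinearIndependent.pair_iff.1 hpair c0 c1 (funext fun s => by
      simpa [Pi.add_apply, Pi.smul_apply, smul_eq_mul] using h s)
  have hc0 := hsolve ((SA * α + SB * β) - (p : ℂ) ^ q) (SB' * α + SC * β) fun s => by
    rw [hα, hβ]
    linear_combination -(hcol E0 (bas (σ 0)).2 s)
  have hc1 := hsolve (SA * β + SB * γ) ((SB' * β + SC * γ) - (p : ℂ) ^ q) fun s => by
    rw [hβ', hγ]
    linear_combination -(hcol E1 (bas (σ 1)).2 s)
  obtain ⟨h00, h10⟩ := hc0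
  obtain ⟨h01, h11⟩ := hc1
  set Δ : ℤ := α * γ - β ^ 2
  have hΔ : ((Δ : ℤ) : ℂ) = (α : ℂ) * γ - (β : ℂ) ^ 2 := by simp [Δ]
  have hSA : SA * (Δ : ℂ) = (p : ℂ) ^ q * (γ : ℂ) := by
    rw [hΔ]; linear_combination (γ : ℂ) * h00 - (β : ℂ) * h01
  have hSB : SB * (Δ : ℂ) = -((p : ℂ) ^ q * (β : ℂ)) := by
    rw [hΔ]; linear_combination (α : ℂ) * h01 - (β : ℂ) * h00
  have hSC : SC * (Δ : ℂ) = (p : ℂ) ^ q * (α : ℂ) := by
    rw [hΔ]; linear_combination (α : ℂ) * h11 - (β : ℂ) * h10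
  have htw : ∀ (i : Fin 2) (N : ℕ), y ^ N = 1 → ∀ χ : Cfsg.IrrCharacter G,
      Twist.IsTwist N (∑ φ ∈ mem' b, (mult y χ φ : ℂ) * scal y φ ^ 1 * (m φ i : ℂ))
        (fun k => ∑ φ ∈ mem' b, (mult y χ φ : ℂ) * scal y φ ^ k * (m φ i : ℂ)) := by
    intro i N hN χ τ k hτ
    rw [map_sum]
    refine Finset.sum_congr rfl fun φ _ => ?_
    rw [map_mul, map_mul, map_natCast, map_intCast, pow_one, hτ _ (scal_pow y hN φ)]
  have htwist : ∀ (N : ℕ), N ≠ 0 → y ^ N = 1 → ∀ k ∈ Twist.units N, ∀ (f g : Fin 2),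
      ∃ τ : ℂ ≃+* ℂ, τ (∑ χ ∈ mem' B,
          (∑ φ ∈ mem' b, (mult y χ φ : ℂ) * scal y φ ^ 1 * (m φ f : ℂ)) *
            conj (∑ φ ∈ mem' b, (mult y χ φ : ℂ) * scal y φ ^ 1 * (m φ g : ℂ))) =
        ∑ χ ∈ mem' B, (∑ φ ∈ mem' b, (mult y χ φ : ℂ) * scal y φ ^ k * (m φ f : ℂ)) *
            conj (∑ φ ∈ mem' b, (mult y χ φ : ℂ) * scal y φ ^ k * (m φ g : ℂ)) := by
    intro N hN0 hN k hk f g
    obtain ⟨τ, hτ⟩ := H45.exists_ringAut_pow hN0 (Finset.mem_filter.1 hk).2
    refine ⟨τ, ?_⟩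
    simp only [map_sum, map_mul, map_natCast, map_intCast, map_pow, conj_scal]
    refine Finset.sum_congr rfl fun χ _ => congrArg₂ (· * ·) ?_ ?_
    · refine Finset.sum_congr rfl fun φ _ => ?_
      rw [pow_one, hτ _ (scal_pow y hN φ)]
    · refine Finset.sum_congr rfl fun φ _ => ?_
      rw [pow_one, hτ _ (by rw [inv_pow, scal_pow y hN, inv_one] : ((scal y φ)⁻¹) ^ N = 1)]
  refine ⟨α, β, γ, ⟨{
    u := u
    v := v
    u_int := fun χ => IsIntegral.sum _ fun φ _ => ((isIntegral_algebraMap (R := ℤ)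
      (x := (mult y χ φ : ℤ))).mul ((scal_isIntegral y φ).pow 1)).mul
      (isIntegral_algebraMap (x := m φ 0))
    v_int := fun χ => IsIntegral.sum _ fun φ _ => ((isIntegral_algebraMap (R := ℤ)
      (x := (mult y χ φ : ℤ))).mul ((scal_isIntegral y φ).pow 1)).mul
      (isIntegral_algebraMap (x := m φ 1))
    u_twist := fun N hN χ => htw 0 N hN χ
    v_twist := fun N hN χ => htw 1 N hN χ
    cont_eq := ?_, pos := ?_, dvd := hdvd, gram_u := ?_, gram_v := ?_, gram_uv := ?_ }⟩⟩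
  · intro χ ψ k
    simp only [cont, u, v, map_sum, map_mul, map_natCast, map_intCast, map_pow, conj_scal]
    simp only [Finset.sum_mul_sum]
    simp only [Finset.mul_sum, ← Finset.sum_add_distrib]
    refine Finset.sum_congr rfl fun φ hφ => Finset.sum_congr rfl fun η hη => ?_
    rw [hS φ (mem_mem'.1 hφ) η (mem_mem'.1 hη), Nat.cast_mul]
    ring
  · intro a c h
    let w : Module.Free.ChooseBasisIndex ℤ L → ℤ := fun i => if i = σ 0 then a else c
    have h01' : σ 1 ≠ σ 0 := fun h => by simpa using σ.injective h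
    have hw : ∑ i, ∑ j, w i * Q i j * w j = α * a ^ 2 + 2 * β * a * c + γ * c ^ 2 := by
      have hsym : Q (σ 1) (σ 0) = β := by
        have := (hQ (σ 1) (σ 0)).trans hβ'.symm
        exact_mod_cast this
      rw [← σ.sum_comp, Fin.sum_univ_two, ← σ.sum_comp, ← σ.sum_comp, Fin.sum_univ_two,
        Fin.sum_univ_two]
      simp only [w, if_true, if_neg h01', hsym, α, β, γ]
      ring
    rw [← hw]
    refine lt_of_le_of_ne ?_ fun h0 => ?_
    · have hr := congrArg Complex.re (hQdef w)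
      rw [Complex.intCast_re] at hr
      have : (0 : ℝ) ≤ ((∑ i, ∑ j, w i * Q i j * w j : ℤ) : ℝ) := by
        rw [hr, Cfsg.classInner, show (p : ℂ) ^ q = (((p : ℝ) ^ q : ℝ) : ℂ) by push_cast; rfl,
          show (Nat.card (CZ y) : ℂ)⁻¹ = (((Nat.card (CZ y) : ℝ)⁻¹ : ℝ) : ℂ) by push_cast; rfl,
          Complex.re_ofReal_mul, Complex.re_ofReal_mul, Complex.re_sum]
        refine mul_nonneg (by positivity) (mul_nonneg (by positivity)
          (Finset.sum_nonneg fun x _ => ?_))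
        rw [Complex.mul_conj]
        simp [Complex.normSq_nonneg]
      exact_mod_cast this
    · have hw0 := hzero w h0.symm
      rcases h with h | h
      · exact h (by simpa [w] using congrFun hw0 (σ 0))
      · exact h (by simpa [w, h01'] using congrFun hw0 (σ 1))
  · intro N hN0 hN k hk
    obtain ⟨τ, hτ⟩ := htwist N hN0 hN k hk 0 0
    have h := congrArg τ hSA
    rw [map_mul, map_mul, map_intCast, map_pow, map_natCast, map_intCast] at h
    rw [show τ SA = ∑ χ ∈ mem' B, u χ k * conj (u χ k) from hτ,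
      Finset.sum_congr rfl fun χ _ => Complex.mul_conj' (u χ k)] at h
    apply Complex.ofReal_injective
    push_cast
    simpa [Δ] using h
  · intro N hN0 hN k hk
    obtain ⟨τ, hτ⟩ := htwist N hN0 hN k hk 1 1
    have h := congrArg τ hSC
    rw [map_mul, map_mul, map_intCast, map_pow, map_natCast, map_intCast] at h
    rw [show τ SC = ∑ χ ∈ mem' B, v χ k * conj (v χ k) from hτ,
      Finset.sum_congr rfl fun χ _ => Complex.mul_conj' (v χ k)] at h
    apply Complex.ofReal_injective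
    push_cast
    simpa [Δ] using h
  · intro N hN0 hN k hk
    obtain ⟨τ, hτ⟩ := htwist N hN0 hN k hk 0 1
    have h := congrArg τ hSB
    rw [map_mul, map_neg, map_mul, map_intCast, map_pow, map_natCast, map_intCast] at h
    rw [show τ SB = ∑ χ ∈ mem' B, u χ k * conj (v χ k) from hτ] at h
    have h' := congrArg Complex.re h
    rw [← Complex.re_sum]
    rw [mul_comm (∑ χ ∈ mem' B, u χ k * conj (v χ k)),
      show ((Δ : ℤ) : ℂ) = (((Δ : ℤ) : ℝ) : ℂ) by push_cast; rfl, Complex.re_ofReal_mul,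
      show -((p : ℂ) ^ q * (β : ℂ)) = ((-((p : ℝ) ^ q * (β : ℝ)) : ℝ) : ℂ) by push_cast; rfl,
      Complex.ofReal_re] at h'
    rw [mul_comm]
    exact h'

/-- Every member has a nonzero contribution with itself. -/
theorem cont_self_ne_zero [M.IsMaximal] (hM : Cfsg.IsPModular p M)
    (hy : ∃ k : ℕ, orderOf y = p ^ k) (hind : Cfsg.IsInducedBlock M (CZ y) b B)
    (hbd : Cfsg.blockDefect p b = Cfsg.blockDefect p B)
    {χ ψ : Cfsg.IrrCharacter G} (hχ : χ ∈ B) (hχ0 : Cfsg.blockHeight p B (χ : G → ℂ) = 0)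
    (hψ : ψ ∈ B) : cont p y b χ ψ 1 ≠ 0 ∧ cont p y b ψ ψ 1 ≠ 0 := by
  have h1 : cont p y b χ ψ 1 ≠ 0 := by
    intro h0
    refine (res_redCont_eq_zero_iff hM hy hind hbd hχ hψ).1 ?_ hχ0
    rw [← map_zero (H41.res M)]
    refine congrArg _ (Subtype.ext ?_)
    show redCont p y b B χ ψ = 0
    rw [redCont, h0, zero_div]
  refine ⟨h1, fun h0 => h1 ?_⟩
  obtain ⟨j, hj⟩ := id hy
  have hN : y ^ p ^ (j + 1) = 1 := by rw [pow_succ, pow_mul, ← hj, pow_orderOf_eq_one, one_pow]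
  have h1' : (1 : ℕ) ∈ Twist.units (p ^ (j + 1)) := Finset.mem_filter.2
    ⟨Finset.mem_range.2 (Nat.one_lt_pow (Nat.succ_ne_zero j) hp.out.one_lt), Nat.coprime_one_left _⟩
  have h := sum_norm_cont_sq hM hy hind (pow_pos hp.out.pos _).ne' hN ψ h1'
  rw [h0, Complex.zero_re, mul_zero] at h
  have := (Finset.sum_eq_zero_iff_of_nonneg fun χ _ => sq_nonneg ‖cont p y b ψ χ 1‖).1 h χ
    (mem_mem'.2 hχ)
  rw [← conj_cont, norm_eq_zero.1 ((pow_eq_zero_iff two_ne_zero).1 this), map_zero]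

/-- The means of the contributions bound the block. -/
theorem card_mul_le (hM : Cfsg.IsPModular p M) (hy : ∃ k : ℕ, orderOf y = p ^ k)
    (hind : Cfsg.IsInducedBlock M (CZ y) b B) {N : ℕ} (hN0 : N ≠ 0) (hN : y ^ N = 1) (c : ℕ)
    (hc : ∀ χ ∈ mem' B, ((Twist.units N).card : ℝ) * (c : ℝ) ≤
      ∑ k ∈ Twist.units N, (cont p y b χ χ k).re) :
    (mem' B).card * c ≤ p ^ Cfsg.blockDefect p b * Cfsg.blockRank p b := by
  set U := Twist.units N
  have hU : (0 : ℝ) < (U.card : ℝ) := Nat.cast_pos.2 (Finset.card_pos.2 ⟨1 % N,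
    Finset.mem_filter.2 ⟨Finset.mem_range.2 (Nat.mod_lt _ (Nat.pos_of_ne_zero hN0)), by
      rw [Nat.Coprime, ← Nat.gcd_rec, Nat.gcd_one_right]⟩⟩)
  have h := Finset.sum_le_sum hc
  rw [Finset.sum_const, nsmul_eq_mul, Finset.sum_comm, Finset.sum_congr rfl fun k hk => by
    rw [← Complex.re_sum, sum_cont_self_twist hM hy hind hN0 hN hk], Finset.sum_const,
    nsmul_eq_mul, show ((p : ℂ) ^ Cfsg.blockDefect p b * (Cfsg.blockRank p b : ℂ)) =
      (((p : ℝ) ^ Cfsg.blockDefect p b * (Cfsg.blockRank p b : ℝ) : ℝ) : ℂ) by push_cast; rfl,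
    Complex.ofReal_re, mul_left_comm] at h
  have := le_of_mul_le_mul_left h hU
  exact_mod_cast this

/-- The bound for rank at most two. -/
theorem card_le_pow_of_rank_le_two (hM : Cfsg.IsPModular p M) {z : G}
    (hz : ∃ k : ℕ, orderOf z = p ^ k) {K : Subgroup G} (hK : K = CZ z)
    {b : Set (Cfsg.IrrCharacter K)} (hind : Cfsg.IsInducedBlock M K b B)
    (hbd : Cfsg.blockDefect p b = Cfsg.blockDefect p B) (hl : Cfsg.blockRank p b ≤ 2) :
    (mem' B).card ≤ p ^ Cfsg.blockDefect p B := by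
  subst hK
  haveI := hM.2.1
  obtain ⟨j, hj⟩ := id hz
  set N := p ^ (j + 1)
  have hN : z ^ N = 1 := by
    simp only [N]; rw [pow_succ, pow_mul, ← hj, pow_orderOf_eq_one, one_pow]
  have hN0 : N ≠ 0 := (pow_pos hp.out.pos _).ne'
  set U := Twist.units N
  have hU : (0 : ℝ) < (U.card : ℝ) := Nat.cast_pos.2 (Finset.card_pos.2 ⟨1,
    Finset.mem_filter.2 ⟨Finset.mem_range.2 (Nat.one_lt_pow (Nat.succ_ne_zero j) hp.out.one_lt),
      Nat.coprime_one_left _⟩⟩)
  obtain ⟨χ₀, hχ₀, h00⟩ := H41.exists_height_zero (p := p) (H41.IsPBlock.nonempty hind.2.1)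
  have hnorm : ∀ χ k, k ∈ U → ‖cont p z b χ χ k‖ = (cont p z b χ χ k).re := fun χ k hk => by
    have h : cont p z b χ χ k = (((cont p z b χ χ k).re : ℝ) : ℂ) :=
      (Complex.conj_eq_iff_re.1 (conj_cont χ χ k)).symm
    conv_lhs => rw [h]
    rw [Complex.norm_real, Real.norm_eq_abs,
      abs_of_nonneg (re_cont_self_nonneg hM hz hind hN0 hN χ hk)]
  have hmean : ∀ χ ∈ mem' B, (U.card : ℝ) * ((p ^ Cfsg.blockHeight p B (χ : G → ℂ) : ℕ) : ℝ) ≤
      ∑ k ∈ U, (cont p z b χ χ k).re := by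
    intro χ hχ
    have hi := isIntegral_redCont hM hz hind hbd χ (mem_mem'.1 hχ)
    have hne : redCont p z b B χ χ ≠ 0 := by
      rw [redCont]
      exact div_ne_zero (cont_self_ne_zero hM hz hind hbd hχ₀ h00 (mem_mem'.1 hχ)).2
        (pow_ne_zero _ (Nat.cast_ne_zero.2 hp.out.ne_zero))
    have h := (isTwist_redCont (p := p) (b := b) (B := B) hN χ χ).card_le_sum_norm_pow hN0 hi hne 1
    rw [Finset.sum_congr rfl fun k hk => show
      ‖cont p z b χ χ k / (p : ℂ) ^ Cfsg.blockHeight p B (χ : G → ℂ)‖ ^ 1 =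
        (cont p z b χ χ k).re / ((p ^ Cfsg.blockHeight p B (χ : G → ℂ) : ℕ) : ℝ) by
      rw [pow_one, norm_div, norm_pow, Complex.norm_natCast, hnorm χ k hk, Nat.cast_pow],
      ← Finset.sum_div, le_div_iff₀ (Nat.cast_pos.2 (pow_pos hp.out.pos _))] at h
    exact h
  rw [← hbd]
  by_cases hl2 : Cfsg.blockRank p b = 2
  swap
  · have h := card_mul_le hM hz hind hN0 hN 1 fun χ hχ => by
      refine le_trans ?_ (hmean χ hχ)
      exact mul_le_mul_of_nonneg_left
        (by exact_mod_cast Nat.one_le_pow _ _ hp.out.pos) hU.le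
    rw [mul_one] at h
    exact h.trans ((Nat.mul_le_mul_left _ (show Cfsg.blockRank p b ≤ 1 by omega)).trans (mul_one _).le)
  obtain ⟨α₀, β₀, γ₀, ⟨X₀⟩⟩ := exists_coords hM hz hind hl2
  obtain ⟨α, β, γ, X, hβα, hβγ⟩ := X₀.exists_reduced
  obtain ⟨hα, hγ⟩ := X.diag_pos
  have hP : (0 : ℝ) < (p : ℝ) ^ Cfsg.blockDefect p b := pow_pos (Nat.cast_pos.2 hp.out.pos) _
  have hΔ0 : 0 < α * γ - β ^ 2 := by
    nlinarith [sq_abs β, abs_nonneg β, mul_le_mul hβα hβγ (by positivity) hα.le, mul_pos hα hγ]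
  suffices key : ∀ (α β γ : ℤ) (X : Coords p z b B α β γ), β = 0 → α = 1 →
      (mem' B).card ≤ p ^ Cfsg.blockDefect p b by
    by_cases hα1 : α = 1
    · exact key α β γ X (abs_eq_zero.1 (by have := abs_nonneg β; omega)) hα1
    by_cases hγ1 : γ = 1
    · exact key γ β α X.swap (abs_eq_zero.1 (by have := abs_nonneg β; omega)) hγ1
    -- the form with both diagonal entries at least two
    set s : ℝ := if 0 ≤ β then 1 else -1 with hs
    have hs2 : s ^ 2 = 1 := by rw [hs]; split_ifs <;> norm_num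
    have hsb : s * (β : ℝ) = ((|β| : ℤ) : ℝ) := by
      rw [hs]; split_ifs with h
      · rw [abs_of_nonneg h, one_mul]
      · rw [abs_of_neg (not_le.1 h)]; push_cast; ring
    have hineq : α + γ - |β| ≤ α * γ - β ^ 2 := by
      rcases eq_or_ne β 0 with rfl | hb0
      · simp only [abs_zero, sub_zero, ne_eq, OfNat.ofNat_ne_zero, not_false_eq_true, zero_pow]
        nlinarith [mul_nonneg (show 0 ≤ α - 2 by omega) (show 0 ≤ γ - 2 by omega), show 2 ≤ α by omega, show 2 ≤ γ by omega]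
      · have h1 : 1 ≤ |β| := abs_pos.2 hb0
        nlinarith [sq_abs β, mul_le_mul (show 2 * |β| - 1 ≤ α - 1 by linarith)
          (show 2 * |β| - 1 ≤ γ - 1 by linarith) (by linarith) (by linarith)]
    have hlow : ∀ χ ∈ mem' B, (U.card : ℝ) ≤ ∑ k ∈ U,
        (‖X.u χ k‖ ^ 2 + ‖X.v χ k‖ ^ 2 + s * (X.u χ k * conj (X.v χ k)).re) := by
      intro χ hχ
      set si : ℤ := if 0 ≤ β then 1 else -1 with hsi
      have hcast : (si : ℝ) = s := by rw [hsi, hs]; split_ifs <;> norm_num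
      let w : ℕ → ℂ := fun k => X.u χ k + (si : ℂ) * X.v χ k
      have hw : Twist.IsTwist N (w 1) w := fun τ i hτ => by
        simp only [w, map_add, map_mul, map_intCast, X.u_twist N hN χ τ i hτ,
          X.v_twist N hN χ τ i hτ]
      have hexp : ∀ k, 2 * (‖X.u χ k‖ ^ 2 + ‖X.v χ k‖ ^ 2 +
          s * (X.u χ k * conj (X.v χ k)).re) = ‖X.u χ k‖ ^ 2 + ‖X.v χ k‖ ^ 2 + ‖w k‖ ^ 2 := by
        intro k
        simp only [w, Complex.sq_norm, Complex.normSq_apply, Complex.add_re, Complex.add_im,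
          Complex.mul_re, Complex.mul_im, Complex.conj_re, Complex.conj_im, Complex.intCast_re,
          Complex.intCast_im, hcast]
        linear_combination -(X.v χ k).re * (X.v χ k).re * hs2 -
          (X.v χ k).im * (X.v χ k).im * hs2
      have hwint : IsIntegral ℤ (w 1) :=
        (X.u_int χ).add ((isIntegral_algebraMap (R := ℤ) (x := si)).mul (X.v_int χ))
      have hnn : ∀ f : ℕ → ℂ, 0 ≤ ∑ k ∈ U, ‖f k‖ ^ 2 :=
        fun f => Finset.sum_nonneg fun k _ => sq_nonneg _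
      have hne : X.u χ 1 ≠ 0 ∨ X.v χ 1 ≠ 0 := by
        by_contra h
        push_neg at h
        refine (cont_self_ne_zero hM hz hind hbd hχ₀ h00 (mem_mem'.1 hχ)).2 ?_
        rw [X.cont_eq, h.1, h.2]
        ring
      have hb1 : ∀ (f : ℕ → ℂ), Twist.IsTwist N (f 1) f → IsIntegral ℤ (f 1) → f 1 ≠ 0 →
          (U.card : ℝ) ≤ ∑ k ∈ U, ‖f k‖ ^ 2 := fun f h1 h2 h3 =>
        h1.card_le_sum_norm_pow hN0 h2 h3 2
      have hmain : 2 * (U.card : ℝ) ≤ ∑ k ∈ U, ‖X.u χ k‖ ^ 2 + ∑ k ∈ U, ‖X.v χ k‖ ^ 2 +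
          ∑ k ∈ U, ‖w k‖ ^ 2 := by
        have hsi0 : (si : ℂ) ≠ 0 := by rw [hsi]; split_ifs <;> norm_num
        by_cases hu : X.u χ 1 = 0
        · have hv := hne.resolve_left (fun h => h hu)
          have hw1 : w 1 ≠ 0 := by simp only [w, hu, zero_add]; exact mul_ne_zero hsi0 hv
          linarith [hb1 _ (X.v_twist N hN χ) (X.v_int χ) hv, hb1 w hw hwint hw1, hnn (X.u χ)]
        · by_cases hv : X.v χ 1 = 0
          · have hw1 : w 1 ≠ 0 := by simpa [w, hv] using hu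
            linarith [hb1 _ (X.u_twist N hN χ) (X.u_int χ) hu, hb1 w hw hwint hw1, hnn (X.v χ)]
          · linarith [hb1 _ (X.u_twist N hN χ) (X.u_int χ) hu,
              hb1 _ (X.v_twist N hN χ) (X.v_int χ) hv, hnn w]
      have := congrArg (fun f : ℕ → ℝ => ∑ k ∈ U, f k) (funext hexp)
      simp only [← Finset.mul_sum, Finset.sum_add_distrib] at this ⊢
      linarith
    have h := Finset.sum_le_sum hlow
    rw [Finset.sum_const, nsmul_eq_mul, Finset.sum_comm] at h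
    have hk : ∀ k ∈ U, (∑ χ ∈ mem' B,
        (‖X.u χ k‖ ^ 2 + ‖X.v χ k‖ ^ 2 + s * (X.u χ k * conj (X.v χ k)).re)) *
        ((α * γ - β ^ 2 : ℤ) : ℝ) =
        (p : ℝ) ^ Cfsg.blockDefect p b * (((α + γ - |β| : ℤ)) : ℝ) := by
      intro k hk
      simp only [Finset.sum_add_distrib, ← Finset.mul_sum, add_mul, mul_assoc]
      rw [X.gram_u N hN0 hN k hk, X.gram_v N hN0 hN k hk, X.gram_uv N hN0 hN k hk]
      push_cast
      push_cast at hsb
      linear_combination -((p : ℝ) ^ Cfsg.blockDefect p b) * hsb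
    have hΔ : (0 : ℝ) < ((α * γ - β ^ 2 : ℤ) : ℝ) := by exact_mod_cast hΔ0
    have hineq' : (((α + γ - |β| : ℤ)) : ℝ) ≤ ((α * γ - β ^ 2 : ℤ) : ℝ) := by
      exact_mod_cast hineq
    have h3 : ∑ k ∈ U, ∑ χ ∈ mem' B,
        (‖X.u χ k‖ ^ 2 + ‖X.v χ k‖ ^ 2 + s * (X.u χ k * conj (X.v χ k)).re) ≤
        (U.card : ℝ) * (p : ℝ) ^ Cfsg.blockDefect p b := by
      rw [← nsmul_eq_mul, ← Finset.sum_const]
      refine Finset.sum_le_sum fun k hk' => le_of_mul_le_mul_right ?_ hΔ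
      rw [hk k hk']
      exact mul_le_mul_of_nonneg_left hineq' hP.le
    have h4 : ((mem' B).card : ℝ) ≤ (p : ℝ) ^ Cfsg.blockDefect p b :=
      le_of_mul_le_mul_right ((h.trans h3).trans_eq (mul_comm _ _)) hU
    exact_mod_cast h4
  -- the diagonal form
  rintro α β γ X rfl rfl
  obtain ⟨-, hγ⟩ := X.diag_pos
  have hpγ : (p : ℤ) ∣ γ := by simpa using X.dvd
  have hγ2 : (2 : ℤ) ≤ γ :=
    le_trans (by exact_mod_cast hp.out.two_le) (Int.le_of_dvd hγ hpγ)
  have hform : ∀ χ ψ k, cont p z b χ ψ k =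
      X.u χ k * conj (X.u ψ k) + (γ : ℂ) * (X.v χ k * conj (X.v ψ k)) := fun χ ψ k => by
    rw [X.cont_eq]; push_cast; ring
  by_cases hall : ∀ χ ∈ mem' B, X.u χ 1 ≠ 0
  · have h := Finset.sum_le_sum fun χ hχ =>
      (X.u_twist N hN χ).card_le_sum_norm_pow hN0 (X.u_int χ) (hall χ hχ) 2
    rw [Finset.sum_const, nsmul_eq_mul, Finset.sum_comm] at h
    have hk : ∀ k ∈ U, ∑ χ ∈ mem' B, ‖X.u χ k‖ ^ 2 = (p : ℝ) ^ Cfsg.blockDefect p b := by
      intro k hk
      have h1 := X.gram_u N hN0 hN k hk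
      push_cast at h1
      refine mul_right_cancel₀ (show (γ : ℝ) ≠ 0 by exact_mod_cast hγ.ne') ?_
      linarith
    rw [Finset.sum_congr rfl hk, Finset.sum_const, nsmul_eq_mul] at h
    have h4 : ((mem' B).card : ℝ) ≤ (p : ℝ) ^ Cfsg.blockDefect p b :=
      le_of_mul_le_mul_right (h.trans_eq (mul_comm _ _)) hU
    exact_mod_cast h4
  push_neg at hall
  obtain ⟨ψ₀, hψ₀, hu0⟩ := hall
  have h2 := card_mul_le hM hz hind hN0 hN 2 fun χ hχ => ?_
  · rw [hl2] at h2; omega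
  by_cases hh : Cfsg.blockHeight p B (χ : G → ℂ) = 0
  · have hv : X.v χ 1 ≠ 0 := by
      intro hv
      refine (cont_self_ne_zero hM hz hind hbd (mem_mem'.1 hχ) hh (mem_mem'.1 hψ₀)).1 ?_
      rw [hform, hu0, hv]
      simp
    have hu : X.u χ 1 ≠ 0 := by
      intro hu
      have hint : IsIntegral ℤ (X.v χ 1 * conj (X.v χ 1)) :=
        (X.v_int χ).mul ((X.v_int χ).map (starRingEnd ℂ).toIntAlgHom)
      refine res_cont_ne_zero hM hz hind (mem_mem'.1 hχ) hh (mem_mem'.1 hχ) hh 1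
        (H41.isIntegral_mem_localRing (isIntegral_cont χ χ 1)) ?_
      rw [show (⟨_, H41.isIntegral_mem_localRing (isIntegral_cont (p := p) (b := b) χ χ 1)⟩ :
          H41.localRing M) = (γ : H41.localRing M) * ⟨_, H41.isIntegral_mem_localRing hint⟩ from
        Subtype.ext (by push_cast; rw [hform, hu]; simp), map_mul, map_intCast,
        (H41.IsPModular.intCast_eq_zero_iff hM γ).2 hpγ, zero_mul]
    have h1 := (X.u_twist N hN χ).card_le_sum_norm_pow hN0 (X.u_int χ) hu 2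
    have h1' := (X.v_twist N hN χ).card_le_sum_norm_pow hN0 (X.v_int χ) hv 2
    have hre : ∀ k, (cont p z b χ χ k).re =
        ‖X.u χ k‖ ^ 2 + (γ : ℝ) * ‖X.v χ k‖ ^ 2 := fun k => by
      rw [hform, Complex.mul_conj', Complex.mul_conj',
        show (γ : ℂ) = (((γ : ℤ) : ℝ) : ℂ) by push_cast; rfl]
      norm_cast
    simp only [hre, Finset.sum_add_distrib, ← Finset.mul_sum]
    have hγ1 : (1 : ℝ) ≤ (γ : ℝ) := by exact_mod_cast le_trans (by norm_num) hγ2
    have hnn : (0 : ℝ) ≤ ∑ k ∈ U, ‖X.v χ k‖ ^ 2 :=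
      Finset.sum_nonneg fun k _ => sq_nonneg _
    push_cast
    nlinarith [mul_le_mul_of_nonneg_right hγ1 hnn]
  · refine le_trans ?_ (hmean χ hχ)
    refine mul_le_mul_of_nonneg_left ?_ hU.le
    exact_mod_cast hp.out.two_le.trans (Nat.le_self_pow hh p)

end Cfsg.Agent.H56.Subsec
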