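import Cfsg.Agent.H56.DihOrder
import Cfsg.Agent.H38.KleinBlock
import Cfsg.Agent.S0947

/-!
# The section of the cyclic maximal subgroup of a dihedral Sylow 2-subgroup

For a root of unity `z` of order dividing `2 ^ (n - 1)` the function `Θ_z = (1 - l_z)^G` only sees
the principal block; its inner products are those of the dihedral group.
-/

set_option autoImplicit false
set_option linter.unusedSectionVars false

open scoped ComplexConjugate

namespace Cfsg.Agent.H56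

open Subgroup

variable {G : Type*} [Group G] [Fintype G]

theorem conj_root_pow {m : ℕ} (hm : 0 < m) {z : ℂ} (hz : z ^ m = 1) (i : ℕ) :
    conj (z ^ i) = z ^ ((m - 1) * i) := by
  have h1 : ‖z ^ i‖ = 1 := by
    rw [norm_pow, Complex.norm_eq_one_of_pow_eq_one hz hm.ne', one_pow]
  rw [← Complex.inv_eq_conj h1]
  refine inv_eq_of_mul_eq_one_right ?_
  rw [← pow_add, show i + (m - 1) * i = m * i by
    conv_lhs => arg 1; rw [← one_mul i]
    rw [← add_mul, Nat.add_sub_cancel' (show 1 ≤ m from hm)], pow_mul, hz, one_pow]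

theorem root_sum {m : ℕ} {z : ℂ} (hz : z ^ m = 1) :
    ∑ i ∈ Finset.range m, z ^ i = if z = 1 then (m : ℂ) else 0 := by
  by_cases h : z = 1
  · simp [h]
  · rw [if_neg h, geom_sum_eq h, hz, sub_self, zero_div]

open scoped Classical in
/-- One minus the linear character sending `σ` to `z`. -/
noncomputable def zF (σ : G) (n : ℕ) (z : ℂ) (p : G) : ℂ :=
  if h : ∃ i, i < 2 ^ (n - 1) ∧ p = σ ^ i then 1 - z ^ h.choose else 0

open scoped Classical in
/-- The same, on the centralizer of the central involution. -/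
noncomputable def gF {P : Sylow 2 G} {σ : G} {n : ℕ} (R : CentRetr P (centInv σ n)) (z : ℂ)
    (g : G) : ℂ :=
  if g ∈ centralizer ({centInv σ n} : Set G) then zF σ n z (R.π g) else 0

/-- The induced function. -/
noncomputable def gTheta {P : Sylow 2 G} {σ : G} {n : ℕ} (R : CentRetr P (centInv σ n)) (z : ℂ)
    (g : G) : ℂ :=
  ((2 ^ (n - 1) : ℕ) * Nat.card R.K : ℂ)⁻¹ * ∑ x : G, gF R z (x * g * x⁻¹)

theorem gTheta_isClassFunction {P : Sylow 2 G} {σ : G} {n : ℕ}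
    (R : CentRetr P (centInv σ n)) (z : ℂ) : Cfsg.IsClassFunction G (gTheta R z) := by
  intro g h
  simp only [gTheta]
  congr 1
  refine Fintype.sum_equiv (Equiv.mulRight h) _ _ fun x => ?_
  simp [mul_assoc]

namespace DihSylow

variable {P : Sylow 2 G} {σ τ : G} {n : ℕ} (D : DihSylow P σ τ n)
  (R : CentRetr P (centInv σ n)) {z : ℂ} (hz : z ^ (2 ^ (n - 1)) = 1)

include D

include hz in
theorem zF_pow (i : ℕ) : zF σ n z (σ ^ i) = 1 - z ^ i := by
  classical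
  have h : ∃ j, j < 2 ^ (n - 1) ∧ σ ^ i = σ ^ j :=
    ⟨i % 2 ^ (n - 1), Nat.mod_lt _ (by positivity), by rw [← D.ordσ, pow_mod_orderOf]⟩
  rw [zF, dif_pos h]
  have h2 := pow_eq_pow_iff_modEq.1 h.choose_spec.2
  rw [D.ordσ] at h2
  have hmod : ∀ a, z ^ a = z ^ (a % 2 ^ (n - 1)) := fun a => by
    conv_lhs => rw [← Nat.div_add_mod a (2 ^ (n - 1)), pow_add, pow_mul, hz, one_pow, one_mul]
  rw [hmod h.choose, hmod i, (h2 : i % 2 ^ (n - 1) = h.choose % 2 ^ (n - 1))]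

theorem zF_tau (z : ℂ) (i : ℕ) : zF σ n z (σ ^ i * τ) = 0 := by
  classical
  rw [zF, dif_neg]
  rintro ⟨j, -, hj⟩
  exact D.pow_mul_tau_not_mem i (hj ▸ npow_mem_zpowers σ j)

theorem conj_reflection {p q : G} (hp : ∃ i, p = σ ^ i * τ) (hq : q ∈ (P : Subgroup G)) :
    ∃ i, q * p * q⁻¹ = σ ^ i * τ := by
  obtain ⟨i, rfl⟩ := hp
  obtain ⟨j, rfl | rfl⟩ := D.forms q hq
  · refine ⟨j + i + j, ?_⟩
    have h : τ * (σ ^ j)⁻¹ = σ ^ j * τ := by
      rw [← D.tau_pow j, ← mul_assoc, ← mul_assoc, D.tau_mul, one_mul, D.tau_inv]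
    rw [pow_add, pow_add, show σ ^ j * (σ ^ i * τ) * (σ ^ j)⁻¹ =
      σ ^ j * σ ^ i * (τ * (σ ^ j)⁻¹) by group, h, ← mul_assoc]
  · obtain ⟨j', hj'⟩ : ∃ j', (σ ^ i)⁻¹ = σ ^ j' := ⟨_, D.sigma_pow_inv i⟩
    refine ⟨j + j' + j, ?_⟩
    have h : τ * (σ ^ j)⁻¹ = σ ^ j * τ := by
      rw [← D.tau_pow j, ← mul_assoc, ← mul_assoc, D.tau_mul, one_mul, D.tau_inv]
    calc σ ^ j * τ * (σ ^ i * τ) * (σ ^ j * τ)⁻¹
        = σ ^ j * (τ * σ ^ i * τ⁻¹) * (τ * τ) * τ⁻¹ * (σ ^ j)⁻¹ := by group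
      _ = σ ^ j * σ ^ j' * (τ * (σ ^ j)⁻¹) := by
        rw [D.tau_mul, D.tau_pow, hj', D.tau_inv]; group
      _ = σ ^ (j + j' + j) * τ := by rw [h, pow_add, pow_add, ← mul_assoc]

include hz in
theorem zF_conj {p q : G} (hp : p ∈ (P : Subgroup G)) (hq : q ∈ (P : Subgroup G)) :
    zF σ n z (q * p * q⁻¹) + conj (zF σ n z (q * p * q⁻¹)) = zF σ n z p + conj (zF σ n z p) ∧
      zF σ n z (τ * p * τ⁻¹) = conj (zF σ n z p) := by
  have hflip : ∀ i, zF σ n z (τ * σ ^ i * τ⁻¹) = conj (zF σ n z (σ ^ i)) := fun i => by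
    rw [D.tau_pow, D.sigma_pow_inv, D.zF_pow hz, D.zF_pow hz, map_sub, map_one,
      conj_root_pow (by positivity) hz]
  obtain ⟨i, rfl | rfl⟩ := D.forms p hp
  · refine ⟨?_, hflip i⟩
    obtain ⟨j, rfl | rfl⟩ := D.forms q hq
    · rw [(Commute.pow_pow_self σ j i).eq, mul_inv_cancel_right]
    · rw [show σ ^ j * τ * σ ^ i * (σ ^ j * τ)⁻¹ = σ ^ j * (τ * σ ^ i * τ⁻¹) * (σ ^ j)⁻¹ by group,
        D.tau_pow, D.sigma_pow_inv, (Commute.pow_pow_self σ j _).eq, mul_inv_cancel_right,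
        ← D.sigma_pow_inv, ← D.tau_pow, hflip, Complex.conj_conj, add_comm]
  · obtain ⟨a, ha⟩ := D.conj_reflection ⟨i, rfl⟩ hq
    obtain ⟨b, hb⟩ := D.conj_reflection ⟨i, rfl⟩ D.memτ
    rw [ha, hb, D.zF_tau, D.zF_tau, D.zF_tau, map_zero]
    simp

theorem gF_of_mem (z : ℂ) {g : G} (hg : g ∈ centralizer ({centInv σ n} : Set G)) :
    gF R z g = zF σ n z (R.π g) := if_pos hg

include hz in
theorem gF_pow_mul (i : ℕ) {k : G} (hk : k ∈ R.K) : gF R z (σ ^ i * k) = 1 - z ^ i := by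
  have hs := pow_mem D.memσ i
  rw [D.gF_of_mem R z (mul_mem (D.le_centralizer hs) (R.K_le hk)),
    R.π_mul _ (D.le_centralizer hs) _ (R.K_le hk), R.π_fix _ hs, R.π_of_mem hk, mul_one,
    D.zF_pow hz]

include hz in
/-- The support lies in the section. -/
theorem dihF_ne_of_gF_ne {g : G} (hg : gF R z g ≠ 0) : dihF R g ≠ 0 := by
  classical
  have hgC : g ∈ centralizer ({centInv σ n} : Set G) := by
    by_contra h
    exact hg (if_neg h)
  rw [D.gF_of_mem R z hgC] at hg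
  rw [D.dihF_of_mem R hgC]
  obtain ⟨i, h | h⟩ := D.forms _ (R.π_mem g hgC)
  · rw [h, D.zF_pow hz, sub_ne_zero] at hg
    rw [h, D.dF_pow, sub_ne_zero]
    intro h1
    obtain ⟨c, rfl⟩ := ((zeta_spec n).pow_eq_one_iff_dvd i).1 h1.symm
    exact hg (by rw [pow_mul, hz, one_pow])
  · rw [h, D.zF_tau] at hg
    exact absurd rfl hg

include hz in
theorem gTheta_eq_zero {g : G} (hg : ∀ x : G, dihF R (x * g * x⁻¹) = 0) : gTheta R z g = 0 := by
  rw [gTheta, Finset.sum_eq_zero fun x _ => ?_, mul_zero]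
  by_contra h
  exact D.dihF_ne_of_gF_ne R hz h (hg x)

include hz in
theorem gTheta_of_odd {g : G} (hg : Odd (orderOf g)) : gTheta R z g = 0 := by
  refine D.gTheta_eq_zero R hz fun x => ?_
  by_contra h
  obtain ⟨-, h'⟩ := D.half_pow_eq R h
  have h2 : orderOf (x * g * x⁻¹) = orderOf g := (MulAut.conj x).orderOf_eq g
  have hd := orderOf_pow_dvd (x := x * g * x⁻¹) (orderOf (x * g * x⁻¹) / 2)
  rw [h', D.orderOf_centInv, h2] at hd
  exact (Nat.not_even_iff_odd.2 hg) (even_iff_two_dvd.2 hd)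

include hz in
/-- The values on the section. -/
theorem gTheta_of_ne {g : G} (hg : dihF R g ≠ 0) :
    gTheta R z g = gF R z g + conj (gF R z g) := by
  classical
  obtain ⟨hgC, -⟩ := D.half_pow_eq R hg
  have hτC := D.tau_mem_centralizer
  set Cs := Finset.univ.filter (· ∈ centralizer ({centInv σ n} : Set G)) with hCs
  have hsub : ∑ x : G, gF R z (x * g * x⁻¹) = ∑ x ∈ Cs, gF R z (x * g * x⁻¹) := by
    refine (Finset.sum_subset (Finset.subset_univ Cs) fun x _ hx => ?_).symm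
    by_contra h
    exact hx (Finset.mem_filter.2 ⟨Finset.mem_univ x,
      D.mem_of_conj R hg (D.dihF_ne_of_gF_ne R hz h)⟩)
  have hflip : ∑ x ∈ Cs, gF R z (x * g * x⁻¹) = ∑ x ∈ Cs, conj (gF R z (x * g * x⁻¹)) := by
    refine Finset.sum_equiv (Equiv.mulLeft τ) (fun x => ?_) fun x hx => ?_
    · simp only [hCs, Finset.mem_filter, Finset.mem_univ, true_and, Equiv.coe_mulLeft]
      exact ⟨fun h => mul_mem hτC h, fun h => (mul_mem_cancel_left hτC).1 h⟩
    · have hxC : x ∈ centralizer ({centInv σ n} : Set G) := by simpa [hCs] using hx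
      have hy := mul_mem (mul_mem hxC hgC) (inv_mem hxC)
      have hy' := mul_mem (mul_mem hτC hy) (inv_mem hτC)
      simp only [Equiv.coe_mulLeft]
      rw [show τ * x * g * (τ * x)⁻¹ = τ * (x * g * x⁻¹) * τ⁻¹ by group, D.gF_of_mem R z hy,
        D.gF_of_mem R z hy', R.π_conj hτC hy, R.π_fix _ D.memτ,
        (D.zF_conj hz (R.π_mem _ hy) D.memτ).2, Complex.conj_conj]
  have hconst : ∀ x ∈ Cs, gF R z (x * g * x⁻¹) + conj (gF R z (x * g * x⁻¹)) =
      gF R z g + conj (gF R z g) := by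
    intro x hx
    have hxC : x ∈ centralizer ({centInv σ n} : Set G) := by simpa [hCs] using hx
    rw [D.gF_of_mem R z (mul_mem (mul_mem hxC hgC) (inv_mem hxC)), D.gF_of_mem R z hgC,
      R.π_conj hxC hgC, (D.zF_conj hz (R.π_mem g hgC) (R.π_mem x hxC)).1]
  have hcard : (Cs.card : ℂ) = 2 * ((2 ^ (n - 1) : ℕ) * Nat.card R.K : ℂ) := by
    rw [hCs, ← Fintype.card_subtype, ← Nat.card_eq_fintype_card]
    rw [show Nat.card {x // x ∈ centralizer ({centInv σ n} : Set G)} = _ from D.card_centralizer R]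
    push_cast
    ring
  have h2 : 2 * ∑ x ∈ Cs, gF R z (x * g * x⁻¹) = Cs.card * (gF R z g + conj (gF R z g)) := by
    rw [two_mul]
    nth_rewrite 2 [hflip]
    rw [← Finset.sum_add_distrib, Finset.sum_congr rfl hconst, Finset.sum_const, nsmul_eq_mul]
  rw [hcard] at h2
  have hne : ((2 ^ (n - 1) : ℕ) * Nat.card R.K : ℂ) ≠ 0 :=
    mul_ne_zero (Nat.cast_ne_zero.2 (by positivity)) (Nat.cast_ne_zero.2 Nat.card_pos.ne')
  rw [gTheta, hsub, eq_comm]
  field_simp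
  linear_combination -h2 / 2

include hz in
theorem gTheta_one : gTheta R z 1 = 0 :=
  D.gTheta_of_odd R hz (by simp)

include hz in
theorem sum_gF_mul [Fintype R.K] (Φ : G → ℂ) :
    ∑ g : G, gF R z g * Φ g =
      ∑ i ∈ Finset.range (2 ^ (n - 1)), (1 - z ^ i) * ∑ k : R.K, Φ (σ ^ i * k) := by
  classical
  haveI := Fintype.ofFinite (dihH R)
  have hH : ∑ g : G, gF R z g * Φ g = ∑ h : dihH R, gF R z h * Φ h := by
    rw [← Finset.sum_subtype (Finset.univ.filter (· ∈ dihH R)) (by simp)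
      (fun g => gF R z g * Φ g)]
    refine (Finset.sum_subset (Finset.filter_subset _ _) fun g _ hg => ?_).symm
    by_contra h
    have h0 := left_ne_zero_of_mul h
    obtain ⟨hgC, -⟩ := D.half_pow_eq R (D.dihF_ne_of_gF_ne R hz h0)
    refine hg (Finset.mem_filter.2 ⟨Finset.mem_univ g, hgC, ?_⟩)
    rw [D.gF_of_mem R z hgC] at h0
    obtain ⟨i, hi | hi⟩ := D.forms _ (R.π_mem g hgC)
    · exact hi ▸ npow_mem_zpowers σ i
    · exact absurd (by rw [hi, D.zF_tau]) h0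
  rw [hH, ← Fintype.sum_bijective _ (D.bijective_dihH R) _ _ (fun ik => rfl),
    Fintype.sum_prod_type, ← Fin.sum_univ_eq_sum_range
      (fun i => (1 - z ^ i) * ∑ k : R.K, Φ (σ ^ i * k))]
  refine Finset.sum_congr rfl fun i _ => ?_
  rw [Finset.mul_sum]
  exact Finset.sum_congr rfl fun k _ => by rw [D.gF_pow_mul R hz _ k.2]

/-- Frobenius reciprocity. -/
theorem classInner_gTheta (z : ℂ) {Φ : G → ℂ} (hΦ : Cfsg.IsClassFunction G Φ) :
    Cfsg.classInner (gTheta R z) Φ =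
      ((2 ^ (n - 1) : ℕ) * Nat.card R.K : ℂ)⁻¹ * ∑ g : G, gF R z g * conj (Φ g) := by
  simp only [Cfsg.classInner, gTheta, Finset.mul_sum, Finset.sum_mul]
  rw [Finset.sum_comm]
  have h : ∀ x : G, ∑ g : G, (Nat.card G : ℂ)⁻¹ *
      (((2 ^ (n - 1) : ℕ) * Nat.card R.K : ℂ)⁻¹ * gF R z (x * g * x⁻¹) * conj (Φ g)) =
      ∑ g : G, (Nat.card G : ℂ)⁻¹ *
      (((2 ^ (n - 1) : ℕ) * Nat.card R.K : ℂ)⁻¹ * gF R z g * conj (Φ g)) := fun x =>
    Fintype.sum_equiv (MulAut.conj x).toEquiv _ _ fun g => by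
      rw [MulEquiv.toEquiv_eq_coe, MulEquiv.coe_toEquiv, MulAut.conj_apply, hΦ g x]
  rw [Finset.sum_congr rfl fun x _ => h x, Finset.sum_const, Finset.card_univ, nsmul_eq_mul,
    Finset.mul_sum, ← Nat.card_eq_fintype_card]
  refine Finset.sum_congr rfl fun g _ => ?_
  field_simp [Nat.cast_ne_zero.2 (Nat.card_pos (α := G)).ne']

include hz in
theorem exists_int_gTheta (χ : Cfsg.IrrCharacter G) :
    ∃ c : ℤ, Cfsg.classInner (gTheta R z) χ.1 = c := by
  classical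
  haveI := Fintype.ofFinite (dihH R)
  have hσz : ∀ x : zpowers σ, x ∈ zpowers (⟨σ, mem_zpowers σ⟩ : zpowers σ) := by
    rintro ⟨x, hx⟩
    obtain ⟨k, rfl⟩ := mem_zpowers_iff.1 hx
    exact mem_zpowers_iff.2 ⟨k, Subtype.ext (by simp)⟩
  let u : ℂˣ := Units.mk0 z (fun h => by simp [h] at hz)
  have hu : orderOf u ∣ orderOf (⟨σ, mem_zpowers σ⟩ : zpowers σ) := by
    rw [← orderOf_units, Units.val_mk0, ← Subgroup.orderOf_coe, D.ordσ]
    exact orderOf_dvd_of_pow_eq_one hz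
  let l := monoidHomOfForallMemZpowers hσz hu
  let lam : dihH R →* ℂˣ :=
    l.comp (MonoidHom.mk' (fun g => (⟨R.π g, g.2.2⟩ : zpowers σ))
      (fun a b => Subtype.ext (R.π_mul _ a.2.1 _ b.2.1)))
  have hlam : ∀ g : dihH R, gF R z g = 1 - (lam g : ℂ) := by
    intro g
    rw [D.gF_of_mem R z g.2.1]
    obtain ⟨i, hi⟩ : ∃ i : ℕ, σ ^ i = R.π g := (mem_powers_iff_mem_zpowers).2 g.2.2
    rw [← hi, D.zF_pow hz]
    congr 1
    show _ = ((l ⟨R.π g, g.2.2⟩ : ℂˣ) : ℂ)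
    rw [show (⟨R.π g, g.2.2⟩ : zpowers σ) = ⟨σ, mem_zpowers σ⟩ ^ i from
      Subtype.ext (by simp [hi]), map_pow, monoidHomOfForallMemZpowers_apply_gen,
      Units.val_pow_eq_pow_val, Units.val_mk0]
  have hres : Cfsg.IsCharacter (dihH R) (χ.1 ∘ (dihH R).subtype) :=
    H26.isCharacter_comp (H26.irr_isCharacter χ) _
  obtain ⟨a, ha⟩ := H26.exists_nat_classInner_irr hres (H26.oneIrr _)
  obtain ⟨b, hb⟩ := H26.exists_nat_classInner_irr hres ⟨_, H26.isIrrCharacter_hom lam⟩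
  refine ⟨(a : ℤ) - b, ?_⟩
  rw [D.classInner_gTheta R z (H26.irr_isClassFunction χ)]
  have hsupp : ∀ g, gF R z g * conj (χ.1 g) ≠ 0 → g ∈ dihH R := by
    intro g hg
    have h0 := left_ne_zero_of_mul hg
    obtain ⟨hgC, -⟩ := D.half_pow_eq R (D.dihF_ne_of_gF_ne R hz h0)
    refine ⟨hgC, ?_⟩
    rw [D.gF_of_mem R z hgC] at h0
    obtain ⟨i, hi | hi⟩ := D.forms _ (R.π_mem g hgC)
    · exact hi ▸ npow_mem_zpowers σ i
    · exact absurd (by rw [hi, D.zF_tau]) h0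
  rw [show ∑ g : G, gF R z g * conj (χ.1 g) = ∑ h : dihH R, gF R z h * conj (χ.1 h) from
    (Fintype.sum_of_injective (fun h : dihH R => (h : G)) Subtype.val_injective _ _
      (fun g hg => by
        by_contra h
        exact hg ⟨⟨g, hsupp g h⟩, rfl⟩) (fun h => rfl)).symm]
  have hre : ((2 ^ (n - 1) : ℕ) * Nat.card R.K : ℂ) = (Nat.card (dihH R) : ℂ) := by
    rw [D.card_dihH R, Nat.cast_mul]
  push_cast
  rw [← Complex.conj_natCast a, ← Complex.conj_natCast b, ← ha, ← hb, ← map_sub,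
    show ((2 : ℂ) ^ (n - 1) * Nat.card R.K) = (Nat.card (dihH R) : ℂ) by
      rw [← hre]; push_cast; ring]
  simp only [Cfsg.classInner, ← mul_sub, ← Finset.sum_sub_distrib, map_mul, map_inv₀,
    Complex.conj_natCast, map_sum, map_sub, Complex.conj_conj, H26.oneIrr_val, map_one, mul_one,
    Function.comp_apply, Subgroup.coe_subtype]
  congr 1
  refine Finset.sum_congr rfl fun h _ => ?_
  rw [hlam h]
  ring

include hz in
/-- The inner product with a class function constant on the section cosets on average. -/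
theorem classInner_gTheta_of_avg [Fintype R.K] {Φ : G → ℂ} (hΦ : Cfsg.IsClassFunction G Φ)
    (f : ℕ → ℂ) (hf : ∀ i, 0 < i → i < 2 ^ (n - 1) →
      ∑ k : R.K, conj (Φ (σ ^ i * k)) = (Nat.card R.K : ℂ) * f i) :
    Cfsg.classInner (gTheta R z) Φ =
      ((2 ^ (n - 1) : ℕ) : ℂ)⁻¹ * ∑ i ∈ Finset.range (2 ^ (n - 1)), (1 - z ^ i) * f i := by
  rw [D.classInner_gTheta R z hΦ, D.sum_gF_mul R hz, Finset.mul_sum, Finset.mul_sum]
  refine Finset.sum_congr rfl fun i hi => ?_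
  rcases Nat.eq_zero_or_pos i with rfl | hi0
  · simp
  · rw [hf i hi0 (Finset.mem_range.1 hi)]
    field_simp [Nat.cast_ne_zero.2 (Nat.card_pos (α := R.K)).ne']

include hz in
/-- The inner products of the induced functions. -/
theorem inner_gTheta {w : ℂ} (hw : w ^ (2 ^ (n - 1)) = 1) (hz1 : z ≠ 1) (hw1 : w ≠ 1) :
    Cfsg.classInner (gTheta R z) (gTheta R w) =
      2 + (if z * w = 1 then 1 else 0) + (if z = w then 1 else 0) := by
  classical
  haveI := Fintype.ofFinite R.K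
  have hm0 : 0 < 2 ^ (n - 1) := by positivity
  rw [D.classInner_gTheta_of_avg R hz (gTheta_isClassFunction R w)
    (fun i => 2 - w ^ i - conj (w ^ i)) fun i hi0 hi => ?_]
  swap
  · rw [Finset.sum_congr rfl fun k _ => by
      rw [D.gTheta_of_ne R hw (by
          rw [D.dihF_pow_mul R _ k.2, sub_ne_zero]
          exact fun h => (zeta_spec n).pow_ne_one_of_pos_of_lt hi0.ne' hi h.symm),
        D.gF_pow_mul R hw _ k.2, map_add, Complex.conj_conj, map_sub, map_one],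
      Finset.sum_const, Finset.card_univ, nsmul_eq_mul, ← Nat.card_eq_fintype_card]
    ring
  have hwi : w⁻¹ ^ (2 ^ (n - 1)) = 1 := by rw [inv_pow, hw, inv_one]
  have hterm : ∀ i : ℕ, (1 - z ^ i) * (2 - w ^ i - conj (w ^ i)) =
      2 - w ^ i - w⁻¹ ^ i - 2 * z ^ i + (z * w) ^ i + (z * w⁻¹) ^ i := fun i => by
    rw [← Complex.inv_eq_conj (by rw [norm_pow, Complex.norm_eq_one_of_pow_eq_one hw hm0.ne',
      one_pow]), mul_pow, mul_pow, ← inv_pow]
    ring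
  rw [Finset.sum_congr rfl fun i _ => hterm i, Finset.sum_add_distrib, Finset.sum_add_distrib,
    Finset.sum_sub_distrib, Finset.sum_sub_distrib, Finset.sum_sub_distrib, ← Finset.mul_sum,
    root_sum hw, root_sum hwi, root_sum hz,
    root_sum (by rw [mul_pow, hz, hw, one_mul] : (z * w) ^ (2 ^ (n - 1)) = 1),
    root_sum (by rw [mul_pow, hz, hwi, one_mul] : (z * w⁻¹) ^ (2 ^ (n - 1)) = 1),
    Finset.sum_const, Finset.card_range, nsmul_eq_mul, if_neg hz1, if_neg hw1,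
    if_neg (fun h : w⁻¹ = 1 => hw1 (inv_eq_one.1 h))]
  have hw0 : w ≠ 0 := fun h => by simp [h] at hw
  have e : z * w⁻¹ = 1 ↔ z = w := by
    rw [mul_inv_eq_iff_eq_mul₀ hw0, one_mul]
  simp only [e]
  split_ifs <;> field_simp <;> ring

theorem exists_section {i : ℕ} {k : G} (hk : k ∈ R.K) :
    ∃ d ∈ R.K, ∃ k' ∈ R.K, k' * σ ^ i = σ ^ i * k' ∧ d * (σ ^ i * k') * d⁻¹ = σ ^ i * k := by
  classical
  haveI : Fact (Nat.Prime 2) := ⟨Nat.prime_two⟩
  have hs := pow_mem D.memσ i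
  have hsC := D.le_centralizer hs
  have hgC := mul_mem hsC (R.K_le hk)
  obtain ⟨x, hx⟩ := H40.exists_isPPart 2 (σ ^ i * k)
  have hxC := H40.mem_of_isPPart hx hgC
  obtain ⟨y, hxy, hcomm, hxo, hyo⟩ := hx
  have hyC : y ∈ centralizer ({centInv σ n} : Set G) := (mul_mem_cancel_left hxC).1 (hxy ▸ hgC)
  have hπy : R.π y = 1 := by
    obtain ⟨e, he⟩ := P.isPGroup' ⟨R.π y, R.π_mem y hyC⟩
    have he' : R.π y ^ 2 ^ e = 1 := congrArg Subtype.val he
    have hco : Nat.Coprime (2 ^ e) (orderOf y) :=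
      Nat.Coprime.pow_left _ (Nat.prime_two.coprime_iff_not_dvd.2 hyo)
    rw [← orderOf_eq_one_iff]
    exact Nat.eq_one_of_dvd_coprimes hco (orderOf_dvd_of_pow_eq_one he')
      (orderOf_dvd_of_pow_eq_one (by rw [← R.π_pow hyC, pow_orderOf_eq_one, R.π_one]))
  have hπx : R.π x = σ ^ i := by
    have h := R.π_mul _ hxC _ hyC
    rw [hxy, R.π_mul _ hsC _ (R.K_le hk), R.π_fix _ hs, R.π_of_mem hk, hπy, mul_one, mul_one] at h
    exact h.symm
  obtain ⟨d, hdC, hd⟩ := D.exists_conj_eq R hxC hxo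
  rw [hπx] at hd
  have hp := D.le_centralizer (R.π_mem d hdC)
  have hcs : (R.π d)⁻¹ * σ ^ i * R.π d = σ ^ i := by
    have h := R.π_conj hdC hxC
    rw [hd, R.π_fix _ hs, hπx] at h
    conv_lhs => rw [h]
    group
  set d' := (R.π d)⁻¹ * d with hd'
  have hd'C : d' ∈ centralizer ({centInv σ n} : Set G) := mul_mem (inv_mem hp) hdC
  have hd'K : d' ∈ R.K := (R.π_ker _ hd'C).1 (by
    rw [hd', R.π_mul _ (inv_mem hp) _ hdC, R.π_fix _ (inv_mem (R.π_mem d hdC)), inv_mul_cancel])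
  have hconj : d' * x * d'⁻¹ = σ ^ i := by
    rw [hd', show (R.π d)⁻¹ * d * x * ((R.π d)⁻¹ * d)⁻¹ = (R.π d)⁻¹ * (d * x * d⁻¹) * R.π d by
      group, hd, hcs]
  have hy'K : d' * y * d'⁻¹ ∈ R.K :=
    (R.π_ker _ (mul_mem (mul_mem hd'C hyC) (inv_mem hd'C))).1 (by
      rw [R.π_conj hd'C hyC, hπy, mul_one, mul_inv_cancel])
  refine ⟨d'⁻¹, inv_mem hd'K, _, hy'K, ?_, ?_⟩
  · rw [← hconj]
    calc d' * y * d'⁻¹ * (d' * x * d'⁻¹) = d' * (y * x) * d'⁻¹ := by group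
      _ = d' * x * d'⁻¹ * (d' * y * d'⁻¹) := by rw [← hcomm.eq]; group
  · rw [← hxy, ← hconj]
    group

/-- The centralizer of a nontrivial power of `σ` lies in that of the central involution. -/
theorem centralizer_pow_le {i : ℕ} (hi0 : 0 < i) (hi : i < 2 ^ (n - 1)) :
    centralizer ({σ ^ i} : Set G) ≤ centralizer ({centInv σ n} : Set G) := by
  obtain ⟨R⟩ := D.exists_retr
  have hf : dihF R (σ ^ i) ≠ 0 := by
    rw [← mul_one (σ ^ i), D.dihF_pow_mul R i (one_mem _), sub_ne_zero]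
    exact fun h => (zeta_spec n).pow_ne_one_of_pos_of_lt hi0.ne' hi h.symm
  intro c hc
  rw [mem_centralizer_singleton_iff, ← (D.half_pow_eq R hf).2]
  exact (Commute.pow_right (mem_centralizer_singleton_iff.1 hc) _).eq

open scoped Classical in
/-- The section sums of the second main theorem. -/
theorem sum_section [Fintype R.K] (M : Ideal Cfsg.AlgInt) (hM : Cfsg.IsPModular 2 M)
    (χ : Cfsg.IrrCharacter G) {i : ℕ} (hi0 : 0 < i) (hi : i < 2 ^ (n - 1)) :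
    ∑ k : R.K, χ.1 (σ ^ i * k) =
      (Nat.card R.K : ℂ) * if χ ∈ Cfsg.principalBlock M G then χ.1 (σ ^ i) else 0 := by
  haveI : Fact (Nat.Prime 2) := ⟨Nat.prime_two⟩
  haveI := hM.2.1
  have hs := pow_mem D.memσ i
  have hsC := D.le_centralizer hs
  set L := R.K ⊓ centralizer ({σ ^ i} : Set G) with hL
  haveI := Fintype.ofFinite L
  haveI := Fintype.ofFinite (centralizer ({σ ^ i} : Set G))
  haveI := Fintype.ofFinite (R.K.subgroupOf (centralizer ({σ ^ i} : Set G)))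
  have hCC := D.centralizer_pow_le hi0 hi
  -- the fibres of `(d, k) ↦ d σ^i k d⁻¹`
  let Ψ : R.K × L → R.K := fun dk => ⟨(σ ^ i)⁻¹ * ((dk.1 : G) * (σ ^ i * dk.2) * (dk.1 : G)⁻¹), by
    have hkK := (mem_inf.1 dk.2.2).1
    have hd := R.K_le dk.1.2
    have hin := mul_mem (mul_mem hd (mul_mem hsC (R.K_le hkK))) (inv_mem hd)
    refine (R.π_ker _ (mul_mem (inv_mem hsC) hin)).1 ?_
    rw [R.π_mul _ (inv_mem hsC) _ hin, R.π_conj hd (mul_mem hsC (R.K_le hkK)),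
      R.π_mul _ hsC _ (R.K_le hkK), R.π_of_mem hkK, R.π_of_mem dk.1.2, R.π_fix _ hs,
      R.π_fix _ (inv_mem hs)]
    group⟩
  have hsurj : Function.Surjective Ψ := by
    intro k
    obtain ⟨d, hd, k', hk', hc, hdk⟩ := D.exists_section R (i := i) k.2
    refine ⟨(⟨d, hd⟩, ⟨k', mem_inf.2 ⟨hk', mem_centralizer_singleton_iff.2 hc⟩⟩), Subtype.ext ?_⟩
    show (σ ^ i)⁻¹ * (d * (σ ^ i * k') * d⁻¹) = k
    rw [hdk, inv_mul_cancel_left]
  have hpart : ∀ k : L, Cfsg.IsPPart 2 (σ ^ i * (k : G)) (σ ^ i) := by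
    intro k
    obtain ⟨hkK, hkc⟩ := mem_inf.1 k.2
    refine ⟨k, rfl, (mem_centralizer_singleton_iff.1 hkc).symm, ?_, ?_⟩
    · obtain ⟨a, -, ha⟩ := (Nat.dvd_prime_pow Nat.prime_two).1
        (D.ordσ ▸ orderOf_pow_dvd (x := σ) i : orderOf (σ ^ i) ∣ 2 ^ (n - 1))
      exact ⟨a, ha⟩
    · exact fun h2 => (Nat.not_even_iff_odd.2 (R.odd_orderOf hkK)) (even_iff_two_dvd.2 h2)
  have hfib : ∀ k : R.K, (Finset.univ.filter fun dk => Ψ dk = k).card = Fintype.card L := by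
    intro k
    obtain ⟨⟨d₀, k₀⟩, h₀⟩ := hsurj k
    rw [← Fintype.card_subtype]
    refine Fintype.card_congr (Equiv.symm ?_)
    refine Equiv.ofBijective (fun c : L => ⟨(⟨(d₀ : G) * c, mul_mem d₀.2 (mem_inf.1 c.2).1⟩,
      c⁻¹ * k₀ * c), ?_⟩) ⟨?_, ?_⟩
    · rw [← h₀]
      refine Subtype.ext ?_
      have hc := mem_centralizer_singleton_iff.1 (mem_inf.1 c.2).2
      show (σ ^ i)⁻¹ * ((d₀ : G) * c * (σ ^ i * ((c : G)⁻¹ * k₀ * c)) * ((d₀ : G) * c)⁻¹) =
        (σ ^ i)⁻¹ * ((d₀ : G) * (σ ^ i * k₀) * (d₀ : G)⁻¹)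
      calc (σ ^ i)⁻¹ * ((d₀ : G) * c * (σ ^ i * ((c : G)⁻¹ * k₀ * c)) * ((d₀ : G) * c)⁻¹)
          = (σ ^ i)⁻¹ * ((d₀ : G) * ((c : G) * σ ^ i) * (c : G)⁻¹ * k₀ * (d₀ : G)⁻¹) := by group
        _ = _ := by rw [hc]; group
    · intro c c' h
      have h' : (d₀ : G) * c = (d₀ : G) * c' := congrArg (fun q => (q.1.1 : G)) h
      exact Subtype.ext (mul_left_cancel h')
    · rintro ⟨⟨d, k'⟩, hdk⟩
      have he : (d : G) * (σ ^ i * k') * (d : G)⁻¹ = (d₀ : G) * (σ ^ i * k₀) * (d₀ : G)⁻¹ :=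
        mul_left_cancel (congrArg Subtype.val (hdk.trans h₀.symm))
      have h1 : Cfsg.IsPPart 2 (σ ^ i * (k₀ : G))
          ((d₀ : G)⁻¹ * d * σ ^ i * ((d₀ : G)⁻¹ * d)⁻¹) := by
        have h := H40.isPPart_conj ((d₀ : G)⁻¹ * d) (hpart k')
        rwa [show (d₀ : G)⁻¹ * d * (σ ^ i * k') * ((d₀ : G)⁻¹ * d)⁻¹ =
          (d₀ : G)⁻¹ * ((d : G) * (σ ^ i * k') * (d : G)⁻¹) * d₀ by group, he,
          show (d₀ : G)⁻¹ * ((d₀ : G) * (σ ^ i * k₀) * (d₀ : G)⁻¹) * d₀ = σ ^ i * k₀ by group] at h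
      have hcm := mul_inv_eq_iff_eq_mul.1 (H40.isPPart_unique h1 (hpart k₀))
      have hcL : (d₀ : G)⁻¹ * d ∈ L :=
        mem_inf.2 ⟨mul_mem (inv_mem d₀.2) d.2, mem_centralizer_singleton_iff.2 hcm⟩
      refine ⟨⟨_, hcL⟩, Subtype.ext (Prod.ext (Subtype.ext ?_) (Subtype.ext ?_))⟩
      · show (d₀ : G) * ((d₀ : G)⁻¹ * d) = d
        rw [mul_inv_cancel_left]
      · show ((d₀ : G)⁻¹ * d)⁻¹ * k₀ * ((d₀ : G)⁻¹ * d) = k'
        have e : σ ^ i * (k₀ : G) =
            (d₀ : G)⁻¹ * d * (σ ^ i * k') * ((d₀ : G)⁻¹ * d)⁻¹ := by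
          calc σ ^ i * (k₀ : G) = (d₀ : G)⁻¹ * ((d₀ : G) * (σ ^ i * k₀) * (d₀ : G)⁻¹) * d₀ := by
                group
            _ = _ := by rw [← he]; group
        have e2 : σ ^ i * (k₀ : G) = σ ^ i * ((d₀ : G)⁻¹ * d * k' * ((d₀ : G)⁻¹ * d)⁻¹) := by
          rw [e, ← mul_assoc ((d₀ : G)⁻¹ * d), hcm]
          group
        rw [mul_left_cancel e2]
        group
  have hA : (Fintype.card L : ℂ) * ∑ k : R.K, χ.1 (σ ^ i * k) =
      (Nat.card R.K : ℂ) * ∑ k : L, χ.1 (σ ^ i * k) := by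
    have h := (Finset.sum_fiberwise_of_maps_to (s := (Finset.univ : Finset (R.K × L)))
      (t := Finset.univ) (fun dk _ => Finset.mem_univ (Ψ dk))
      (fun dk => χ.1 (σ ^ i * (Ψ dk : G)))).symm
    rw [Finset.sum_congr rfl fun k _ => (Finset.sum_congr rfl fun dk hdk =>
      by rw [(Finset.mem_filter.1 hdk).2] : ∑ dk ∈ Finset.univ.filter (fun dk => Ψ dk = k),
        χ.1 (σ ^ i * (Ψ dk : G)) = ∑ _dk ∈ Finset.univ.filter (fun dk => Ψ dk = k),
        χ.1 (σ ^ i * (k : G)))] at h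
    simp only [Finset.sum_const, hfib, nsmul_eq_mul, ← Finset.mul_sum] at h
    rw [← h, Fintype.sum_prod_type]
    simp only [Ψ, mul_inv_cancel_left, H26.irr_conj, Finset.sum_const, Finset.card_univ,
      nsmul_eq_mul, Nat.card_eq_fintype_card]
  -- the principal block of the centralizer
  have hO : (R.K.subgroupOf (centralizer ({σ ^ i} : Set G))).Normal := ⟨fun a ha c => by
    rw [mem_subgroupOf] at ha ⊢
    have hcC := hCC c.2
    have haC := R.K_le ha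
    push_cast
    refine (R.π_ker _ (mul_mem (mul_mem hcC haC) (inv_mem hcC))).1 ?_
    rw [R.π_conj hcC haC, R.π_of_mem ha, mul_one, mul_inv_cancel]⟩
  let ec : L ≃ R.K.subgroupOf (centralizer ({σ ^ i} : Set G)) :=
    ⟨fun x => ⟨⟨x, (mem_inf.1 x.2).2⟩, (mem_inf.1 x.2).1⟩,
      fun x => ⟨x.1, mem_inf.2 ⟨x.2, x.1.2⟩⟩, fun _ => rfl, fun _ => rfl⟩
  have hOodd : ¬ 2 ∣ Nat.card (R.K.subgroupOf (centralizer ({σ ^ i} : Set G))) := by
    rw [← Nat.card_congr ec]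
    intro h
    have := Subgroup.card_dvd_of_le (inf_le_left : L ≤ R.K)
    exact (Nat.not_even_iff_odd.2 R.K_odd) (even_iff_two_dvd.2 (h.trans this))
  let ρ : centralizer ({σ ^ i} : Set G) →* (P : Subgroup G) :=
    MonoidHom.mk' (fun c => ⟨R.π c, R.π_mem c (hCC c.2)⟩)
      (fun a b => Subtype.ext (R.π_mul _ (hCC a.2) _ (hCC b.2)))
  have hker : ρ.ker = R.K.subgroupOf (centralizer ({σ ^ i} : Set G)) := by
    ext c
    rw [MonoidHom.mem_ker, mem_subgroupOf, ← R.π_ker c (hCC c.2)]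
    exact Subtype.ext_iff
  have hidx : ∃ k, (R.K.subgroupOf (centralizer ({σ ^ i} : Set G))).index = 2 ^ k := by
    rw [← hker, Subgroup.index_ker]
    exact (P.isPGroup'.to_subgroup ρ.range).exists_card_eq
  obtain ⟨a, -, ha⟩ := (Nat.dvd_prime_pow Nat.prime_two).1
    (D.ordσ ▸ orderOf_pow_dvd (x := σ) i : orderOf (σ ^ i) ∣ 2 ^ (n - 1))
  have hproj := H40.sum_inducingSet_mul hM (x := σ ^ i) ⟨a, ha⟩
    H41.isPBlock_principalBlock (g := ⟨σ ^ i, mem_centralizer_singleton_iff.2 rfl⟩)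
    ⟨1, mul_one _, Commute.one_right _, ⟨a, ha⟩, by simp⟩ χ
  rw [H41.inducingSet_principalBlock hM ⟨a, ha⟩] at hproj
  simp only [H38.blockCoeff_principal_of_complement hM _ hOodd hidx, ite_mul, zero_mul] at hproj
  rw [← Finset.sum_filter, ← Finset.mul_sum, Finset.sum_subtype _ (p := fun k =>
    k ∈ R.K.subgroupOf (centralizer ({σ ^ i} : Set G))) (by simp), ← ec.sum_comp] at hproj
  have hL0 : (Nat.card L : ℂ) ≠ 0 := Nat.cast_ne_zero.2 Nat.card_pos.ne'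
  have hsum : ∑ k : L, χ.1 (σ ^ i * k) =
      (Nat.card L : ℂ) * if χ ∈ Cfsg.principalBlock M G then χ.1 (σ ^ i) else 0 := by
    rw [← Nat.card_congr ec] at hproj
    rw [← hproj, ← mul_assoc, mul_inv_cancel₀ hL0, one_mul]
    refine Finset.sum_congr rfl fun k _ => ?_
    show _ = χ.1 ((k : G) * σ ^ i)
    rw [mem_centralizer_singleton_iff.1 (mem_inf.1 k.2).2]
  rw [hsum, ← Nat.card_eq_fintype_card] at hA
  exact mul_left_cancel₀ hL0 (hA.trans (by ring))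

end DihSylow

end Cfsg.Agent.H56
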