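import Mathlib

/-!
# Signed vectors with the inner products of the dihedral exceptional family
-/

set_option autoImplicit false

namespace Cfsg.Agent.H56

theorem exists_coherent_family {ι : Type*} [Fintype ι] [DecidableEq ι] (h : ℕ) (hh : h = 2 ∨ 4 ≤ h)
    (x : ι → ℕ) (hx : ∀ i, 0 < x i) (c : ℕ → ι → ℤ)
    (hn : ∀ j, 1 ≤ j → j < h → ∑ i, c j i ^ 2 = 2) (hn' : ∑ i, c h i ^ 2 = 3)
    (hip : ∀ j k, 1 ≤ j → j < k → k ≤ h → ∑ i, c j i * c k i = 1)
    (hdeg : ∀ j, 1 ≤ j → j ≤ h → ∑ i, c j i * x i = -1) :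
    ∃ (A B₂ B₃ : ι) (q : ℕ → ι) (δ δ₂ δ₃ : ℤ), (δ = 1 ∨ δ = -1) ∧ (δ₂ = 1 ∨ δ₂ = -1) ∧
      (δ₃ = 1 ∨ δ₃ = -1) ∧ A ≠ B₂ ∧ A ≠ B₃ ∧ B₂ ≠ B₃ ∧
      (∀ j, 1 ≤ j → j < h → q j ≠ A ∧ q j ≠ B₂ ∧ q j ≠ B₃) ∧
      (∀ j k, 1 ≤ j → j < h → 1 ≤ k → k < h → q j = q k → j = k) ∧
      (∀ i, c h i = (if i = A then δ else 0) + (if i = B₂ then δ₂ else 0) +
        (if i = B₃ then δ₃ else 0)) ∧
      (∀ j, 1 ≤ j → j < h → ∀ i, c j i = (if i = A then δ else 0) + if i = q j then -δ else 0) := by
  have habs : ∀ j, 1 ≤ j → j ≤ h → ∀ i, c j i = 0 ∨ c j i = 1 ∨ c j i = -1 := by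
    intro j h1 h2 i
    have hle : ∑ i, c j i ^ 2 ≤ 3 := by
      rcases h2.lt_or_eq with h3 | rfl
      · rw [hn j h1 h3]; norm_num
      · rw [hn']
    have := (Finset.single_le_sum (f := fun i => c j i ^ 2) (fun i _ => sq_nonneg _)
      (Finset.mem_univ i)).trans hle
    have h4 : -1 ≤ c j i ∧ c j i ≤ 1 := ⟨by nlinarith, by nlinarith⟩
    omega
  have hsupp : ∀ j, 1 ≤ j → j ≤ h →
      ((Finset.univ.filter fun i => c j i ≠ 0).card : ℤ) = ∑ i, c j i ^ 2 := by
    intro j h1 h2
    rw [Finset.card_filter]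
    push_cast
    refine Finset.sum_congr rfl fun i _ => ?_
    rcases habs j h1 h2 i with e | e | e <;> rw [e] <;> norm_num
  have hshape : ∀ j, 1 ≤ j → j < h → ∃ a b s, (s = 1 ∨ s = -1) ∧ a ≠ b ∧
      (∀ i, c j i = (if i = a then s else 0) + if i = b then -s else 0) ∧ c h a = s ∧ c h b = 0 ∧
      s * ((x a : ℤ) - x b) = -1 := by
    intro j h1 h2
    obtain ⟨p, q, hpq, hs⟩ := Finset.card_eq_two.1 (show
      (Finset.univ.filter fun i => c j i ≠ 0).card = 2 by
        exact_mod_cast (hsupp j h1 h2.le).trans (hn j h1 h2))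
    have hz : ∀ i, i ≠ p → i ≠ q → c j i = 0 := by
      intro i hi hi'
      by_contra hne
      have : i ∈ ({p, q} : Finset ι) := hs ▸ Finset.mem_filter.2 ⟨Finset.mem_univ i, hne⟩
      simp [hi, hi'] at this
    have hp : c j p ≠ 0 :=
      (Finset.mem_filter.1 (show p ∈ Finset.univ.filter fun i => c j i ≠ 0 by rw [hs]; simp)).2
    have hq : c j q ≠ 0 :=
      (Finset.mem_filter.1 (show q ∈ Finset.univ.filter fun i => c j i ≠ 0 by rw [hs]; simp)).2
    have e1 : ∑ i, c j i * c h i = c j p * c h p + c j q * c h q := by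
      rw [Fintype.sum_eq_add p q hpq]
      intro i hi
      rw [hz i hi.1 hi.2, zero_mul]
    have e2 : ∑ i, c j i * (x i : ℤ) = c j p * x p + c j q * x q := by
      rw [Fintype.sum_eq_add p q hpq]
      intro i hi
      rw [hz i hi.1 hi.2, zero_mul]
    rw [hip j h h1 h2 le_rfl] at e1
    rw [hdeg j h1 h2.le] at e2
    have hform : ∀ (a b : ι), a ≠ b → (∀ i, i ≠ a → i ≠ b → c j i = 0) → c j b = -c j a →
        ∀ i, c j i = (if i = a then c j a else 0) + if i = b then -c j a else 0 := by
      intro a b hab hz' hb i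
      by_cases ha' : i = a
      · subst ha'; simp [hab]
      · by_cases hb' : i = b
        · subst hb'; simp [ha', hb]
        · simp [ha', hb', hz' i ha' hb']
    have hP := habs j h1 h2.le p
    have hQ := habs j h1 h2.le q
    have hP' := habs h (h1.trans h2.le) le_rfl p
    have hQ' := habs h (h1.trans h2.le) le_rfl q
    have hopp : c j q = -c j p := by
      rcases hP with e | e | e
      · exact absurd e hp
      · rcases hQ with f | f | f
        · exact absurd f hq
        · exfalso; rw [e, f] at e2; omega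
        · rw [e, f]
      · rcases hQ with f | f | f
        · exact absurd f hq
        · rw [e, f]; norm_num
        · exfalso
          have := hx p
          have := hx q
          rw [e, f] at e2
          omega
    rcases hP' with u | u | u <;> rcases hQ' with v | v | v
    all_goals rw [u, v, hopp] at e1
    all_goals rw [hopp] at e2
    all_goals rcases hP with e | e | e
    all_goals first
      | exact absurd e hp
      | (exfalso; rw [e] at e1; norm_num at e1; done)
      | exact ⟨p, q, c j p, by rw [e]; norm_num, hpq, hform p q hpq hz hopp, by rw [u, e], v,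
          by linear_combination -e2⟩
      | exact ⟨q, p, c j q, by rw [hopp, e]; norm_num, hpq.symm,
          hform q p hpq.symm (fun i a b => hz i b a) (by rw [hopp, neg_neg]),
          by simp [v, hopp, e], u, by rw [hopp]; linear_combination -e2⟩
  haveI : Nonempty ι := by
    by_contra hne
    rw [not_nonempty_iff] at hne
    simp at hn'
  choose! a b s hs hab hform ha hb hd using hshape
  have hpairs : ∀ j k, 1 ≤ j → j < k → k < h → s j = s k ∧
      ((a j = a k ∧ b j ≠ b k) ∨ (a j ≠ a k ∧ b j = b k)) := by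
    intro j k h1 h2 h3
    have e := hip j k h1 h2 h3.le
    have h4 := h1.trans h2.le
    have n1 : a j ≠ b k := fun he => by
      have := ha j h1 (h2.trans h3)
      rw [he, hb k h4 h3] at this
      rcases hs j h1 (h2.trans h3) with u | u <;> rw [u] at this <;> norm_num at this
    have n2 : b j ≠ a k := fun he => by
      have := ha k h4 h3
      rw [← he, hb j h1 (h2.trans h3)] at this
      rcases hs k h4 h3 with u | u <;> rw [u] at this <;> norm_num at this
    rw [Fintype.sum_eq_add (a j) (b j) (hab j h1 (h2.trans h3))] at e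
    swap
    · intro i hi
      rw [hform j h1 (h2.trans h3) i, if_neg hi.1, if_neg hi.2, add_zero, zero_mul]
    rw [hform j h1 (h2.trans h3), hform j h1 (h2.trans h3), hform k h4 h3, hform k h4 h3] at e
    have n3 := hab j h1 (h2.trans h3)
    simp only [if_neg n1, if_neg n2, if_neg n3, if_neg n3.symm, if_true, add_zero, zero_add] at e
    by_cases p1 : a j = a k <;> by_cases p2 : b j = b k
    all_goals rcases hs j h1 (h2.trans h3) with u | u <;> rcases hs k h4 h3 with v | v
    all_goals simp [p1, p2, u, v] at e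
    all_goals exact ⟨u.trans v.symm, by simp [p1, p2]⟩
  have hone : 1 < h := by omega
  have hsame : ∀ j, 1 ≤ j → j < h → a j = a 1 ∧ s j = s 1 := by
    intro j h1 h2
    rcases h1.lt_or_eq with h1' | rfl
    swap
    · exact ⟨rfl, rfl⟩
    obtain ⟨hs1, hcase⟩ := hpairs 1 j le_rfl h1' h2
    refine ⟨?_, hs1.symm⟩
    rcases hcase with ⟨e, -⟩ | ⟨hne, he⟩
    · exact e.symm
    exfalso
    obtain ⟨k, hk1, hk2, hkj⟩ : ∃ k, 1 < k ∧ k < h ∧ k ≠ j := by
      by_cases hj2 : j = 2
      · exact ⟨3, by omega, by omega, by omega⟩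
      · exact ⟨2, by omega, by omega, fun e => hj2 e.symm⟩
    obtain ⟨hsk, hck⟩ := hpairs 1 k le_rfl hk1 hk2
    have hjk : (a j = a k ∧ b j ≠ b k) ∨ (a j ≠ a k ∧ b j = b k) := by
      rcases Nat.lt_or_gt_of_ne hkj with h3 | h3
      · obtain ⟨-, h4 | h4⟩ := hpairs k j hk1.le h3 h2
        · exact Or.inl ⟨h4.1.symm, h4.2.symm⟩
        · exact Or.inr ⟨h4.1.symm, h4.2.symm⟩
      · exact (hpairs j k h1 h3 hk2).2
    rcases hck with ⟨e1, e2⟩ | ⟨e1, e2⟩
    · rcases hjk with ⟨f1, f2⟩ | ⟨f1, f2⟩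
      · exact hne (e1.trans f1.symm)
      · exact e2 (he.trans f2)
    · rcases hjk with ⟨f1, f2⟩ | ⟨f1, f2⟩
      · exact f2 (he.symm.trans e2)
      · have hset : (Finset.univ.filter fun i => c h i ≠ 0) = {a 1, a j, a k} := by
          refine (Finset.eq_of_subset_of_card_le (fun i hi => ?_) ?_).symm
          · have hne0 : ∀ l, 1 ≤ l → l < h → c h (a l) ≠ 0 := fun l l1 l2 hz => by
              rw [ha l l1 l2] at hz
              rcases hs l l1 l2 with u | u <;> rw [u] at hz <;> norm_num at hz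
            simp only [Finset.mem_insert, Finset.mem_singleton] at hi
            rcases hi with rfl | rfl | rfl
            · exact Finset.mem_filter.2 ⟨Finset.mem_univ _, hne0 1 le_rfl hone⟩
            · exact Finset.mem_filter.2 ⟨Finset.mem_univ _, hne0 j h1 h2⟩
            · exact Finset.mem_filter.2 ⟨Finset.mem_univ _, hne0 k hk1.le hk2⟩
          · rw [Finset.card_insert_of_notMem (by simp [hne, e1]),
              Finset.card_insert_of_notMem (by simp [f1]), Finset.card_singleton]
            have := (hsupp h (by omega) le_rfl).trans hn'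
            omega
        have e := hdeg h (by omega) le_rfl
        rw [← Finset.sum_filter_of_ne (s := Finset.univ) (p := fun i => c h i ≠ 0)
          (fun i _ hi => left_ne_zero_of_mul hi), hset,
          Finset.sum_insert (by simp [hne, e1]), Finset.sum_insert (by simp [f1]),
          Finset.sum_singleton, ha 1 le_rfl hone, ha j h1 h2, ha k hk1.le hk2, ← hs1, ← hsk] at e
        have d1 := hd 1 le_rfl hone
        have d2 := hd j h1 h2
        have d3 := hd k hk1.le hk2
        rw [← hs1, ← he] at d2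
        rw [← hsk, ← e2] at d3
        rcases hs 1 le_rfl hone with u | u <;> rw [u] at e d1 d2 d3 <;> omega
  -- the other two members of the last vector
  have hA : a 1 ∈ Finset.univ.filter fun i => c h i ≠ 0 := by
    refine Finset.mem_filter.2 ⟨Finset.mem_univ _, ?_⟩
    rw [ha 1 le_rfl hone]
    rcases hs 1 le_rfl hone with u | u <;> rw [u] <;> norm_num
  obtain ⟨B₂, B₃, hB, hBs⟩ := Finset.card_eq_two.1 (show
    ((Finset.univ.filter fun i => c h i ≠ 0).erase (a 1)).card = 2 by
      rw [Finset.card_erase_of_mem hA]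
      have := (hsupp h (by omega) le_rfl).trans hn'
      omega)
  have hB2 := Finset.mem_erase.1 (hBs.symm ▸ Finset.mem_insert_self B₂ {B₃})
  have hB3 := Finset.mem_erase.1 (hBs.symm ▸
    Finset.mem_insert_of_mem (Finset.mem_singleton_self B₃))
  have n2 := (Finset.mem_filter.1 hB2.2).2
  have n3 := (Finset.mem_filter.1 hB3.2).2
  refine ⟨a 1, B₂, B₃, b, s 1, c h B₂, c h B₃, hs 1 le_rfl hone, ?_, ?_, hB2.1.symm, hB3.1.symm,
    hB, fun j h1 h2 => ⟨?_, ?_, ?_⟩, fun j k h1 h2 h3 h4 e => ?_, fun i => ?_, fun j h1 h2 i => ?_⟩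
  · exact (habs h (by omega) le_rfl B₂).resolve_left n2
  · exact (habs h (by omega) le_rfl B₃).resolve_left n3
  · rw [← (hsame j h1 h2).1]; exact (hab j h1 h2).symm
  · exact fun e => n2 (e ▸ hb j h1 h2)
  · exact fun e => n3 (e ▸ hb j h1 h2)
  · by_contra hne
    rcases Nat.lt_or_gt_of_ne hne with h5 | h5
    · rcases (hpairs j k h1 h5 h4).2 with ⟨-, f⟩ | ⟨f, -⟩
      · exact f e
      · exact f ((hsame j h1 h2).1.trans (hsame k h3 h4).1.symm)
    · rcases (hpairs k j h3 h5 h2).2 with ⟨-, f⟩ | ⟨f, -⟩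
      · exact f e.symm
      · exact f ((hsame k h3 h4).1.trans (hsame j h1 h2).1.symm)
  · by_cases e1 : i = a 1
    · subst e1
      simp [ha 1 le_rfl hone, hB2.1.symm, hB3.1.symm]
    by_cases e2 : i = B₂
    · subst e2; simp [e1, hB]
    by_cases e3 : i = B₃
    · subst e3; simp [e1, e2]
    simp only [if_neg e1, if_neg e2, if_neg e3, add_zero]
    by_contra hne
    have : i ∈ ({B₂, B₃} : Finset ι) := hBs ▸ Finset.mem_erase.2
      ⟨e1, Finset.mem_filter.2 ⟨Finset.mem_univ i, hne⟩⟩
    simp [e2, e3] at this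
  · rw [hform j h1 h2 i, (hsame j h1 h2).1, (hsame j h1 h2).2]

end Cfsg.Agent.H56
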