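import Cfsg.Agent.H56.DihRetr

/-!
# Products of pairs of involutions in the centralizer of an involution
-/

set_option autoImplicit false
set_option linter.unusedSectionVars false

namespace Cfsg.Agent.H56

open Subgroup

variable {G : Type*} [Group G]

namespace CentRetr

variable {P : Sylow 2 G} {J : G} (R : CentRetr P J)

theorem π_one : R.π 1 = 1 := R.π_fix 1 (one_mem _)

theorem π_inv {a : G} (ha : a ∈ centralizer ({J} : Set G)) : R.π a⁻¹ = (R.π a)⁻¹ := by
  refine eq_inv_of_mul_eq_one_left ?_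
  rw [← R.π_mul _ (inv_mem ha) _ ha, inv_mul_cancel, R.π_one]

theorem π_pow {a : G} (ha : a ∈ centralizer ({J} : Set G)) (k : ℕ) : R.π (a ^ k) = R.π a ^ k := by
  induction k with
  | zero => simp [R.π_one]
  | succ k ih => rw [pow_succ, pow_succ, R.π_mul _ (pow_mem ha k) _ ha, ih]

theorem π_conj {c a : G} (hc : c ∈ centralizer ({J} : Set G))
    (ha : a ∈ centralizer ({J} : Set G)) :
    R.π (c * a * c⁻¹) = R.π c * R.π a * (R.π c)⁻¹ := by
  rw [R.π_mul _ (mul_mem hc ha) _ (inv_mem hc), R.π_mul _ hc _ ha, R.π_inv hc]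

theorem π_of_mem {k : G} (hk : k ∈ R.K) : R.π k = 1 := (R.π_ker k (R.K_le hk)).2 hk

theorem eq_one_of_sq [Finite G] {x : G} (hx : x ∈ R.K) (h2 : x * x = 1) : x = 1 := by
  by_contra hne
  have h := H28.orderOf_two_of_mul_self h2 hne
  have h1 := R.K_odd.of_dvd_nat (Subgroup.orderOf_dvd_natCard R.K hx)
  rw [h] at h1
  exact absurd h1 (by decide)

theorem odd_orderOf [Finite G] {x : G} (hx : x ∈ R.K) : Odd (orderOf x) :=
  R.K_odd.of_dvd_nat (Subgroup.orderOf_dvd_natCard R.K hx)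

/-- The number of involutions and identity elements lying over `p`. -/
noncomputable def W (p : G) : ℕ :=
  Nat.card {u : G // u ∈ centralizer ({J} : Set G) ∧ u * u = 1 ∧ R.π u = p}

/-- The order of the centralizer of `t` in the normal complement. -/
noncomputable def kap (t : G) : ℕ := Nat.card (R.K ⊓ centralizer ({t} : Set G) : Subgroup G)

theorem card_centralizer_eq [Finite G] (hP : (P : Subgroup G) ≤ centralizer ({J} : Set G)) :
    Nat.card (centralizer ({J} : Set G)) = Nat.card (P : Subgroup G) * Nat.card R.K := by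
  rw [← Nat.card_prod]
  refine Nat.card_congr ⟨fun g => (⟨R.π g, R.π_mem g g.2⟩, ⟨(R.π g)⁻¹ * g, ?_⟩),
    fun pk => ⟨(pk.1 : G) * (pk.2 : G), mul_mem (hP pk.1.2) (R.K_le pk.2.2)⟩,
    fun g => Subtype.ext (mul_inv_cancel_left _ _), fun pk => ?_⟩
  · have h1 : (R.π g)⁻¹ ∈ centralizer ({J} : Set G) := inv_mem (hP (R.π_mem g g.2))
    refine (R.π_ker _ (mul_mem h1 g.2)).1 ?_
    rw [R.π_mul _ h1 _ g.2, R.π_fix _ (inv_mem (R.π_mem g g.2)), inv_mul_cancel]
  · have h : R.π ((pk.1 : G) * (pk.2 : G)) = pk.1 := by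
      rw [R.π_mul _ (hP pk.1.2) _ (R.K_le pk.2.2), R.π_fix _ pk.1.2, R.π_of_mem pk.2.2, mul_one]
    refine Prod.ext (Subtype.ext h) (Subtype.ext ?_)
    show (R.π _)⁻¹ * _ = _
    rw [h, inv_mul_cancel_left]

end CentRetr

namespace DihSylow

variable [Finite G] {P : Sylow 2 G} {σ τ : G} {n : ℕ} (D : DihSylow P σ τ n)
  (R : CentRetr P (centInv σ n))
include D

theorem tau_mem_centralizer : τ ∈ centralizer ({centInv σ n} : Set G) :=
  D.le_centralizer D.memτ

theorem exists_conj_over {u : G} (hu : u ∈ centralizer ({centInv σ n} : Set G))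
    (hu2 : u * u = 1) (hπ : R.π u = τ) : ∃ k ∈ R.K, k * τ * k⁻¹ = u := by
  have hτC := D.tau_mem_centralizer
  have hK : τ * u ∈ R.K := (R.π_ker _ (mul_mem hτC hu)).1 (by
    rw [R.π_mul _ hτC _ hu, R.π_fix _ D.memτ, hπ, D.tau_mul])
  obtain ⟨d, hd, hdu⟩ := H28.exists_conj_of_odd D.tau_mul hu2 (R.odd_orderOf hK)
  have hdC : d ∈ centralizer ({centInv σ n} : Set G) := by
    refine (closure_le _).2 ?_ hd
    rintro x (rfl | rfl)
    · exact hτC
    · exact hu
  have hp := R.π_conj hdC hτC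
  rw [hdu, hπ, R.π_fix _ D.memτ] at hp
  have hpC := D.le_centralizer (R.π_mem d hdC)
  refine ⟨d * (R.π d)⁻¹, (R.π_ker _ (mul_mem hdC (inv_mem hpC))).1 ?_, ?_⟩
  · rw [R.π_mul _ hdC _ (inv_mem hpC), R.π_fix _ (inv_mem (R.π_mem d hdC)), mul_inv_cancel]
  · have h : (R.π d)⁻¹ * τ * R.π d = τ := by
      conv_lhs => rw [hp]
      group
    calc d * (R.π d)⁻¹ * τ * (d * (R.π d)⁻¹)⁻¹ = d * ((R.π d)⁻¹ * τ * R.π d) * d⁻¹ := by group
      _ = u := by rw [h, hdu]

theorem W_mul_kap : R.W τ * R.kap τ = Nat.card R.K := by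
  classical
  have hτC := D.tau_mem_centralizer
  let S := (centralizer ({τ} : Set G)).subgroupOf R.K
  have hS : Nat.card S = R.kap τ :=
    Nat.card_congr ⟨fun x => ⟨(x : R.K), mem_inf.2 ⟨(x : R.K).2, x.2⟩⟩,
      fun x => ⟨⟨x, (mem_inf.1 x.2).1⟩, (mem_inf.1 x.2).2⟩, fun x => rfl, fun x => rfl⟩
  let f : R.K ⧸ S → {u : G // u ∈ centralizer ({centInv σ n} : Set G) ∧ u * u = 1 ∧ R.π u = τ} :=
    Quotient.lift (fun k => ⟨(k : G) * τ * (k : G)⁻¹,
      mul_mem (mul_mem (R.K_le k.2) hτC) (inv_mem (R.K_le k.2)),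
      by rw [show (k : G) * τ * (k : G)⁻¹ * ((k : G) * τ * (k : G)⁻¹) = k * (τ * τ) * (k : G)⁻¹ by
        group, D.tau_mul, mul_one, mul_inv_cancel],
      by rw [R.π_conj (R.K_le k.2) hτC, R.π_of_mem k.2, R.π_fix _ D.memτ, one_mul, inv_one,
        mul_one]⟩) (by
      intro a b hab
      replace hab : a⁻¹ * b ∈ S := QuotientGroup.leftRel_apply.1 hab
      rw [mem_subgroupOf, mem_centralizer_singleton_iff] at hab
      refine Subtype.ext ?_
      push_cast at hab
      calc (a : G) * τ * (a : G)⁻¹ = a * (τ * ((a : G)⁻¹ * b)) * (b : G)⁻¹ := by group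
        _ = (b : G) * τ * (b : G)⁻¹ := by rw [← hab]; group)
  have hf : Function.Bijective f := by
    refine ⟨?_, fun u => ?_⟩
    · intro x y
      induction x using QuotientGroup.induction_on with
      | H a =>
        induction y using QuotientGroup.induction_on with
        | H b =>
          intro h
          have h' : (a : G) * τ * (a : G)⁻¹ = (b : G) * τ * (b : G)⁻¹ := congrArg Subtype.val h
          refine QuotientGroup.eq.2 (mem_subgroupOf.2 (mem_centralizer_singleton_iff.2 ?_))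
          push_cast
          calc (a : G)⁻¹ * b * τ = (a : G)⁻¹ * ((b : G) * τ * (b : G)⁻¹) * b := by group
            _ = τ * ((a : G)⁻¹ * b) := by rw [← h']; group
    · obtain ⟨k, hk, hku⟩ := D.exists_conj_over R u.2.1 u.2.2.1 u.2.2.2
      exact ⟨QuotientGroup.mk ⟨k, hk⟩, Subtype.ext hku⟩
  rw [CentRetr.W, ← Nat.card_congr (Equiv.ofBijective f hf), ← hS, ← Subgroup.index,
    index_mul_card]

theorem isConj_of_over {u : G} (hu : u ∈ centralizer ({centInv σ n} : Set G))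
    (hu2 : u * u = 1) (hπ : R.π u = τ) : IsConj τ u := by
  obtain ⟨k, -, hk⟩ := D.exists_conj_over R hu hu2 hπ
  exact isConj_iff.2 ⟨k, hk⟩

theorem centralizer_sigma {p : G} (hp : p ∈ (P : Subgroup G)) (hc : p * τ = τ * p) :
    p = 1 ∨ p = centInv σ n ∨ p = τ ∨ p = centInv σ n * τ := by
  obtain ⟨i, h⟩ := D.forms p hp
  have key : σ ^ i * τ = τ * σ ^ i → σ ^ i = 1 ∨ σ ^ i = centInv σ n := by
    intro h1
    have h2 := D.tau_pow i
    rw [← h1, mul_inv_cancel_right, eq_inv_iff_mul_eq_one, ← pow_add,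
      ← orderOf_dvd_iff_pow_eq_one, D.ordσ, ← D.two_mul_half, ← two_mul] at h2
    obtain ⟨c, hc⟩ := Nat.dvd_of_mul_dvd_mul_left two_pos h2
    rw [hc, pow_mul]
    rcases Nat.even_or_odd c with ⟨d, rfl⟩ | ⟨d, rfl⟩
    · left
      rw [← two_mul, pow_mul, ← pow_mul σ, mul_comm, D.two_mul_half, ← D.ordσ, pow_orderOf_eq_one,
        one_pow]
    · right
      rw [pow_succ, pow_mul, ← pow_mul σ, mul_comm, D.two_mul_half, ← D.ordσ, pow_orderOf_eq_one,
        one_pow, one_mul, centInv]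
  rcases h with rfl | rfl
  · rcases key hc with h | h
    · exact Or.inl h
    · exact Or.inr (Or.inl h)
  · have h1 : σ ^ i * τ = τ * σ ^ i := by
      rw [mul_assoc, D.tau_mul, mul_one, ← mul_assoc] at hc
      calc σ ^ i * τ = τ * σ ^ i * τ * τ := by rw [← hc]
        _ = τ * σ ^ i := by rw [mul_assoc, D.tau_mul, mul_one]
    rcases key h1 with h | h
    · exact Or.inr (Or.inr (Or.inl (by rw [h, one_mul])))
    · exact Or.inr (Or.inr (Or.inr (by rw [h])))

theorem card_centralizer_pair :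
    Nat.card (centralizer ({centInv σ n, τ} : Set G)) = 4 * R.kap τ := by
  classical
  have hmem : ∀ g : G, g ∈ centralizer ({centInv σ n, τ} : Set G) ↔
      g ∈ centralizer ({centInv σ n} : Set G) ∧ g * τ = τ * g := by
    intro g
    simp only [mem_centralizer_iff, Set.mem_insert_iff, Set.mem_singleton_iff, forall_eq_or_imp,
      forall_eq]
    exact and_congr Iff.rfl eq_comm
  let Z : Finset G := {1, centInv σ n, τ, centInv σ n * τ}
  have hJσ : centInv σ n ∈ zpowers σ := npow_mem_zpowers σ _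
  have hJ1 : centInv σ n ≠ 1 := H28.ne_one_of_orderOf_two D.orderOf_centInv
  have hZ : Z.card = 4 := by
    have h1 : centInv σ n * τ ∉ zpowers σ := D.pow_mul_tau_not_mem _
    have h2 := D.not_mem
    have h3 : (1 : G) ∈ zpowers σ := one_mem _
    have h4 : τ ≠ centInv σ n * τ := fun h => hJ1 (mul_eq_right.1 h.symm)
    have h5 : (1 : G) ∉ ({centInv σ n, τ, centInv σ n * τ} : Finset G) := by
      simp only [Finset.mem_insert, Finset.mem_singleton]
      rintro (h | h | h)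
      · exact hJ1 h.symm
      · exact h2 (h ▸ h3)
      · exact h1 (h ▸ h3)
    have h6 : centInv σ n ∉ ({τ, centInv σ n * τ} : Finset G) := by
      simp only [Finset.mem_insert, Finset.mem_singleton]
      rintro (h | h)
      · exact h2 (h ▸ hJσ)
      · exact h1 (h ▸ hJσ)
    have h7 : τ ∉ ({centInv σ n * τ} : Finset G) := by simpa using h4
    rw [Finset.card_insert_of_notMem h5, Finset.card_insert_of_notMem h6,
      Finset.card_insert_of_notMem h7, Finset.card_singleton]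
  have hZP : ∀ z ∈ Z, z ∈ (P : Subgroup G) ∧ z * τ = τ * z := by
    intro z hz
    simp only [Z, Finset.mem_insert, Finset.mem_singleton] at hz
    rcases hz with rfl | rfl | rfl | rfl
    · exact ⟨one_mem _, by simp⟩
    · exact ⟨D.centInv_mem, D.commute_tau.symm.eq⟩
    · exact ⟨D.memτ, rfl⟩
    · exact ⟨mul_mem D.centInv_mem D.memτ, (D.commute_tau.symm.mul_left (Commute.refl τ)).eq⟩
  have hπ : ∀ g ∈ centralizer ({centInv σ n, τ} : Set G), R.π g ∈ Z := by
    intro g hg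
    obtain ⟨hgC, hgτ⟩ := (hmem g).1 hg
    have h := congrArg R.π hgτ
    rw [R.π_mul _ hgC _ D.tau_mem_centralizer, R.π_mul _ D.tau_mem_centralizer _ hgC,
      R.π_fix _ D.memτ] at h
    rcases D.centralizer_sigma (R.π_mem g hgC) h with h1 | h1 | h1 | h1 <;> simp [Z, h1]
  rw [← hZ, ← Nat.card_eq_finsetCard Z, CentRetr.kap, ← Nat.card_prod]
  refine Nat.card_congr ⟨fun g => (⟨R.π g, hπ g g.2⟩, ⟨(R.π g)⁻¹ * g, ?_⟩),
    fun zk => ⟨(zk.1 : G) * (zk.2 : G), ?_⟩,
    fun g => Subtype.ext (mul_inv_cancel_left _ _), fun zk => ?_⟩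
  · obtain ⟨hgC, hgτ⟩ := (hmem g).1 g.2
    obtain ⟨hP, hz⟩ := hZP _ (hπ g g.2)
    have h1 : (R.π g)⁻¹ ∈ centralizer ({centInv σ n} : Set G) := inv_mem (D.le_centralizer hP)
    refine mem_inf.2 ⟨(R.π_ker _ (mul_mem h1 hgC)).1 ?_,
      mem_centralizer_singleton_iff.2 ((Commute.inv_left hz).mul_left hgτ).eq⟩
    rw [R.π_mul _ h1 _ hgC, R.π_fix _ (inv_mem hP), inv_mul_cancel]
  · obtain ⟨hP, hz⟩ := hZP _ zk.1.2
    obtain ⟨hK, hk⟩ := mem_inf.1 zk.2.2
    exact (hmem _).2 ⟨mul_mem (D.le_centralizer hP) (R.K_le hK),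
      (Commute.mul_left hz (mem_centralizer_singleton_iff.1 hk)).eq⟩
  · obtain ⟨hP, -⟩ := hZP _ zk.1.2
    have hK := (mem_inf.1 zk.2.2).1
    have h : R.π ((zk.1 : G) * (zk.2 : G)) = zk.1 := by
      rw [R.π_mul _ (D.le_centralizer hP) _ (R.K_le hK), R.π_fix _ hP, R.π_of_mem hK, mul_one]
    refine Prod.ext (Subtype.ext h) (Subtype.ext ?_)
    show (R.π _)⁻¹ * _ = _
    rw [h, inv_mul_cancel_left]

theorem eq_centInv_of_over {u : G} (hu : u ∈ centralizer ({centInv σ n} : Set G))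
    (hu2 : u * u = 1) (hπ : R.π u = centInv σ n) : u = centInv σ n := by
  have hJC := D.le_centralizer D.centInv_mem
  have hK : u * centInv σ n ∈ R.K := (R.π_ker _ (mul_mem hu hJC)).1 (by
    rw [R.π_mul _ hu _ hJC, R.π_fix _ D.centInv_mem, hπ, D.centInv_mul])
  have hc : Commute u (centInv σ n) := mem_centralizer_singleton_iff.1 hu
  have h := R.eq_one_of_sq hK (by rw [hc.symm.mul_mul_mul_comm, hu2, D.centInv_mul, one_mul])
  rw [mul_eq_one_iff_eq_inv, H28.inv_eq_self_of_orderOf_two D.orderOf_centInv] at h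
  exact h

/-- Every involution of the centralizer lies over the central involution or a reflection. -/
theorem over_cases {u : G} (hu : u ∈ centralizer ({centInv σ n} : Set G)) (hu2 : u * u = 1)
    (hu1 : u ≠ 1) :
    R.π u = centInv σ n ∨ ∃ i < 2 ^ (n - 1), R.π u = σ ^ i * τ := by
  obtain ⟨i, h | h⟩ := D.forms _ (R.π_mem u hu)
  · left
    have hsq : σ ^ i * σ ^ i = 1 := by rw [← h, ← R.π_mul _ hu _ hu, hu2, R.π_one]
    rw [← pow_add, ← orderOf_dvd_iff_pow_eq_one, D.ordσ, ← D.two_mul_half, ← two_mul] at hsq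
    obtain ⟨c, hc⟩ := Nat.dvd_of_mul_dvd_mul_left two_pos hsq
    rcases Nat.even_or_odd c with ⟨d, rfl⟩ | ⟨d, rfl⟩
    · exfalso
      refine hu1 (R.eq_one_of_sq ((R.π_ker u hu).1 ?_) hu2)
      rw [h, hc, ← two_mul, ← mul_assoc, mul_comm _ 2, D.two_mul_half, pow_mul, ← D.ordσ,
        pow_orderOf_eq_one, one_pow]
    · rw [h, hc, mul_add, mul_one, ← mul_assoc, mul_comm _ 2, D.two_mul_half, pow_add, pow_mul,
        ← D.ordσ, pow_orderOf_eq_one, one_pow, one_mul, centInv]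
  · exact Or.inr ⟨i % 2 ^ (n - 1), Nat.mod_lt _ (by positivity), by
      rw [h, ← D.ordσ, pow_mod_orderOf]⟩

theorem W_add_two (i : ℕ) : R.W (σ ^ (i + 2) * τ) = R.W (σ ^ i * τ) := by
  have hσC := D.le_centralizer D.memσ
  have hττ := D.tau_pow 1
  rw [pow_one, D.tau_inv] at hττ
  have hkey : σ * (σ ^ i * τ) * σ⁻¹ = σ ^ (i + 2) * τ := by
    rw [← hττ, pow_add, pow_two]
    calc σ * (σ ^ i * τ) * (τ * σ * τ) = (σ * σ ^ i) * (τ * τ) * σ * τ := by group
      _ = σ ^ i * (σ * σ) * τ := by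
        rw [D.tau_mul, mul_one, (Commute.self_pow σ i).eq, mul_assoc (σ ^ i)]
  refine Nat.card_congr (Equiv.subtypeEquiv (MulAut.conj σ⁻¹).toEquiv fun u => ?_)
  show _ ↔ σ⁻¹ * u * σ⁻¹⁻¹ ∈ _ ∧ _ ∧ _
  simp only [MulEquiv.toEquiv_eq_coe, MulEquiv.coe_toEquiv, MulAut.conj_apply, inv_inv]
  constructor
  · rintro ⟨hu, hu2, hπ⟩
    refine ⟨mul_mem (mul_mem (inv_mem hσC) hu) hσC, ?_, ?_⟩
    · rw [show σ⁻¹ * u * σ * (σ⁻¹ * u * σ) = σ⁻¹ * (u * u) * σ by group, hu2, mul_one,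
        inv_mul_cancel]
    · have h := R.π_conj (inv_mem hσC) hu
      rw [inv_inv, R.π_fix _ (inv_mem D.memσ), inv_inv, hπ, ← hkey] at h
      rw [h]
      group
  · rintro ⟨hu, hu2, hπ⟩
    have hu' : u ∈ centralizer ({centInv σ n} : Set G) := by
      have := mul_mem (mul_mem hσC hu) (inv_mem hσC)
      rwa [show σ * (σ⁻¹ * u * σ) * σ⁻¹ = u by group] at this
    refine ⟨hu', ?_, ?_⟩
    · calc u * u = σ * (σ⁻¹ * u * σ * (σ⁻¹ * u * σ)) * σ⁻¹ := by group
        _ = 1 := by rw [hu2]; group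
    · have h := R.π_conj hσC hu
      rw [show σ * (σ⁻¹ * u * σ) * σ⁻¹ = u by group, R.π_fix _ D.memσ, hπ, hkey] at h
      exact h

theorem W_add_half (i : ℕ) : R.W (σ ^ (i + 2 ^ (n - 2)) * τ) = R.W (σ ^ i * τ) := by
  have hJC := D.le_centralizer D.centInv_mem
  have hkey : centInv σ n * (σ ^ (i + 2 ^ (n - 2)) * τ) = σ ^ i * τ := by
    rw [pow_add, ← mul_assoc, ← mul_assoc, ← (D.commute_sigma i).eq, mul_assoc (σ ^ i), ← centInv,
      D.centInv_mul, mul_one]
  have hkey' : centInv σ n * (σ ^ i * τ) = σ ^ (i + 2 ^ (n - 2)) * τ := by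
    rw [pow_add, ← mul_assoc, ← (D.commute_sigma i).eq, centInv]
  refine Nat.card_congr (Equiv.subtypeEquiv (Equiv.mulLeft (centInv σ n)) fun u => ?_)
  simp only [Equiv.coe_mulLeft]
  constructor
  · rintro ⟨hu, hu2, hπ⟩
    have hc : Commute u (centInv σ n) := mem_centralizer_singleton_iff.1 hu
    exact ⟨mul_mem hJC hu, by rw [hc.mul_mul_mul_comm, hu2, D.centInv_mul, one_mul],
      by rw [R.π_mul _ hJC _ hu, R.π_fix _ D.centInv_mem, hπ, hkey]⟩
  · rintro ⟨hu, hu2, hπ⟩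
    have hu' : u ∈ centralizer ({centInv σ n} : Set G) := by
      have := mul_mem hJC hu
      rwa [← mul_assoc, D.centInv_mul, one_mul] at this
    have hc : Commute u (centInv σ n) := mem_centralizer_singleton_iff.1 hu'
    rw [hc.mul_mul_mul_comm, D.centInv_mul, one_mul] at hu2
    refine ⟨hu', hu2, ?_⟩
    rw [R.π_mul _ hJC _ hu', R.π_fix _ D.centInv_mem] at hπ
    calc R.π u = centInv σ n * (centInv σ n * R.π u) := by
          rw [← mul_assoc, D.centInv_mul, one_mul]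
      _ = _ := by rw [hπ, hkey']

theorem W_centInv : R.W (centInv σ n) = 1 := by
  rw [CentRetr.W, Nat.card_eq_one_iff_unique]
  refine ⟨⟨fun a b => Subtype.ext ?_⟩, ⟨⟨centInv σ n, D.le_centralizer D.centInv_mem,
    D.centInv_mul, R.π_fix _ D.centInv_mem⟩⟩⟩
  rw [D.eq_centInv_of_over R a.2.1 a.2.2.1 a.2.2.2, D.eq_centInv_of_over R b.2.1 b.2.2.1 b.2.2.2]

end DihSylow

end Cfsg.Agent.H56
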