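import Cfsg.Agent.H56.DihCount
import Cfsg.Agent.H40.CoeffSums
import Cfsg.Agent.H40.PPart
import Cfsg.Agent.H43.CharTools
import Cfsg.Agent.H19.Cores
import Cfsg.Agent.S0942

/-!
# The order formula for dihedral Sylow 2-subgroups with one class of involutions

For `H = ⟨σ⟩ K` inside `C = C(J)` and a faithful linear character `l` of `H / K` the function
`Θ = (1 - l)^G` is supported on the section of the nontrivial powers of `σ`; summing it over the
products of pairs of involutions in two ways gives the order formula.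
-/

set_option autoImplicit false
set_option linter.unusedSectionVars false

open scoped ComplexConjugate

namespace Cfsg.Agent.H56

open Subgroup

variable {G : Type*} [Group G] [Fintype G]

/-- A primitive root of unity of order `2 ^ (n - 1)`. -/
noncomputable def zeta (n : ℕ) : ℂ :=
  Complex.exp (2 * Real.pi * Complex.I / ((2 ^ (n - 1) : ℕ) : ℂ))

theorem zeta_spec (n : ℕ) : IsPrimitiveRoot (zeta n) (2 ^ (n - 1)) :=
  Complex.isPrimitiveRoot_exp _ (by positivity)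

theorem conj_zeta_pow (n i : ℕ) : conj (zeta n ^ i) = zeta n ^ ((2 ^ (n - 1) - 1) * i) := by
  have h1 : ‖zeta n ^ i‖ = 1 := by
    rw [norm_pow, Complex.norm_eq_one_of_pow_eq_one (zeta_spec n).pow_eq_one (by positivity),
      one_pow]
  rw [← Complex.inv_eq_conj h1]
  refine inv_eq_of_mul_eq_one_right ?_
  rw [← pow_add, show i + (2 ^ (n - 1) - 1) * i = 2 ^ (n - 1) * i by
    conv_lhs => arg 1; rw [← one_mul i]
    rw [← add_mul, Nat.add_sub_cancel' Nat.one_le_two_pow], pow_mul, (zeta_spec n).pow_eq_one,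
    one_pow]

/-- A sum of a function of period two over an even range. -/
theorem sum_range_period_two (w : ℕ → ℂ) (hw : ∀ i, w (i + 2) = w i) (h : ℕ) :
    ∑ i ∈ Finset.range (2 * h), w i = h * (w 0 + w 1) := by
  induction h with
  | zero => simp
  | succ h ih =>
    have h0 : ∀ j, w (2 * j) = w 0 ∧ w (2 * j + 1) = w 1 := by
      intro j
      induction j with
      | zero => simp
      | succ j ihj => exact ⟨by rw [Nat.mul_succ, hw, ihj.1], by
          rw [show 2 * (j + 1) + 1 = 2 * j + 1 + 2 by ring, hw, ihj.2]⟩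
    rw [Nat.mul_succ, Finset.sum_range_succ, Finset.sum_range_succ, ih, (h0 h).1, (h0 h).2]
    push_cast
    ring

open scoped Classical in
/-- One minus the faithful linear character, on the powers of `σ`. -/
noncomputable def dF (σ : G) (n : ℕ) (p : G) : ℂ :=
  if h : ∃ i, i < 2 ^ (n - 1) ∧ p = σ ^ i then 1 - zeta n ^ h.choose else 0

open scoped Classical in
/-- One minus the linear character of `⟨σ⟩ K`, extended by zero. -/
noncomputable def dihF {P : Sylow 2 G} {σ : G} {n : ℕ} (R : CentRetr P (centInv σ n)) (g : G) :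
    ℂ :=
  if g ∈ centralizer ({centInv σ n} : Set G) then dF σ n (R.π g) else 0

/-- The induced function. -/
noncomputable def dihTheta {P : Sylow 2 G} {σ : G} {n : ℕ} (R : CentRetr P (centInv σ n))
    (g : G) : ℂ :=
  ((2 ^ (n - 1) : ℕ) * Nat.card R.K : ℂ)⁻¹ * ∑ x : G, dihF R (x * g * x⁻¹)

theorem dihTheta_isClassFunction {P : Sylow 2 G} {σ : G} {n : ℕ}
    (R : CentRetr P (centInv σ n)) : Cfsg.IsClassFunction G (dihTheta R) := by
  intro g h
  simp only [dihTheta]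
  congr 1
  refine Fintype.sum_equiv (Equiv.mulRight h) _ _ fun x => ?_
  simp [mul_assoc]

/-- The group `⟨σ⟩ K`. -/
def dihH {P : Sylow 2 G} {σ : G} {n : ℕ} (R : CentRetr P (centInv σ n)) : Subgroup G where
  carrier := {g | g ∈ centralizer ({centInv σ n} : Set G) ∧ R.π g ∈ zpowers σ}
  one_mem' := ⟨one_mem _, by rw [R.π_one]; exact one_mem _⟩
  mul_mem' := fun ha hb => ⟨mul_mem ha.1 hb.1, by
    rw [R.π_mul _ ha.1 _ hb.1]; exact mul_mem ha.2 hb.2⟩
  inv_mem' := fun ha => ⟨inv_mem ha.1, by rw [R.π_inv ha.1]; exact inv_mem ha.2⟩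

namespace DihSylow

variable {P : Sylow 2 G} {σ τ : G} {n : ℕ} (D : DihSylow P σ τ n)
  (R : CentRetr P (centInv σ n))
include D

theorem dF_pow (i : ℕ) : dF σ n (σ ^ i) = 1 - zeta n ^ i := by
  classical
  have h : ∃ j, j < 2 ^ (n - 1) ∧ σ ^ i = σ ^ j :=
    ⟨i % 2 ^ (n - 1), Nat.mod_lt _ (by positivity), by rw [← D.ordσ, pow_mod_orderOf]⟩
  rw [dF, dif_pos h]
  have h2 := pow_eq_pow_iff_modEq.1 h.choose_spec.2
  rw [D.ordσ] at h2
  have h3 : orderOf (zeta n) = 2 ^ (n - 1) := (zeta_spec n).eq_orderOf.symm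
  rw [← pow_mod_orderOf (zeta n) h.choose, ← pow_mod_orderOf (zeta n) i, h3,
    (h2 : i % 2 ^ (n - 1) = h.choose % 2 ^ (n - 1))]

theorem dF_tau (i : ℕ) : dF σ n (σ ^ i * τ) = 0 := by
  classical
  rw [dF, dif_neg]
  rintro ⟨j, -, hj⟩
  exact D.pow_mul_tau_not_mem i (hj ▸ npow_mem_zpowers σ j)

theorem dF_one : dF σ n (1 : G) = 0 := by
  have h := D.dF_pow 0
  simpa using h

theorem dF_centInv : dF σ n (centInv σ n) = 2 := by
  have h : IsPrimitiveRoot (zeta n ^ 2 ^ (n - 2)) 2 :=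
    (zeta_spec n).pow (by positivity) (by rw [← D.two_mul_half, mul_comm])
  rw [centInv, D.dF_pow, h.eq_neg_one_of_two_right]
  norm_num

theorem zeta_half : zeta n ^ 2 ^ (n - 2) = -1 := by
  have h := D.dF_centInv
  rw [centInv, D.dF_pow] at h
  linear_combination -h

theorem sigma_pow_inv (i : ℕ) : (σ ^ i)⁻¹ = σ ^ ((2 ^ (n - 1) - 1) * i) := by
  refine inv_eq_of_mul_eq_one_right ?_
  rw [← pow_add, show i + (2 ^ (n - 1) - 1) * i = 2 ^ (n - 1) * i by
    conv_lhs => arg 1; rw [← one_mul i]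
    rw [← add_mul, Nat.add_sub_cancel' Nat.one_le_two_pow], pow_mul, ← D.ordσ, pow_orderOf_eq_one,
    one_pow]

theorem dF_conj {p q : G} (hp : p ∈ (P : Subgroup G)) (hq : q ∈ (P : Subgroup G)) :
    dF σ n (q * p * q⁻¹) + conj (dF σ n (q * p * q⁻¹)) = dF σ n p + conj (dF σ n p) ∧
      dF σ n (τ * p * τ⁻¹) = conj (dF σ n p) := by
  have hτ : ∀ i, τ * σ ^ i * τ⁻¹ = σ ^ ((2 ^ (n - 1) - 1) * i) := fun i => by
    rw [D.tau_pow, D.sigma_pow_inv]
  have hflip : ∀ i, dF σ n (τ * σ ^ i * τ⁻¹) = conj (dF σ n (σ ^ i)) := fun i => by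
    rw [hτ, D.dF_pow, D.dF_pow, map_sub, map_one, conj_zeta_pow]
  obtain ⟨i, rfl | rfl⟩ := D.forms p hp
  · refine ⟨?_, hflip i⟩
    obtain ⟨j, rfl | rfl⟩ := D.forms q hq
    · rw [(Commute.pow_pow_self σ j i).eq, mul_inv_cancel_right]
    · rw [show σ ^ j * τ * σ ^ i * (σ ^ j * τ)⁻¹ = σ ^ j * (τ * σ ^ i * τ⁻¹) * (σ ^ j)⁻¹ by group,
        hτ i, (Commute.pow_pow_self σ j _).eq, mul_inv_cancel_right, ← hτ i, hflip,
        Complex.conj_conj, add_comm]
  · have hz : ∀ r ∈ (P : Subgroup G), dF σ n (r * (σ ^ i * τ) * r⁻¹) = 0 := by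
      intro r hr
      obtain ⟨j, h | h⟩ := D.forms (r * (σ ^ i * τ) * r⁻¹)
        (mul_mem (mul_mem hr hp) (inv_mem hr))
      · exfalso
        refine D.pow_mul_tau_not_mem i ?_
        have e : σ ^ i * τ = r⁻¹ * σ ^ j * r := by rw [← h]; group
        rw [e]
        obtain ⟨k, rfl | rfl⟩ := D.forms r hr
        · exact mul_mem (mul_mem (inv_mem (npow_mem_zpowers σ k)) (npow_mem_zpowers σ j))
            (npow_mem_zpowers σ k)
        · rw [show (σ ^ k * τ)⁻¹ * σ ^ j * (σ ^ k * τ) =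
            τ⁻¹ * ((σ ^ k)⁻¹ * σ ^ j * σ ^ k) * τ by group, mul_assoc _ (σ ^ j),
            (Commute.pow_pow_self σ j k).eq, inv_mul_cancel_left]
          have h2 := hτ j
          rw [D.tau_inv] at h2 ⊢
          rw [h2]
          exact npow_mem_zpowers σ _
      · rw [h, D.dF_tau]
    rw [hz q hq, D.dF_tau, hz τ D.memτ, map_zero]
    simp

theorem dihF_of_mem {g : G} (hg : g ∈ centralizer ({centInv σ n} : Set G)) :
    dihF R g = dF σ n (R.π g) := if_pos hg

theorem dihF_pow_mul (i : ℕ) {k : G} (hk : k ∈ R.K) :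
    dihF R (σ ^ i * k) = 1 - zeta n ^ i := by
  have hs := pow_mem D.memσ i
  rw [D.dihF_of_mem R (mul_mem (D.le_centralizer hs) (R.K_le hk)),
    R.π_mul _ (D.le_centralizer hs) _ (R.K_le hk), R.π_fix _ hs, R.π_of_mem hk, mul_one, D.dF_pow]

/-- An element of the support has a power equal to the central involution. -/
theorem half_pow_eq {g : G} (hg : dihF R g ≠ 0) :
    g ∈ centralizer ({centInv σ n} : Set G) ∧ g ^ (orderOf g / 2) = centInv σ n := by
  classical
  have hgC : g ∈ centralizer ({centInv σ n} : Set G) := by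
    by_contra h
    exact hg (if_neg h)
  refine ⟨hgC, ?_⟩
  rw [D.dihF_of_mem R hgC] at hg
  obtain ⟨i, hi⟩ : ∃ i, R.π g = σ ^ i := by
    obtain ⟨i, h | h⟩ := D.forms _ (R.π_mem g hgC)
    · exact ⟨i, h⟩
    · exact absurd (by rw [h, D.dF_tau]) hg
  have hne : R.π g ≠ 1 := fun h => hg (by rw [h, D.dF_one])
  have h2 : 2 ∣ orderOf g := by
    have hd : orderOf (R.π g) ∣ orderOf g :=
      orderOf_dvd_of_pow_eq_one (by rw [← R.π_pow hgC, pow_orderOf_eq_one, R.π_one])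
    have hd2 : orderOf (R.π g) ∣ 2 ^ (n - 1) := by
      rw [← D.ordσ, hi]
      exact orderOf_pow_dvd i
    obtain ⟨k, -, hk⟩ := (Nat.dvd_prime_pow Nat.prime_two).1 hd2
    rcases k with _ | k
    · exact absurd (orderOf_eq_one_iff.1 (by simpa using hk)) hne
    · exact (dvd_pow_self 2 k.succ_ne_zero).trans (hk ▸ hd)
  have ho := orderOf_pow_orderOf_div (orderOf_pos g).ne' h2
  have hmem := pow_mem hgC (orderOf g / 2)
  have hsq := H28.mul_self_of_orderOf_two ho
  rcases D.over_cases R hmem hsq (H28.ne_one_of_orderOf_two ho) with h | ⟨j, -, h⟩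
  · exact D.eq_centInv_of_over R hmem hsq h
  · exfalso
    rw [R.π_pow hgC, hi, ← pow_mul] at h
    exact D.pow_mul_tau_not_mem j (h ▸ npow_mem_zpowers σ _)

theorem mem_of_inverts {g u : G} (hg : dihF R g ≠ 0) (hu : u * g * u⁻¹ = g⁻¹) :
    u ∈ centralizer ({centInv σ n} : Set G) := by
  obtain ⟨-, h⟩ := D.half_pow_eq R hg
  rw [mem_centralizer_singleton_iff]
  refine mul_inv_eq_iff_eq_mul.1 ?_
  rw [← h, ← conj_pow, hu, inv_pow, h, H28.inv_eq_self_of_orderOf_two D.orderOf_centInv]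

theorem mem_of_conj {g x : G} (hg : dihF R g ≠ 0) (hx : dihF R (x * g * x⁻¹) ≠ 0) :
    x ∈ centralizer ({centInv σ n} : Set G) := by
  obtain ⟨-, h⟩ := D.half_pow_eq R hg
  obtain ⟨-, h'⟩ := D.half_pow_eq R hx
  rw [show orderOf (x * g * x⁻¹) = orderOf g from (MulAut.conj x).orderOf_eq g, conj_pow, h] at h'
  rw [mem_centralizer_singleton_iff]
  exact mul_inv_eq_iff_eq_mul.1 h'

theorem card_centralizer :
    Nat.card (centralizer ({centInv σ n} : Set G)) = 2 * 2 ^ (n - 1) * Nat.card R.K := by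
  rw [R.card_centralizer_eq D.le_centralizer, D.card_P]

/-- The values of the induced function on the support. -/
theorem dihTheta_of_ne {g : G} (hg : dihF R g ≠ 0) :
    dihTheta R g = dihF R g + conj (dihF R g) := by
  classical
  obtain ⟨hgC, -⟩ := D.half_pow_eq R hg
  have hτC := D.tau_mem_centralizer
  set Cs := Finset.univ.filter (· ∈ centralizer ({centInv σ n} : Set G)) with hCs
  have hsub : ∑ x : G, dihF R (x * g * x⁻¹) = ∑ x ∈ Cs, dihF R (x * g * x⁻¹) := by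
    refine (Finset.sum_subset (Finset.subset_univ Cs) fun x _ hx => ?_).symm
    by_contra h
    exact hx (Finset.mem_filter.2 ⟨Finset.mem_univ x, D.mem_of_conj R hg h⟩)
  have hflip : ∑ x ∈ Cs, dihF R (x * g * x⁻¹) = ∑ x ∈ Cs, conj (dihF R (x * g * x⁻¹)) := by
    refine Finset.sum_equiv (Equiv.mulLeft τ) (fun x => ?_) fun x hx => ?_
    · simp only [hCs, Finset.mem_filter, Finset.mem_univ, true_and, Equiv.coe_mulLeft]
      exact ⟨fun h => mul_mem hτC h, fun h => (mul_mem_cancel_left hτC).1 h⟩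
    · have hxC : x ∈ centralizer ({centInv σ n} : Set G) := by simpa [hCs] using hx
      have hy := mul_mem (mul_mem hxC hgC) (inv_mem hxC)
      have hy' := mul_mem (mul_mem hτC hy) (inv_mem hτC)
      simp only [Equiv.coe_mulLeft]
      rw [show τ * x * g * (τ * x)⁻¹ = τ * (x * g * x⁻¹) * τ⁻¹ by group, D.dihF_of_mem R hy,
        D.dihF_of_mem R hy', R.π_conj hτC hy, R.π_fix _ D.memτ,
        (D.dF_conj (R.π_mem _ hy) D.memτ).2, Complex.conj_conj]
  have hconst : ∀ x ∈ Cs, dihF R (x * g * x⁻¹) + conj (dihF R (x * g * x⁻¹)) =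
      dihF R g + conj (dihF R g) := by
    intro x hx
    have hxC : x ∈ centralizer ({centInv σ n} : Set G) := by simpa [hCs] using hx
    rw [D.dihF_of_mem R (mul_mem (mul_mem hxC hgC) (inv_mem hxC)), D.dihF_of_mem R hgC,
      R.π_conj hxC hgC, (D.dF_conj (R.π_mem g hgC) (R.π_mem x hxC)).1]
  have hcard : (Cs.card : ℂ) = 2 * ((2 ^ (n - 1) : ℕ) * Nat.card R.K : ℂ) := by
    rw [hCs, ← Fintype.card_subtype, ← Nat.card_eq_fintype_card]
    rw [show Nat.card {x // x ∈ centralizer ({centInv σ n} : Set G)} = _ from D.card_centralizer R]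
    push_cast
    ring
  have h2 : 2 * ∑ x ∈ Cs, dihF R (x * g * x⁻¹) =
      Cs.card * (dihF R g + conj (dihF R g)) := by
    rw [two_mul]
    nth_rewrite 2 [hflip]
    rw [← Finset.sum_add_distrib, Finset.sum_congr rfl hconst, Finset.sum_const, nsmul_eq_mul]
  rw [hcard] at h2
  have hne : ((2 ^ (n - 1) : ℕ) * Nat.card R.K : ℂ) ≠ 0 :=
    mul_ne_zero (Nat.cast_ne_zero.2 (by positivity)) (Nat.cast_ne_zero.2 Nat.card_pos.ne')
  rw [dihTheta, hsub, eq_comm]
  field_simp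
  linear_combination -h2 / 2

theorem dihTheta_one : dihTheta R 1 = 0 := by
  rw [dihTheta, Finset.sum_eq_zero fun x _ => ?_, mul_zero]
  rw [mul_one, mul_inv_cancel, D.dihF_of_mem R (one_mem _), R.π_one, D.dF_one]

theorem dihTheta_centInv : dihTheta R (centInv σ n) = 4 := by
  have h := D.dihF_of_mem R (D.le_centralizer D.centInv_mem)
  rw [R.π_fix _ D.centInv_mem, D.dF_centInv] at h
  rw [D.dihTheta_of_ne R (by rw [h]; norm_num), h]
  norm_num [map_ofNat]

theorem pow_mul_mem_dihH (i : ℕ) {k : G} (hk : k ∈ R.K) : σ ^ i * k ∈ dihH R := by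
  have hs := pow_mem D.memσ i
  refine ⟨mul_mem (D.le_centralizer hs) (R.K_le hk), ?_⟩
  rw [R.π_mul _ (D.le_centralizer hs) _ (R.K_le hk), R.π_fix _ hs, R.π_of_mem hk, mul_one]
  exact npow_mem_zpowers σ i

theorem bijective_dihH : Function.Bijective
    (fun ik : Fin (2 ^ (n - 1)) × R.K =>
      (⟨σ ^ (ik.1 : ℕ) * ik.2, D.pow_mul_mem_dihH R _ ik.2.2⟩ : dihH R)) := by
  refine ⟨fun a b h => ?_, fun g => ?_⟩
  · have h' : σ ^ (a.1 : ℕ) * (a.2 : G) = σ ^ (b.1 : ℕ) * (b.2 : G) := congrArg Subtype.val h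
    have hπ := congrArg R.π h'
    have hs := fun i : ℕ => pow_mem D.memσ i
    rw [R.π_mul _ (D.le_centralizer (hs _)) _ (R.K_le a.2.2),
      R.π_mul _ (D.le_centralizer (hs _)) _ (R.K_le b.2.2), R.π_fix _ (hs _), R.π_fix _ (hs _),
      R.π_of_mem a.2.2, R.π_of_mem b.2.2, mul_one, mul_one] at hπ
    refine Prod.ext (Fin.ext (pow_injOn_Iio_orderOf (by rw [D.ordσ]; exact a.1.2)
      (by rw [D.ordσ]; exact b.1.2) hπ)) (Subtype.ext ?_)
    rw [hπ] at h'
    exact mul_left_cancel h'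
  · obtain ⟨i, hi⟩ := mem_zpowers_iff.1 g.2.2
    obtain ⟨j, hj, hji⟩ : ∃ j, j < 2 ^ (n - 1) ∧ σ ^ j = R.π g := by
      obtain ⟨j, hj⟩ : ∃ j : ℕ, σ ^ j = R.π g := (mem_powers_iff_mem_zpowers).2 g.2.2
      exact ⟨j % 2 ^ (n - 1), Nat.mod_lt _ (by positivity), by
        rw [← D.ordσ, pow_mod_orderOf, hj]⟩
    have hP := R.π_mem g g.2.1
    have hk : (R.π g)⁻¹ * (g : G) ∈ R.K := by
      have h1 := inv_mem (D.le_centralizer hP)
      refine (R.π_ker _ (mul_mem h1 g.2.1)).1 ?_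
      rw [R.π_mul _ h1 _ g.2.1, R.π_fix _ (inv_mem hP), inv_mul_cancel]
    refine ⟨(⟨j, hj⟩, ⟨_, hk⟩), Subtype.ext ?_⟩
    show σ ^ j * ((R.π g)⁻¹ * (g : G)) = g
    rw [hji, mul_inv_cancel_left]

theorem card_dihH : Nat.card (dihH R) = 2 ^ (n - 1) * Nat.card R.K := by
  rw [← Nat.card_congr (Equiv.ofBijective _ (D.bijective_dihH R)), Nat.card_prod, Nat.card_fin]

theorem sum_eq_sum_dihH [Fintype (dihH R)] (Φ : G → ℂ) :
    ∑ g : G, dihF R g * Φ g = ∑ h : dihH R, dihF R h * Φ h := by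
  classical
  rw [← Finset.sum_subtype (Finset.univ.filter (· ∈ dihH R)) (by simp)
    (fun g => dihF R g * Φ g)]
  refine (Finset.sum_subset (Finset.filter_subset _ _) fun g _ hg => ?_).symm
  by_contra h
  have h0 : dihF R g ≠ 0 := left_ne_zero_of_mul h
  obtain ⟨hgC, -⟩ := D.half_pow_eq R h0
  refine hg (Finset.mem_filter.2 ⟨Finset.mem_univ g, hgC, ?_⟩)
  rw [D.dihF_of_mem R hgC] at h0
  obtain ⟨i, hi | hi⟩ := D.forms _ (R.π_mem g hgC)
  · exact hi ▸ npow_mem_zpowers σ i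
  · exact absurd (by rw [hi, D.dF_tau]) h0

theorem sum_dihF_mul [Fintype R.K] (Φ : G → ℂ) :
    ∑ g : G, dihF R g * Φ g =
      ∑ i ∈ Finset.range (2 ^ (n - 1)), (1 - zeta n ^ i) * ∑ k : R.K, Φ (σ ^ i * k) := by
  classical
  haveI := Fintype.ofFinite (dihH R)
  rw [D.sum_eq_sum_dihH R, ← Fintype.sum_bijective _ (D.bijective_dihH R) _ _ (fun ik => rfl),
    Fintype.sum_prod_type, ← Fin.sum_univ_eq_sum_range
      (fun i => (1 - zeta n ^ i) * ∑ k : R.K, Φ (σ ^ i * k))]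
  refine Finset.sum_congr rfl fun i _ => ?_
  rw [Finset.mul_sum]
  exact Finset.sum_congr rfl fun k _ => by rw [D.dihF_pow_mul R _ k.2]

/-- Frobenius reciprocity. -/
theorem classInner_dihTheta {Φ : G → ℂ} (hΦ : Cfsg.IsClassFunction G Φ) :
    Cfsg.classInner (dihTheta R) Φ =
      ((2 ^ (n - 1) : ℕ) * Nat.card R.K : ℂ)⁻¹ * ∑ g : G, dihF R g * conj (Φ g) := by
  simp only [Cfsg.classInner, dihTheta, Finset.mul_sum, Finset.sum_mul]
  rw [Finset.sum_comm]
  have h : ∀ x : G, ∑ g : G, (Nat.card G : ℂ)⁻¹ *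
      (((2 ^ (n - 1) : ℕ) * Nat.card R.K : ℂ)⁻¹ * dihF R (x * g * x⁻¹) * conj (Φ g)) =
      ∑ g : G, (Nat.card G : ℂ)⁻¹ *
      (((2 ^ (n - 1) : ℕ) * Nat.card R.K : ℂ)⁻¹ * dihF R g * conj (Φ g)) := fun x =>
    Fintype.sum_equiv (MulAut.conj x).toEquiv _ _ fun g => by
      rw [MulEquiv.toEquiv_eq_coe, MulEquiv.coe_toEquiv, MulAut.conj_apply, hΦ g x]
  rw [Finset.sum_congr rfl fun x _ => h x, Finset.sum_const, Finset.card_univ, nsmul_eq_mul,
    Finset.mul_sum, ← Nat.card_eq_fintype_card]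
  refine Finset.sum_congr rfl fun g _ => ?_
  field_simp [Nat.cast_ne_zero.2 (Nat.card_pos (α := G)).ne']

theorem exists_int_coeff (χ : Cfsg.IrrCharacter G) :
    ∃ c : ℤ, Cfsg.classInner (dihTheta R) χ.1 = c := by
  classical
  haveI := Fintype.ofFinite (dihH R)
  have hσz : ∀ x : zpowers σ, x ∈ zpowers (⟨σ, mem_zpowers σ⟩ : zpowers σ) := by
    rintro ⟨x, hx⟩
    obtain ⟨k, rfl⟩ := mem_zpowers_iff.1 hx
    exact mem_zpowers_iff.2 ⟨k, Subtype.ext (by simp)⟩
  let z : ℂˣ := Units.mk0 (zeta n) ((zeta_spec n).ne_zero (by positivity))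
  have hz : orderOf z ∣ orderOf (⟨σ, mem_zpowers σ⟩ : zpowers σ) := by
    rw [← orderOf_units, Units.val_mk0, ← (zeta_spec n).eq_orderOf, ← Subgroup.orderOf_coe, D.ordσ]
  let l := monoidHomOfForallMemZpowers hσz hz
  let lam : dihH R →* ℂˣ :=
    l.comp (MonoidHom.mk' (fun g => (⟨R.π g, g.2.2⟩ : zpowers σ))
      (fun a b => Subtype.ext (R.π_mul _ a.2.1 _ b.2.1)))
  have hlam : ∀ g : dihH R, dihF R g = 1 - (lam g : ℂ) := by
    intro g
    rw [D.dihF_of_mem R g.2.1]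
    obtain ⟨i, hi⟩ : ∃ i : ℕ, σ ^ i = R.π g := (mem_powers_iff_mem_zpowers).2 g.2.2
    rw [← hi, D.dF_pow]
    congr 1
    show _ = ((l ⟨R.π g, g.2.2⟩ : ℂˣ) : ℂ)
    rw [show (⟨R.π g, g.2.2⟩ : zpowers σ) = ⟨σ, mem_zpowers σ⟩ ^ i from
      Subtype.ext (by simp [hi]), map_pow, monoidHomOfForallMemZpowers_apply_gen,
      Units.val_pow_eq_pow_val, Units.val_mk0]
  have hres : Cfsg.IsCharacter (dihH R) (χ.1 ∘ (dihH R).subtype) :=
    H26.isCharacter_comp (H26.irr_isCharacter χ) _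
  obtain ⟨a, ha⟩ := H26.exists_nat_classInner_irr hres (H26.oneIrr _)
  obtain ⟨b, hb⟩ := H26.exists_nat_classInner_irr hres ⟨_, H26.isIrrCharacter_hom lam⟩
  refine ⟨(a : ℤ) - b, ?_⟩
  rw [D.classInner_dihTheta R (H26.irr_isClassFunction χ), D.sum_eq_sum_dihH R]
  have hre : ((2 ^ (n - 1) : ℕ) * Nat.card R.K : ℂ) = (Nat.card (dihH R) : ℂ) := by
    rw [D.card_dihH R, Nat.cast_mul]
  push_cast
  rw [← Complex.conj_natCast a, ← Complex.conj_natCast b, ← ha, ← hb, ← map_sub,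
    show ((2 : ℂ) ^ (n - 1) * Nat.card R.K) = (Nat.card (dihH R) : ℂ) by
      rw [← hre]; push_cast; ring]
  simp only [Cfsg.classInner, ← mul_sub, ← Finset.sum_sub_distrib, map_mul, map_inv₀,
    Complex.conj_natCast, map_sum, map_sub, Complex.conj_conj, H26.oneIrr_val, map_one, mul_one,
    Function.comp_apply, Subgroup.coe_subtype]
  congr 1
  refine Finset.sum_congr rfl fun h _ => ?_
  rw [hlam h]
  ring

theorem sum_one_sub_zeta : ∑ i ∈ Finset.range (2 ^ (n - 1)), (1 - zeta n ^ i) =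
    ((2 ^ (n - 1) : ℕ) : ℂ) := by
  rw [Finset.sum_sub_distrib, (zeta_spec n).geom_sum_eq_zero
    (Nat.one_lt_two_pow (by have := D.two_le; omega))]
  simp

/-- The coefficient of a character constant on the section. -/
theorem coeff_of_const (χ : Cfsg.IrrCharacter G) (δ : ℤ)
    (hχ : ∀ i, 0 < i → i < 2 ^ (n - 1) → ∀ k ∈ R.K, χ.1 (σ ^ i * k) = δ) :
    Cfsg.classInner (dihTheta R) χ.1 = δ := by
  classical
  haveI := Fintype.ofFinite R.K
  rw [D.classInner_dihTheta R (H26.irr_isClassFunction χ), D.sum_dihF_mul R]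
  have h : ∀ i ∈ Finset.range (2 ^ (n - 1)),
      (1 - zeta n ^ i) * ∑ k : R.K, conj (χ.1 (σ ^ i * k)) =
        (1 - zeta n ^ i) * ((Nat.card R.K : ℂ) * δ) := by
    intro i hi
    rcases Nat.eq_zero_or_pos i with rfl | hi0
    · simp
    · rw [Finset.sum_congr rfl fun k _ => by rw [hχ i hi0 (Finset.mem_range.1 hi) k k.2],
        Finset.sum_const, Finset.card_univ, nsmul_eq_mul, ← Nat.card_eq_fintype_card,
        map_intCast]
  rw [Finset.sum_congr rfl h, ← Finset.sum_mul, D.sum_one_sub_zeta]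
  field_simp [Nat.cast_ne_zero.2 (Nat.card_pos (α := R.K)).ne',
    Nat.cast_ne_zero.2 (Nat.two_pow_pos (n - 1)).ne']

theorem exists_conj_eq {x : G} (hx : x ∈ centralizer ({centInv σ n} : Set G))
    (hx2 : ∃ k, orderOf x = 2 ^ k) :
    ∃ d ∈ centralizer ({centInv σ n} : Set G), d * x * d⁻¹ = R.π x := by
  classical
  set C := centralizer ({centInv σ n} : Set G) with hC
  obtain ⟨k, hk⟩ := hx2
  have hp : IsPGroup 2 (zpowers (⟨x, hx⟩ : C)) :=
    IsPGroup.of_card (n := k) (by rw [Nat.card_zpowers, ← Subgroup.orderOf_coe, hk])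
  obtain ⟨Q, hQ⟩ := hp.exists_le_sylow
  obtain ⟨c, hc⟩ := MulAction.exists_smul_eq C Q (P.subtype D.le_centralizer)
  have hcx : (c : G) * x * (c : G)⁻¹ ∈ (P : Subgroup G) := by
    have h1 : c * ⟨x, hx⟩ * c⁻¹ ∈ ((P.subtype D.le_centralizer : Sylow 2 C) : Subgroup C) := by
      rw [← hc, Sylow.smul_def]
      exact Subgroup.smul_mem_pointwise_smul _ (MulAut.conj c) _ (hQ (mem_zpowers _))
    exact h1
  have hπ := R.π_conj c.2 hx
  rw [R.π_fix _ hcx] at hπ
  have hP := R.π_mem c c.2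
  refine ⟨(R.π c)⁻¹ * c, mul_mem (inv_mem (D.le_centralizer hP)) c.2, ?_⟩
  calc (R.π c)⁻¹ * c * x * ((R.π c)⁻¹ * c)⁻¹
      = (R.π c)⁻¹ * ((c : G) * x * (c : G)⁻¹) * R.π c := by group
    _ = R.π x := by rw [hπ]; group

/-- Characters of the principal 2-block are constant on the cosets of the section. -/
theorem principal_const (M : Ideal Cfsg.AlgInt) (hM : Cfsg.IsPModular 2 M)
    {χ : Cfsg.IrrCharacter G} (hχ : χ ∈ Cfsg.principalBlock M G) {i : ℕ} (hi0 : 0 < i)
    (hi : i < 2 ^ (n - 1)) {k : G} (hk : k ∈ R.K) : χ.1 (σ ^ i * k) = χ.1 (σ ^ i) := by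
  classical
  haveI : Fact (Nat.Prime 2) := ⟨Nat.prime_two⟩
  have hs := pow_mem D.memσ i
  have hsC := D.le_centralizer hs
  have hgC := mul_mem hsC (R.K_le hk)
  obtain ⟨x, hx⟩ := H40.exists_isPPart 2 (σ ^ i * k)
  have hxC := H40.mem_of_isPPart hx hgC
  obtain ⟨y, hxy, hcomm, hxo, hyo⟩ := hx
  have hyC : y ∈ centralizer ({centInv σ n} : Set G) := (mul_mem_cancel_left hxC).1 (hxy ▸ hgC)
  have hπy : R.π y = 1 := by
    obtain ⟨e, he⟩ := P.isPGroup' ⟨R.π y, R.π_mem y hyC⟩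
    have he' : R.π y ^ 2 ^ e = 1 := congrArg Subtype.val he
    have hco : Nat.Coprime (2 ^ e) (orderOf y) :=
      Nat.Coprime.pow_left _ (Nat.prime_two.coprime_iff_not_dvd.2 hyo)
    rw [← orderOf_eq_one_iff]
    exact Nat.eq_one_of_dvd_coprimes hco (orderOf_dvd_of_pow_eq_one he')
      (orderOf_dvd_of_pow_eq_one (by rw [← R.π_pow hyC, pow_orderOf_eq_one, R.π_one]))
  have hπx : R.π x = σ ^ i := by
    have h := R.π_mul _ hxC _ hyC
    rw [hxy, R.π_mul _ hsC _ (R.K_le hk), R.π_fix _ hs, R.π_of_mem hk, hπy, mul_one, mul_one] at h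
    exact h.symm
  obtain ⟨d, hdC, hd⟩ := D.exists_conj_eq R hxC hxo
  rw [hπx] at hd
  have hy'C : d * y * d⁻¹ ∈ centralizer ({centInv σ n} : Set G) :=
    mul_mem (mul_mem hdC hyC) (inv_mem hdC)
  have hy'K : d * y * d⁻¹ ∈ R.K := (R.π_ker _ hy'C).1 (by
    rw [R.π_conj hdC hyC, hπy, mul_one, mul_inv_cancel])
  have hy'c : d * y * d⁻¹ * σ ^ i = σ ^ i * (d * y * d⁻¹) := by
    rw [← hd]
    calc d * y * d⁻¹ * (d * x * d⁻¹) = d * (y * x) * d⁻¹ := by group
      _ = d * x * d⁻¹ * (d * y * d⁻¹) := by rw [← hcomm.eq]; group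
  rw [← H26.irr_conj χ (σ ^ i * k) d, ← hxy,
    show d * (x * y) * d⁻¹ = d * x * d⁻¹ * (d * y * d⁻¹) by group, hd]
  set CC := centralizer ({σ ^ i} : Set G) with hCC
  have hf : dihF R (σ ^ i) ≠ 0 := by
    rw [← mul_one (σ ^ i), D.dihF_pow_mul R i (one_mem _), sub_ne_zero]
    exact fun h => (zeta_spec n).pow_ne_one_of_pos_of_lt hi0.ne' hi h.symm
  have hCCC : CC ≤ centralizer ({centInv σ n} : Set G) := by
    intro c hc
    rw [mem_centralizer_singleton_iff, ← (D.half_pow_eq R hf).2]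
    exact (Commute.pow_right (mem_centralizer_singleton_iff.1 hc) _).eq
  refine S0942.result 2 M hM (σ ^ i) ?_ (d * y * d⁻¹) ?_ χ hχ
  · obtain ⟨a, -, ha⟩ := (Nat.dvd_prime_pow Nat.prime_two).1
      (D.ordσ ▸ orderOf_pow_dvd (x := σ) i : orderOf (σ ^ i) ∣ 2 ^ (n - 1))
    exact ⟨a, ha⟩
  · refine ⟨⟨_, mem_centralizer_singleton_iff.2 hy'c⟩, ?_, rfl⟩
    have hn : (R.K.subgroupOf CC).Normal := ⟨fun a ha c => by
      rw [mem_subgroupOf] at ha ⊢
      have hcC := hCCC c.2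
      have haC := R.K_le ha
      push_cast
      refine (R.π_ker _ (mul_mem (mul_mem hcC haC) (inv_mem hcC))).1 ?_
      rw [R.π_conj hcC haC, R.π_of_mem ha, mul_one, mul_inv_cancel]⟩
    refine H19.le_pPrimeCore hn ?_ (mem_subgroupOf.2 hy'K)
    refine Nat.Coprime.symm (Nat.coprime_two_left.2 (R.K_odd.of_dvd_nat ?_))
    exact Subgroup.card_dvd_of_injective
      (MonoidHom.mk' (fun a : R.K.subgroupOf CC => (⟨a.1, a.2⟩ : R.K)) fun _ _ => rfl)
      fun a b h => Subtype.ext (Subtype.ext (congrArg (fun z : R.K => (z : G)) h))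

/-- The norm of the induced function. -/
theorem norm_dihTheta : Cfsg.classInner (dihTheta R) (dihTheta R) =
    if n = 2 then 4 else 3 := by
  classical
  haveI := Fintype.ofFinite R.K
  rw [D.classInner_dihTheta R (dihTheta_isClassFunction R), D.sum_dihF_mul R]
  have hone : ∀ i : ℕ, zeta n ^ i * conj (zeta n ^ i) = 1 := fun i => by
    rw [conj_zeta_pow, ← pow_add, show i + (2 ^ (n - 1) - 1) * i = 2 ^ (n - 1) * i by
      conv_lhs => arg 1; rw [← one_mul i]
      rw [← add_mul, Nat.add_sub_cancel' Nat.one_le_two_pow], pow_mul, (zeta_spec n).pow_eq_one,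
      one_pow]
  have h : ∀ i ∈ Finset.range (2 ^ (n - 1)),
      (1 - zeta n ^ i) * ∑ k : R.K, conj (dihTheta R (σ ^ i * k)) = (Nat.card R.K : ℂ) *
        (3 - 3 * zeta n ^ i - conj (zeta n ^ i) + (zeta n ^ 2) ^ i) := by
    intro i _
    by_cases h0 : zeta n ^ i = 1
    · have : (zeta n ^ 2) ^ i = 1 := by rw [← pow_mul, mul_comm, pow_mul, h0, one_pow]
      rw [this, h0, map_one]
      ring
    · rw [Finset.sum_congr rfl fun k _ => by
        rw [D.dihTheta_of_ne R (by rw [D.dihF_pow_mul R _ k.2, sub_ne_zero]; exact Ne.symm h0),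
          D.dihF_pow_mul R _ k.2, map_add, Complex.conj_conj], Finset.sum_const, Finset.card_univ,
        nsmul_eq_mul, ← Nat.card_eq_fintype_card, map_sub, map_one]
      rw [← pow_mul, mul_comm 2 i, pow_mul]
      linear_combination (Nat.card R.K : ℂ) * hone i
  rw [Finset.sum_congr rfl h, ← Finset.mul_sum, Finset.sum_add_distrib, Finset.sum_sub_distrib,
    Finset.sum_sub_distrib, ← Finset.mul_sum, ← map_sum, (zeta_spec n).geom_sum_eq_zero
      (Nat.one_lt_two_pow (by have := D.two_le; omega)), map_zero, Finset.sum_const,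
    Finset.card_range, nsmul_eq_mul, mul_zero, sub_zero, sub_zero]
  have hK : (Nat.card R.K : ℂ) ≠ 0 := Nat.cast_ne_zero.2 Nat.card_pos.ne'
  rcases eq_or_ne n 2 with rfl | hn
  · rw [if_pos rfl]
    norm_num [Finset.sum_range_succ, (zeta_spec 2).pow_eq_one]
    field_simp
    have h2 := (zeta_spec 2).pow_eq_one
    norm_num at h2
    rcases h2 with h2 | h2 <;> rw [h2] <;> norm_num
  · rw [if_neg hn]
    have hz : IsPrimitiveRoot (zeta n ^ 2) (2 ^ (n - 2)) :=
      (zeta_spec n).pow (by positivity) D.two_mul_half.symm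
    have h0 : ∑ i ∈ Finset.range (2 ^ (n - 1)), (zeta n ^ 2) ^ i = 0 := by
      rw [← D.two_mul_half, two_mul, Finset.sum_range_add]
      simp only [pow_add, hz.pow_eq_one, one_mul]
      rw [hz.geom_sum_eq_zero (Nat.one_lt_two_pow (by have := D.two_le; omega)), add_zero]
    rw [h0, add_zero]
    field_simp [Nat.cast_ne_zero.2 (Nat.two_pow_pos (n - 1)).ne']

open scoped Classical in
theorem sum_over (Φ : G → ℂ) :
    ∑ u ∈ Finset.univ.filter (fun u : G => u ∈ centralizer ({centInv σ n} : Set G) ∧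
        u * u = 1 ∧ u ≠ 1), Φ (R.π u) = Φ (centInv σ n) +
      ∑ i ∈ Finset.range (2 ^ (n - 1)), (R.W (σ ^ i * τ) : ℂ) * Φ (σ ^ i * τ) := by
  classical
  set U := Finset.univ.filter (fun u : G => u ∈ centralizer ({centInv σ n} : Set G) ∧
    u * u = 1 ∧ u ≠ 1) with hU
  set T := insert (centInv σ n) ((Finset.range (2 ^ (n - 1))).image fun i => σ ^ i * τ) with hT
  have hmaps : ∀ u ∈ U, R.π u ∈ T := by
    intro u hu
    obtain ⟨hu, hu2, hu1⟩ := (Finset.mem_filter.1 hu).2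
    rcases D.over_cases R hu hu2 hu1 with h | ⟨i, hi, h⟩
    · rw [h]
      exact Finset.mem_insert_self _ _
    · exact Finset.mem_insert_of_mem (Finset.mem_image.2 ⟨i, Finset.mem_range.2 hi, h.symm⟩)
  have hfib : ∀ p ∈ T, ∑ u ∈ U.filter (fun u => R.π u = p), Φ (R.π u) = (R.W p : ℂ) * Φ p := by
    intro p hp
    have hp1 : p ≠ 1 := by
      rcases Finset.mem_insert.1 hp with rfl | hp
      · exact H28.ne_one_of_orderOf_two D.orderOf_centInv
      · obtain ⟨i, -, rfl⟩ := Finset.mem_image.1 hp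
        exact fun h => D.pow_mul_tau_not_mem i (h ▸ one_mem _)
    rw [Finset.sum_congr rfl fun u hu => by rw [(Finset.mem_filter.1 hu).2], Finset.sum_const,
      nsmul_eq_mul]
    congr 2
    rw [CentRetr.W, ← Nat.card_eq_finsetCard]
    refine Nat.card_congr (Equiv.subtypeEquivRight fun u => ?_)
    simp only [hU, Finset.mem_filter, Finset.mem_univ, true_and]
    exact ⟨fun h => ⟨h.1.1, h.1.2.1, h.2⟩, fun h => ⟨⟨h.1, h.2.1, fun h1 => hp1 (by
      rw [← h.2.2, h1, R.π_one])⟩, h.2.2⟩⟩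
  rw [← Finset.sum_fiberwise_of_maps_to hmaps, Finset.sum_congr rfl hfib, Finset.sum_insert,
    Finset.sum_image, D.W_centInv R, Nat.cast_one, one_mul]
  · intro i hi j hj h
    exact pow_injOn_Iio_orderOf (by rw [D.ordσ]; simpa using hi) (by rw [D.ordσ]; simpa using hj)
      (mul_right_cancel h)
  · rw [Finset.mem_image]
    rintro ⟨i, -, h⟩
    exact D.pow_mul_tau_not_mem i (h ▸ npow_mem_zpowers σ _)

/-- The pair count. -/
theorem pair_sum (hinv : ∀ i : ℕ, IsConj (centInv σ n) (σ ^ i * τ)) [DecidableRel (IsConj (α := G))] :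
    ∑ u ∈ Finset.univ.filter (IsConj (centInv σ n)),
      ∑ v ∈ Finset.univ.filter (IsConj (centInv σ n)), dihF R (u * v) =
    ((Nat.card (centralizer ({centInv σ n} : Set G)) : ℂ) *
      (1 / (Nat.card (centralizer ({centInv σ n, τ} : Set G)) : ℂ) +
        1 / (Nat.card (centralizer ({centInv σ n, σ * τ} : Set G)) : ℂ))) ^ 2 := by
  classical
  have hJ2 : (centInv σ n) * (centInv σ n) = 1 := D.centInv_mul
  have hclsq : ∀ u, IsConj (centInv σ n) u → u * u = 1 ∧ u ≠ 1 := by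
    intro u hu
    obtain ⟨c, rfl⟩ := isConj_iff.1 hu
    refine ⟨by rw [show c * (centInv σ n) * c⁻¹ * (c * (centInv σ n) * c⁻¹) = c * ((centInv σ n) * (centInv σ n)) * c⁻¹ by group, hJ2, mul_one,
      mul_inv_cancel], fun h => H28.ne_one_of_orderOf_two D.orderOf_centInv ?_⟩
    calc (centInv σ n) = c⁻¹ * (c * (centInv σ n) * c⁻¹) * c := by group
      _ = 1 := by rw [h]; group
  set U := Finset.univ.filter (fun u : G => u ∈ centralizer ({(centInv σ n)} : Set G) ∧ u * u = 1 ∧ u ≠ 1)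
    with hU
  have hUsub : U ⊆ Finset.univ.filter (IsConj (centInv σ n)) := by
    intro u hu
    obtain ⟨huC, hu2, hu1⟩ := (Finset.mem_filter.1 hu).2
    refine Finset.mem_filter.2 ⟨Finset.mem_univ u, ?_⟩
    rcases D.over_cases R huC hu2 hu1 with h | ⟨i, -, h⟩
    · rw [D.eq_centInv_of_over R huC hu2 h]
    · exact (hinv i).trans ((D.shift i).isConj_of_over R huC hu2 h)
  have hzero : ∀ u v, IsConj (centInv σ n) u → IsConj (centInv σ n) v → dihF R (u * v) ≠ 0 → u ∈ U ∧ v ∈ U := by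
    intro u v hu hv h
    obtain ⟨hu2, hu1⟩ := hclsq u hu
    obtain ⟨hv2, hv1⟩ := hclsq v hv
    have hui : u⁻¹ = u := inv_eq_of_mul_eq_one_right hu2
    have hvi : v⁻¹ = v := inv_eq_of_mul_eq_one_right hv2
    refine ⟨Finset.mem_filter.2 ⟨Finset.mem_univ u, D.mem_of_inverts R h ?_, hu2, hu1⟩,
      Finset.mem_filter.2 ⟨Finset.mem_univ v, D.mem_of_inverts R h ?_, hv2, hv1⟩⟩
    · rw [mul_inv_rev, hui, hvi, ← mul_assoc, hu2, one_mul]
    · rw [mul_inv_rev, hui, hvi, mul_assoc, mul_assoc, hv2, mul_one]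
  rw [show ∑ u ∈ Finset.univ.filter (IsConj (centInv σ n)), ∑ v ∈ Finset.univ.filter (IsConj (centInv σ n)),
      dihF R (u * v) = ∑ u ∈ U, ∑ v ∈ U, dF σ n (R.π u * R.π v) from ?_]
  swap
  · rw [← Finset.sum_subset hUsub fun u hu hu' => Finset.sum_eq_zero fun v hv => ?_]
    · refine Finset.sum_congr rfl fun u hu => ?_
      rw [← Finset.sum_subset hUsub fun v hv hv' => ?_]
      · refine Finset.sum_congr rfl fun v hv => ?_
        rw [D.dihF_of_mem R (mul_mem (Finset.mem_filter.1 hu).2.1 (Finset.mem_filter.1 hv).2.1),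
          R.π_mul _ (Finset.mem_filter.1 hu).2.1 _ (Finset.mem_filter.1 hv).2.1]
      · by_contra h
        exact hv' (hzero u v (Finset.mem_filter.1 (hUsub hu)).2 (Finset.mem_filter.1 hv).2 h).2
    · by_contra h
      exact hu' (hzero u v (Finset.mem_filter.1 hu).2 (Finset.mem_filter.1 hv).2 h).1
  set w : ℕ → ℂ := fun i => (R.W (σ ^ i * τ) : ℂ) with hw
  set ν : ℕ → ℂ := fun j => zeta n ^ ((2 ^ (n - 1) - 1) * j) with hν
  have hJJ : dF σ n ((centInv σ n) * (centInv σ n)) = 0 := by rw [hJ2, D.dF_one]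
  have hJr : ∀ i, dF σ n ((centInv σ n) * (σ ^ i * τ)) = 0 := fun i => by
    rw [← mul_assoc, centInv, ← pow_add, D.dF_tau]
  have hrJ : ∀ i, dF σ n (σ ^ i * τ * (centInv σ n)) = 0 := fun i => by
    rw [mul_assoc, D.commute_tau.eq, ← mul_assoc, centInv, ← pow_add, D.dF_tau]
  have hrr : ∀ i j, dF σ n (σ ^ i * τ * (σ ^ j * τ)) = 1 - zeta n ^ i * ν j := by
    intro i j
    have h := D.tau_pow j
    rw [D.tau_inv, D.sigma_pow_inv] at h
    rw [show σ ^ i * τ * (σ ^ j * τ) = σ ^ i * (τ * σ ^ j * τ) by group, h, ← pow_add, D.dF_pow,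
      pow_add]
  have hz : ∑ i ∈ Finset.range (2 ^ (n - 1)), w i * zeta n ^ i = 0 := by
    rw [← D.two_mul_half, two_mul, Finset.sum_range_add, ← Finset.sum_add_distrib]
    refine Finset.sum_eq_zero fun i _ => ?_
    rw [add_comm (2 ^ (n - 2)) i]
    simp only [hw]
    rw [D.W_add_half R, pow_add, D.zeta_half]
    ring
  rw [Finset.sum_congr rfl fun u _ => D.sum_over R (fun q => dF σ n (R.π u * q)),
    D.sum_over R (fun p => dF σ n (p * (centInv σ n)) +
      ∑ j ∈ Finset.range (2 ^ (n - 1)), (R.W (σ ^ j * τ) : ℂ) * dF σ n (p * (σ ^ j * τ)))]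
  simp only [hJJ, hJr, hrJ, hrr, mul_zero, Finset.sum_const_zero, add_zero, zero_add]
  have hval : ∑ i ∈ Finset.range (2 ^ (n - 1)), w i *
      ∑ j ∈ Finset.range (2 ^ (n - 1)), w j * (1 - zeta n ^ i * ν j) =
      (∑ i ∈ Finset.range (2 ^ (n - 1)), w i) ^ 2 := by
    have h1 : ∀ i, ∑ j ∈ Finset.range (2 ^ (n - 1)), w j * (1 - zeta n ^ i * ν j) =
        ∑ j ∈ Finset.range (2 ^ (n - 1)), w j -
          zeta n ^ i * ∑ j ∈ Finset.range (2 ^ (n - 1)), w j * ν j := fun i => by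
      rw [Finset.mul_sum, ← Finset.sum_sub_distrib]
      exact Finset.sum_congr rfl fun j _ => by ring
    simp only [h1]
    simp only [mul_sub, Finset.sum_sub_distrib, ← mul_assoc, ← Finset.sum_mul, hz, zero_mul,
      sub_zero, sq]
  refine hval.trans ?_
  congr 1
  rw [← D.two_mul_half, sum_range_period_two w (fun i => by simp only [hw]; rw [D.W_add_two R]),
    D.card_centralizer_pair R, (D.shift 1).W_mul_kap R |> fun h => show
      Nat.card (centralizer ({centInv σ n, σ * τ} : Set G)) = 4 * R.kap (σ * τ) from by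
        have := (D.shift 1).card_centralizer_pair R
        rwa [pow_one] at this, D.card_centralizer R]
  have e0 := D.W_mul_kap R
  have e1 := (D.shift 1).W_mul_kap R
  rw [pow_one] at e1
  have k0 : (R.kap τ : ℂ) ≠ 0 := Nat.cast_ne_zero.2 Nat.card_pos.ne'
  have k1 : (R.kap (σ * τ) : ℂ) ≠ 0 := Nat.cast_ne_zero.2 Nat.card_pos.ne'
  have e0' : (R.W τ : ℂ) * R.kap τ = Nat.card R.K := by exact_mod_cast e0
  have e1' : (R.W (σ * τ) : ℂ) * R.kap (σ * τ) = Nat.card R.K := by exact_mod_cast e1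
  simp only [hw, pow_zero, one_mul, pow_one]
  rw [← D.two_mul_half]
  push_cast
  field_simp
  linear_combination (4 * (R.kap (σ * τ) : ℂ)) * e0' + (4 * (R.kap τ : ℂ)) * e1'

/-- The order formula in terms of the induced function. -/
theorem order_eq (hinv : ∀ i : ℕ, IsConj (centInv σ n) (σ ^ i * τ)) :
    (Nat.card G : ℂ) * ∑ χ : Cfsg.IrrCharacter G, Cfsg.classInner (dihTheta R) χ.1 *
        (χ.1 (centInv σ n) ^ 2 / χ.1 1) =
      2 * (Nat.card (centralizer ({centInv σ n} : Set G)) : ℂ) ^ 3 *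
        (1 / (Nat.card (centralizer ({centInv σ n, τ} : Set G)) : ℂ) +
          1 / (Nat.card (centralizer ({centInv σ n, σ * τ} : Set G)) : ℂ)) ^ 2 := by
  classical
  set U := Finset.univ.filter (IsConj (centInv σ n)) with hU
  set idx : ℂ := ((centralizer ({(centInv σ n)} : Set G)).index : ℂ) with hidx
  have hb : ∑ u ∈ U, ∑ v ∈ U, dihTheta R (u * v) =
      idx ^ 2 * ∑ χ : Cfsg.IrrCharacter G, Cfsg.classInner (dihTheta R) χ.1 *
        (χ.1 (centInv σ n) ^ 2 / χ.1 1) := by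
    have hexp := H26.class_function_expansion (dihTheta R) (dihTheta_isClassFunction R)
    conv_lhs => rw [hexp]
    simp only [Finset.sum_apply, Pi.smul_apply, smul_eq_mul]
    rw [Finset.mul_sum, Finset.sum_congr rfl fun u _ => Finset.sum_comm, Finset.sum_comm]
    refine Finset.sum_congr rfl fun χ _ => ?_
    simp only [← Finset.mul_sum]
    rw [Finset.sum_comm, Finset.sum_congr rfl fun v _ => H40.sum_class_irr_mul χ (centInv σ n) v,
      ← Finset.mul_sum]
    have h1 := H40.sum_class_irr_mul χ (centInv σ n) 1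
    simp only [mul_one] at h1
    rw [h1, Cfsg.centralChar, ← hidx]
    field_simp [H26.irr_one_ne_zero χ]
  have ha : ∑ u ∈ U, ∑ v ∈ U, dihTheta R (u * v) =
      ((2 ^ (n - 1) : ℕ) * Nat.card R.K : ℂ)⁻¹ *
        ((Nat.card G : ℂ) * ∑ u ∈ U, ∑ v ∈ U, dihF R (u * v)) := by
    simp only [dihTheta, ← Finset.mul_sum]
    congr 1
    rw [Finset.sum_congr rfl fun u _ => Finset.sum_comm, Finset.sum_comm,
      Finset.sum_congr rfl fun x _ => ?_, Finset.sum_const, Finset.card_univ, nsmul_eq_mul,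
      Nat.card_eq_fintype_card]
    have hmem : ∀ x u : G, u ∈ U ↔ x * u * x⁻¹ ∈ U := fun x u => by
      simp only [hU, Finset.mem_filter, Finset.mem_univ, true_and]
      exact ⟨fun h => h.trans (isConj_iff.2 ⟨x, rfl⟩),
        fun h => h.trans (isConj_iff.2 ⟨x, rfl⟩ : IsConj u (x * u * x⁻¹)).symm⟩
    refine Finset.sum_equiv (MulAut.conj x).toEquiv (fun u => hmem x u) fun u _ => ?_
    refine Finset.sum_equiv (MulAut.conj x).toEquiv (fun v => hmem x v) fun v _ => ?_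
    simp [mul_assoc]
  rw [D.pair_sum R hinv, hb] at ha
  have hi : idx * (Nat.card (centralizer ({(centInv σ n)} : Set G)) : ℂ) = Nat.card G := by
    rw [hidx]
    exact_mod_cast (centralizer ({(centInv σ n)} : Set G)).index_mul_card
  have hC := congrArg (fun m : ℕ => (m : ℂ)) (D.card_centralizer R)
  simp only [Nat.cast_mul, Nat.cast_ofNat] at hC ha
  set c := (Nat.card (centralizer ({(centInv σ n)} : Set G)) : ℂ)
  set S := ∑ χ : Cfsg.IrrCharacter G, Cfsg.classInner (dihTheta R) χ.1 * (χ.1 (centInv σ n) ^ 2 / χ.1 1)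
  set q := (1 / (Nat.card (centralizer ({(centInv σ n), τ} : Set G)) : ℂ) +
    1 / (Nat.card (centralizer ({(centInv σ n), σ * τ} : Set G)) : ℂ))
  have hmk : ((2 ^ (n - 1) : ℕ) * Nat.card R.K : ℂ) ≠ 0 :=
    mul_ne_zero (Nat.cast_ne_zero.2 (by positivity)) (Nat.cast_ne_zero.2 Nat.card_pos.ne')
  have hg : (Nat.card G : ℂ) ≠ 0 := Nat.cast_ne_zero.2 Nat.card_pos.ne'
  have ha' : idx ^ 2 * S * ((2 ^ (n - 1) : ℕ) * Nat.card R.K : ℂ) =
      (Nat.card G : ℂ) * (c * q) ^ 2 := by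
    rw [ha]
    field_simp
  refine mul_left_cancel₀ hg ?_
  rw [← hi] at ha' ⊢
  linear_combination (2 * c) * ha' + idx ^ 2 * c * S * hC

end DihSylow

end Cfsg.Agent.H56
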