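import Cfsg.Agent.H56.DihReflect
import Cfsg.Agent.H56.DihComb

/-!
# The principal 2-block for a dihedral Sylow 2-subgroup
-/

set_option autoImplicit false
set_option linter.unusedSectionVars false

open scoped ComplexConjugate

namespace Cfsg.Agent.H56

open Subgroup

/-- A function on the nonzero residues is determined by its coefficients against `1 - ζ^(k l)`. -/
theorem eq_zero_of_coeffs {h : ℕ} {ζ : ℂ} (hζ : IsPrimitiveRoot ζ (2 * h)) (g : ℕ → ℂ)
    (hsym : ∀ l, 0 < l → l < 2 * h → g (2 * h - l) = g l)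
    (hc : ∀ k, 1 ≤ k → k ≤ h → ∑ l ∈ Finset.range (2 * h), (1 - (ζ ^ k) ^ l) * g l = 0) {l : ℕ}
    (hl0 : 0 < l) (hl : l < 2 * h) : g l = 0 := by
  set g0 : ℕ → ℂ := fun i => if i = 0 then 0 else g i with hg0
  set S : ℂ := ∑ i ∈ Finset.range (2 * h), g0 i with hS
  have hm : 0 < 2 * h := by omega
  have hG : ∀ k, k ≤ 2 * h → ∑ i ∈ Finset.range (2 * h), (ζ ^ k) ^ i * g0 i = S := by
    have hlow : ∀ k, k ≤ h → ∑ i ∈ Finset.range (2 * h), (ζ ^ k) ^ i * g0 i = S := by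
      intro k hk
      rcases Nat.eq_zero_or_pos k with rfl | hk0
      · simp [hS]
      have e := hc k hk0 hk
      have e2 : ∑ i ∈ Finset.range (2 * h), (1 - (ζ ^ k) ^ i) * g i =
          ∑ i ∈ Finset.range (2 * h), (g0 i - (ζ ^ k) ^ i * g0 i) := by
        refine Finset.sum_congr rfl fun i _ => ?_
        rcases Nat.eq_zero_or_pos i with rfl | hi
        · simp
        · simp only [hg0, if_neg hi.ne']; ring
      rw [e2, Finset.sum_sub_distrib, sub_eq_zero] at e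
      exact e.symm
    intro k hk
    rcases le_or_gt k h with hk' | hk'
    · exact hlow k hk'
    rw [← hlow (2 * h - k) (by omega)]
    refine Finset.sum_nbij' (fun i => (2 * h - i) % (2 * h)) (fun i => (2 * h - i) % (2 * h))
      (fun i _ => Finset.mem_range.2 (Nat.mod_lt _ hm))
      (fun i _ => Finset.mem_range.2 (Nat.mod_lt _ hm)) (fun i hi => ?_) (fun i hi => ?_)
      (fun i hi => ?_)
    all_goals rw [Finset.mem_range] at hi
    all_goals rcases Nat.eq_zero_or_pos i with rfl | hi0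
    all_goals try (simp [hg0]; done)
    all_goals rw [Nat.mod_eq_of_lt (show 2 * h - i < 2 * h by omega)]
    · rw [show 2 * h - (2 * h - i) = i by omega, Nat.mod_eq_of_lt hi]
    · rw [show 2 * h - (2 * h - i) = i by omega, Nat.mod_eq_of_lt hi]
    · simp only [hg0, if_neg hi0.ne', if_neg (show 2 * h - i ≠ 0 by omega)]
      rw [hsym i hi0 hi]
      congr 1
      rw [← pow_mul, ← pow_mul]
      have e : k * i + (2 * h) * (2 * h - i) = (2 * h - k) * (2 * h - i) + (2 * h) * k := by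
        obtain ⟨a, ha⟩ : ∃ a, 2 * h = k + a := ⟨2 * h - k, by omega⟩
        obtain ⟨b, hb⟩ : ∃ b, 2 * h = i + b := ⟨2 * h - i, by omega⟩
        rw [show 2 * h - k = a by omega, show 2 * h - i = b by omega]
        have : k + a = i + b := ha ▸ hb
        nlinarith
      have e' := congrArg (fun e => ζ ^ e) e
      simp only [pow_add, pow_mul ζ (2 * h), hζ.pow_eq_one, one_pow, mul_one] at e'
      exact e'
  have hz0 : ζ ≠ 0 := hζ.ne_zero hm.ne'
  set w : ℂ := ζ ^ (2 * h - l) with hw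
  have hwm : w ^ (2 * h) = 1 := by rw [hw, ← pow_mul, mul_comm, pow_mul, hζ.pow_eq_one, one_pow]
  have hw1 : w ≠ 1 := hζ.pow_ne_one_of_pos_of_lt (by omega) (by omega)
  have e : ∑ k ∈ Finset.range (2 * h), w ^ k * ∑ i ∈ Finset.range (2 * h), (ζ ^ k) ^ i * g0 i =
      0 := by
    rw [Finset.sum_congr rfl fun k hk => by rw [hG k (Finset.mem_range.1 hk).le],
      ← Finset.sum_mul, root_sum hwm, if_neg hw1, zero_mul]
  simp only [Finset.mul_sum] at e
  rw [Finset.sum_comm, Finset.sum_eq_single l] at e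
  · rw [Finset.sum_congr rfl (g := fun _ => g0 l) fun k _ => by
      rw [← mul_assoc, hw, ← pow_mul, ← pow_mul, ← pow_add,
        show (2 * h - l) * k + k * l = (2 * h) * k by
          obtain ⟨b, hb⟩ : ∃ b, 2 * h = l + b := ⟨2 * h - l, by omega⟩
          rw [show 2 * h - l = b by omega, hb]; ring,
        pow_mul, hζ.pow_eq_one, one_pow, one_mul], Finset.sum_const, Finset.card_range,
      nsmul_eq_mul, mul_eq_zero] at e
    have := e.resolve_left (Nat.cast_ne_zero.2 hm.ne')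
    simpa [hg0, hl0.ne'] using this
  · intro i hi hne
    rw [Finset.mem_range] at hi
    have hu : (ζ ^ (2 * h - l + i)) ^ (2 * h) = 1 := by
      rw [← pow_mul, mul_comm, pow_mul, hζ.pow_eq_one, one_pow]
    rw [Finset.sum_congr rfl (g := fun k => (ζ ^ (2 * h - l + i)) ^ k * g0 i) fun k _ => by
      rw [← mul_assoc, hw, ← pow_mul, ← pow_mul, ← pow_mul, ← pow_add]; ring_nf,
      ← Finset.sum_mul, root_sum hu, if_neg, zero_mul]
    intro h1
    obtain ⟨c, hc'⟩ := (hζ.pow_eq_one_iff_dvd _).1 h1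
    rcases Nat.lt_or_gt_of_ne hne with h2 | h2
    · rcases c with _ | c
      · omega
      · nlinarith [show 2 * h - l + i < 2 * h by omega]
    · rcases c with _ | _ | c
      · omega
      · omega
      · nlinarith [show 2 * h - l + i < 2 * (2 * h) by omega]
  · intro h'
    exact absurd (Finset.mem_range.2 hl) h'

variable {G : Type*} [Group G] [Fintype G]

/-- The principal 2-block of a group with dihedral Sylow 2-subgroups. -/
theorem dihedral_principal_block (M : Ideal Cfsg.AlgInt) (hM : Cfsg.IsPModular 2 M) {n : ℕ}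
    (hn : 3 ≤ n) {P : Sylow 2 G} {σ τ : G} (D : DihSylow P σ τ n) {ζ : ℂ}
    (hζ : IsPrimitiveRoot ζ (2 ^ (n - 1))) :
    Nat.card (Cfsg.principalBlock M G) = 3 + 2 ^ (n - 2) ∧
    ∃ (χ₁ χ₂ χ₃ : Cfsg.IrrCharacter G) (χ' : Fin (2 ^ (n - 2) - 1) → Cfsg.IrrCharacter G)
      (δ₁ δ₂ δ₃ : ℤ), (δ₁ = 1 ∨ δ₁ = -1) ∧ (δ₂ = 1 ∨ δ₂ = -1) ∧ (δ₃ = 1 ∨ δ₃ = -1) ∧
      Function.Injective χ' ∧ (χ₁ : G → ℂ) ≠ (fun _ => 1) ∧ (χ₂ : G → ℂ) ≠ (fun _ => 1) ∧
      (χ₃ : G → ℂ) ≠ (fun _ => 1) ∧ χ₁ ≠ χ₂ ∧ χ₁ ≠ χ₃ ∧ χ₂ ≠ χ₃ ∧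
      (∀ j, χ' j ≠ χ₁ ∧ χ' j ≠ χ₂ ∧ χ' j ≠ χ₃ ∧ (χ' j : G → ℂ) ≠ (fun _ => 1)) ∧
      Cfsg.principalBlock M G = {χ : Cfsg.IrrCharacter G | (χ : G → ℂ) = (fun _ => 1) ∨ χ = χ₁ ∨
        χ = χ₂ ∨ χ = χ₃ ∨ ∃ j, χ = χ' j} ∧
      (∀ l : ℕ, 0 < l → l < 2 ^ (n - 1) → (χ₁ : G → ℂ) (σ ^ l) = δ₁ ∧
        (χ₂ : G → ℂ) (σ ^ l) = δ₂ * (-1) ^ (l + 1) ∧ (χ₃ : G → ℂ) (σ ^ l) = δ₃ * (-1) ^ (l + 1) ∧
        ∀ j : Fin (2 ^ (n - 2) - 1), (χ' j : G → ℂ) (σ ^ l) =
          δ₁ * (ζ ^ (((j : ℕ) + 1) * l) + (ζ ^ (((j : ℕ) + 1) * l))⁻¹)) ∧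
      ∀ ρ : G, Odd (orderOf ρ) → ∀ j : Fin (2 ^ (n - 2) - 1),
        1 + δ₁ * (χ₁ : G → ℂ) ρ = -δ₂ * (χ₂ : G → ℂ) ρ - δ₃ * (χ₃ : G → ℂ) ρ ∧
        1 + δ₁ * (χ₁ : G → ℂ) ρ = δ₁ * (χ' j : G → ℂ) ρ := by
  classical
  haveI : Fact (Nat.Prime 2) := ⟨Nat.prime_two⟩
  haveI := hM.2.1
  obtain ⟨R⟩ := D.exists_retr
  haveI := Fintype.ofFinite R.K
  set h := 2 ^ (n - 2) with hh
  have hm : 2 ^ (n - 1) = 2 * h := D.two_mul_half.symm
  have hh24 : h = 2 ∨ 4 ≤ h := by
    rcases eq_or_lt_of_le hn with rfl | hn'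
    · exact Or.inl (by norm_num [hh])
    · exact Or.inr (le_trans (by norm_num) (Nat.pow_le_pow_right two_pos (show 2 ≤ n - 2 by omega)))
  have hh2 : 2 ≤ h := by omega
  have hh2' : Even h := by rw [hh, Nat.even_pow]; exact ⟨even_two, by omega⟩
  rw [hm] at hζ
  set o := H26.oneIrr G with ho
  set B := Cfsg.principalBlock M G with hB
  have hζk : ∀ k : ℕ, (ζ ^ k) ^ (2 ^ (n - 1)) = 1 := fun k => by
    rw [hm, ← pow_mul, mul_comm, pow_mul, hζ.pow_eq_one, one_pow]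
  have hζ1 : ∀ k, 1 ≤ k → k ≤ h → ζ ^ k ≠ 1 := fun k h1 h2 =>
    hζ.pow_ne_one_of_pos_of_lt (by omega) (by omega)
  have hζh : ζ ^ h = -1 := (hζ.pow (by omega) (mul_comm 2 h)).eq_neg_one_of_two_right
  choose! C hC using fun k => D.exists_int_gTheta R (hζk k)
  -- coefficients as Fourier coefficients
  set f : Cfsg.IrrCharacter G → ℕ → ℂ := fun χ l =>
    if χ ∈ B then χ.1 (σ ^ l) else 0 with hf
  have hcoef : ∀ k χ, (C k χ : ℂ) =
      ((2 ^ (n - 1) : ℕ) : ℂ)⁻¹ * ∑ l ∈ Finset.range (2 ^ (n - 1)), (1 - (ζ ^ k) ^ l) *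
        conj (f χ l) := by
    intro k χ
    rw [← hC k χ, D.classInner_gTheta_of_avg R (hζk k) (H26.irr_isClassFunction χ)]
    intro i hi0 hi
    rw [← map_sum, D.sum_section R M hM χ hi0 hi, map_mul, Complex.conj_natCast]
  have hone : o ∈ B := H41.mem_blockOf_self o
  have hC1 : ∀ k, 1 ≤ k → k ≤ h → C k o = 1 := by
    intro k h1 h2
    have e := hcoef k o
    rw [Finset.sum_congr rfl (g := fun l => 1 - (ζ ^ k) ^ l) fun l _ => by
      simp only [hf, if_pos hone]; rw [ho, H26.oneIrr_val, map_one, mul_one], Finset.sum_sub_distrib,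
      root_sum (hζk k), if_neg (hζ1 k h1 h2), sub_zero, Finset.sum_const, Finset.card_range,
      nsmul_eq_mul, mul_one, inv_mul_cancel₀ (Nat.cast_ne_zero.2 (by positivity))] at e
    exact_mod_cast e
  set c : ℕ → Cfsg.IrrCharacter G → ℤ := fun k χ => if χ = o then 0 else C k χ with hc
  have hip : ∀ j k, 1 ≤ j → j ≤ k → k ≤ h → (∑ χ, c j χ * c k χ : ℤ) =
      (if j = k then (if k = h then 3 else 2) else 1) := by
    intro j k h1 h2 h3
    have e := D.inner_gTheta R (hζk j) (w := ζ ^ k) (hζk k) (hζ1 j h1 (h2.trans h3))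
      (hζ1 k (h1.trans h2) h3)
    rw [H26.classInner_eq_sum _ _ (gTheta_isClassFunction R _)] at e
    simp only [hC, map_intCast, ← pow_add] at e
    have p1 : ζ ^ (j + k) = 1 ↔ j = h ∧ k = h := by
      rw [hζ.pow_eq_one_iff_dvd]
      constructor
      · intro hd
        have := Nat.le_of_dvd (by omega) hd
        omega
      · rintro ⟨rfl, rfl⟩
        exact ⟨1, by ring⟩
    have p2 : ζ ^ j = ζ ^ k ↔ j = k := by
      refine ⟨fun he => hζ.pow_inj (by omega) (by omega) he, fun he => by rw [he]⟩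
    simp only [p1, p2] at e
    have hsplit : (∑ χ, c j χ * c k χ : ℤ) + 1 = ∑ χ, C j χ * C k χ := by
      rw [← Finset.add_sum_erase _ _ (Finset.mem_univ o),
        ← Finset.add_sum_erase _ (fun χ => C j χ * C k χ) (Finset.mem_univ o),
        hC1 j h1 (h2.trans h3), hC1 k (h1.trans h2) h3,
        Finset.sum_congr rfl (g := fun χ => C j χ * C k χ) fun χ hχ => by
          simp only [hc, if_neg (Finset.ne_of_mem_erase hχ)]]
      simp only [hc, if_true]
      ring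
    have e' : ((∑ χ, C j χ * C k χ : ℤ) : ℂ) =
        ((2 + (if j = h ∧ k = h then 1 else 0) + (if j = k then 1 else 0) : ℤ) : ℂ) := by
      push_cast
      exact e
    have e'' : (∑ χ, C j χ * C k χ : ℤ) = _ := Int.cast_injective e'
    rw [e''] at hsplit
    split_ifs at hsplit ⊢ <;> omega
  have hdeg : ∀ k, 1 ≤ k → k ≤ h → (∑ χ, c k χ * (Cfsg.charDegree χ.1 : ℤ) : ℤ) = -1 := by
    intro k h1 h2
    have e := D.gTheta_one R (hζk k)
    rw [H26.class_function_expansion _ (gTheta_isClassFunction R _)] at e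
    simp only [Finset.sum_apply, Pi.smul_apply, smul_eq_mul, hC, H43.irr_charDegree_spec] at e
    have e' : (∑ χ, C k χ * (Cfsg.charDegree χ.1 : ℤ) : ℤ) = 0 := by exact_mod_cast e
    rw [← Finset.add_sum_erase _ _ (Finset.mem_univ o), hC1 k h1 h2, one_mul] at e'
    have hod : (Cfsg.charDegree o.1 : ℤ) = 1 := by
      simp [ho, Cfsg.charDegree, H26.oneIrr_val]
    rw [hod] at e'
    rw [← Finset.add_sum_erase _ _ (Finset.mem_univ o),
      Finset.sum_congr rfl (g := fun χ => C k χ * (Cfsg.charDegree χ.1 : ℤ)) fun χ hχ => by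
        simp only [hc, if_neg (Finset.ne_of_mem_erase hχ)]]
    simp only [hc, if_true, zero_mul]
    linarith
  obtain ⟨A, B₂, B₃, q, δ, δ₂, δ₃, hδ, hδ₂, hδ₃, nA2, nA3, n23, hq, hqinj, hch, hcj⟩ :=
    exists_coherent_family h hh24 (fun χ : Cfsg.IrrCharacter G => Cfsg.charDegree χ.1)
      H43.irr_charDegree_pos c
      (fun j h1 h2 => by
        have := hip j j h1 le_rfl h2.le
        rw [if_pos rfl, if_neg h2.ne] at this
        simpa only [pow_two] using this)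
      (by
        have := hip h h (by omega) le_rfl le_rfl
        simp only [if_true] at this
        simpa only [pow_two] using this)
      (fun j k h1 h2 h3 => by
        have := hip j k h1 h2.le h3
        rwa [if_neg h2.ne] at this) hdeg
  have hz : ∀ {e : ℤ}, e = 1 ∨ e = -1 → e ≠ 0 := by rintro e (rfl | rfl) <;> norm_num
  have hnz : ∀ {χ}, (∃ k, c k χ ≠ 0) → χ ≠ o ∧ χ ∈ B := by
    rintro χ ⟨k, hk⟩
    have hne : χ ≠ o := fun e => hk (by simp [hc, e])
    refine ⟨hne, ?_⟩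
    by_contra hχ
    apply hk
    simp only [hc, if_neg hne]
    have e := hcoef k χ
    simp only [hf, if_neg hχ, map_zero, mul_zero, Finset.sum_const_zero] at e
    exact_mod_cast e
  obtain ⟨A1, AB⟩ := hnz (χ := A) ⟨h, by rw [hch]; simp [nA2, nA3, hz hδ]⟩
  obtain ⟨B21, B2B⟩ := hnz (χ := B₂) ⟨h, by rw [hch]; simp [nA2.symm, n23, hz hδ₂]⟩
  obtain ⟨B31, B3B⟩ := hnz (χ := B₃) ⟨h, by rw [hch]; simp [nA3.symm, n23.symm, hz hδ₃]⟩
  have hqB : ∀ j, 1 ≤ j → j < h → q j ≠ o ∧ q j ∈ B := fun j h1 h2 => hnz ⟨j, by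
    rw [hcj j h1 h2]; simp [(hq j h1 h2).1, hz hδ]⟩
  -- recovering the values
  have hsymχ : ∀ (χ : Cfsg.IrrCharacter G) l, 0 < l → l < 2 * h →
      χ.1 (σ ^ (2 * h - l)) = χ.1 (σ ^ l) := by
    intro χ l hl0 hl
    have e : σ ^ (2 * h - l) = τ * σ ^ l * τ⁻¹ := by
      rw [D.tau_pow]
      refine eq_inv_of_mul_eq_one_left ?_
      rw [← pow_add, Nat.sub_add_cancel hl.le, ← hm, ← D.ordσ, pow_orderOf_eq_one]
    rw [e, H26.irr_conj]
  have hval : ∀ (χ : Cfsg.IrrCharacter G), χ ∈ B → χ ≠ o → ∀ F : ℕ → ℂ,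
      (∀ l, 0 < l → l < 2 * h → F (2 * h - l) = F l) →
      (∀ k, 1 ≤ k → k ≤ h → ((2 ^ (n - 1) : ℕ) : ℂ)⁻¹ *
        ∑ l ∈ Finset.range (2 ^ (n - 1)), (1 - (ζ ^ k) ^ l) * conj (F l) = (c k χ : ℂ)) →
      ∀ l, 0 < l → l < 2 ^ (n - 1) → χ.1 (σ ^ l) = F l := by
    intro χ hχ hne F hF hFc l hl0 hl
    have key := eq_zero_of_coeffs hζ (fun l => conj (χ.1 (σ ^ l)) - conj (F l))
      (fun l a b => by rw [hsymχ χ l a b, hF l a b]) (fun k h1 h2 => by
        have e := hFc k h1 h2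
        simp only [hc, if_neg hne] at e
        rw [hcoef k χ] at e
        simp only [hf, if_pos hχ] at e
        have e' := mul_left_cancel₀ (inv_ne_zero (Nat.cast_ne_zero.2 (by positivity))) e
        rw [hm] at e'
        simp only [mul_sub, Finset.sum_sub_distrib, e', sub_self]) hl0 (hm ▸ hl)
    rw [sub_eq_zero] at key
    exact star_injective key
  have hm0 : ((2 ^ (n - 1) : ℕ) : ℂ) ≠ 0 := Nat.cast_ne_zero.2 (by positivity)
  have vA : ∀ l, 0 < l → l < 2 ^ (n - 1) → A.1 (σ ^ l) = δ := by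
    refine hval A AB A1 (fun _ => (δ : ℂ)) (fun _ _ _ => rfl) fun k h1 h2 => ?_
    have hcA : c k A = δ := by
      rcases h2.lt_or_eq with h2' | rfl
      · rw [hcj k h1 h2']; simp [(hq k h1 h2').1.symm]
      · rw [hch]; simp [nA2, nA3]
    rw [hcA, map_intCast, ← Finset.sum_mul, Finset.sum_sub_distrib, root_sum (hζk k),
      if_neg (hζ1 k h1 h2), sub_zero, Finset.sum_const, Finset.card_range, nsmul_eq_mul, mul_one,
      ← mul_assoc, inv_mul_cancel₀ hm0, one_mul]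
  have halt : ∀ (χ : Cfsg.IrrCharacter G) (d : ℤ), χ ∈ B → χ ≠ o →
      (∀ k, 1 ≤ k → k ≤ h → c k χ = if k = h then d else 0) →
      ∀ l, 0 < l → l < 2 ^ (n - 1) → χ.1 (σ ^ l) = d * (-1) ^ (l + 1) := by
    intro χ d hχ hne hck
    refine hval χ hχ hne (fun l => (d : ℂ) * (-1) ^ (l + 1)) (fun l hl0 hl => ?_) fun k h1 h2 => ?_
    · congr 1
      rcases Nat.even_or_odd l with ⟨u, hu⟩ | ⟨u, hu⟩
      · rw [Odd.neg_one_pow ⟨h - u, by omega⟩, Odd.neg_one_pow ⟨u, by omega⟩]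
      · rw [Even.neg_one_pow ⟨h - u, by omega⟩, Even.neg_one_pow ⟨u + 1, by omega⟩]
    have e1 : ∀ l, (1 - (ζ ^ k) ^ l) * conj ((d : ℂ) * (-1) ^ (l + 1)) =
        (d : ℂ) * (-(-1) ^ l + (-(ζ ^ k)) ^ l) := fun l => by
      rw [map_mul, map_intCast, map_pow, map_neg, map_one, neg_pow (ζ ^ k) l, pow_succ]
      ring
    rw [Finset.sum_congr rfl fun l _ => e1 l, ← Finset.mul_sum, Finset.sum_add_distrib,
      Finset.sum_neg_distrib, root_sum (by rw [hm, pow_mul, neg_one_sq, one_pow]),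
      if_neg (by norm_num), root_sum (by
        rw [hm, neg_pow, pow_mul (-1 : ℂ), neg_one_sq, one_pow, one_mul, ← hm, hζk]),
      hck k h1 h2, neg_zero, zero_add]
    have hiff : -(ζ ^ k) = 1 ↔ k = h := by
      rw [neg_eq_iff_eq_neg, ← hζh]
      exact ⟨fun e => hζ.pow_inj (by omega) (by omega) e, fun e => by rw [e]⟩
    simp only [hiff]
    split_ifs
    · rw [mul_comm (d : ℂ), ← mul_assoc, inv_mul_cancel₀ hm0, one_mul]
    · simp
  have v2 := halt B₂ δ₂ B2B B21 fun k h1 h2 => by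
    rcases h2.lt_or_eq with h2' | rfl
    · rw [hcj k h1 h2', if_neg h2'.ne]; simp [nA2.symm, (hq k h1 h2').2.1.symm]
    · rw [hch]; simp [nA2.symm, n23]
  have v3 := halt B₃ δ₃ B3B B31 fun k h1 h2 => by
    rcases h2.lt_or_eq with h2' | rfl
    · rw [hcj k h1 h2', if_neg h2'.ne]; simp [nA3.symm, (hq k h1 h2').2.2.symm]
    · rw [hch]; simp [nA3.symm, n23.symm]
  have vq : ∀ j, 1 ≤ j → j < h → ∀ l, 0 < l → l < 2 ^ (n - 1) →
      (q j).1 (σ ^ l) = δ * (ζ ^ (j * l) + (ζ ^ (j * l))⁻¹) := by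
    intro j j1 j2
    obtain ⟨qo, qB⟩ := hqB j j1 j2
    obtain ⟨qA, q2, q3⟩ := hq j j1 j2
    have hu : (ζ ^ j) ^ (2 ^ (n - 1)) = 1 := hζk j
    have hu' : (ζ ^ j)⁻¹ ^ (2 ^ (n - 1)) = 1 := by rw [inv_pow, hu, inv_one]
    refine hval (q j) qB qo (fun l => (δ : ℂ) * (ζ ^ (j * l) + (ζ ^ (j * l))⁻¹))
      (fun l hl0 hl => ?_) fun k h1 h2 => ?_
    · have e : ζ ^ (j * (2 * h - l)) = (ζ ^ (j * l))⁻¹ := by
        refine eq_inv_of_mul_eq_one_left ?_
        rw [← pow_add, ← Nat.mul_add, Nat.sub_add_cancel hl.le, mul_comm, pow_mul, hζ.pow_eq_one,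
          one_pow]
      rw [e, inv_inv, add_comm]
    have hcq : c k (q j) = if k = j then -δ else 0 := by
      rcases h2.lt_or_eq with h2' | rfl
      · rw [hcj k h1 h2']
        by_cases e : k = j
        · subst e; simp [qA]
        · rw [if_neg qA, if_neg (fun e' => e (hqinj j k j1 j2 h1 h2' e').symm), if_neg e, add_zero]
      · rw [hch, if_neg j2.ne']; simp [qA, q2, q3]
    have e1 : ∀ l, (1 - (ζ ^ k) ^ l) * conj ((δ : ℂ) * (ζ ^ (j * l) + (ζ ^ (j * l))⁻¹)) =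
        (δ : ℂ) * ((ζ ^ j) ^ l + (ζ ^ j)⁻¹ ^ l - (ζ ^ k * ζ ^ j) ^ l -
          (ζ ^ k * (ζ ^ j)⁻¹) ^ l) := fun l => by
      have hn1 : ‖ζ ^ (j * l)‖ = 1 := by
        rw [norm_pow, hζ.norm'_eq_one (by omega), one_pow]
      rw [map_mul, map_intCast, map_add, map_inv₀, ← Complex.inv_eq_conj hn1, inv_inv, pow_mul,
        mul_pow, mul_pow, inv_pow]
      ring
    rw [Finset.sum_congr rfl fun l _ => e1 l, ← Finset.mul_sum, Finset.sum_sub_distrib,
      Finset.sum_sub_distrib, Finset.sum_add_distrib, root_sum hu, root_sum hu',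
      if_neg (hζ1 j j1 j2.le), if_neg (fun e => hζ1 j j1 j2.le (inv_eq_one.1 e)),
      root_sum (by rw [mul_pow, hζk, hu, one_mul]), root_sum (by rw [mul_pow, hζk, hu', one_mul]),
      hcq]
    have i1 : ¬ ζ ^ k * ζ ^ j = 1 := by
      rw [← pow_add]; exact hζ.pow_ne_one_of_pos_of_lt (by omega) (by omega)
    have i2 : ζ ^ k * (ζ ^ j)⁻¹ = 1 ↔ k = j := by
      rw [mul_inv_eq_iff_eq_mul₀ (pow_ne_zero _ (hζ.ne_zero (by omega))), one_mul]
      exact ⟨fun e => hζ.pow_inj (by omega) (by omega) e, fun e => by rw [e]⟩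
    rw [if_neg i1]
    simp only [i2]
    split_ifs
    · push_cast at hm0 ⊢
      field_simp
      ring
    · simp
  -- nothing else lies in the block
  have hJ := D.orderOf_centInv
  have hJl : (0 : ℕ) < h ∧ h < 2 ^ (n - 1) := ⟨by omega, by omega⟩
  have hJval : ∀ χ : Cfsg.IrrCharacter G, χ.1 (centInv σ n) = χ.1 (σ ^ h) := fun χ => rfl
  have hsign : (-1 : ℂ) ^ (h + 1) = -1 := Odd.neg_one_pow (Even.add_one hh2')
  have hrest : ∀ χ ∈ B, χ ≠ o → χ ≠ A → χ ≠ B₂ → χ ≠ B₃ → ∃ j, 1 ≤ j ∧ j < h ∧ χ = q j := by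
    intro χ hχ hno hnA hn2 hn3
    by_contra hnq
    have hc0 : ∀ k, 1 ≤ k → k ≤ h → c k χ = 0 := by
      intro k h1 h2
      rcases h2.lt_or_eq with h2' | rfl
      · rw [hcj k h1 h2', if_neg hnA, if_neg (fun e => hnq ⟨k, h1, h2', e⟩), add_zero]
      · rw [hch]; simp [hnA, hn2, hn3]
    have v0 : ∀ l, 0 < l → l < 2 ^ (n - 1) → χ.1 (σ ^ l) = 0 :=
      hval χ hχ hno (fun _ => 0) (fun _ _ _ => rfl) fun k h1 h2 => by simp [hc0 k h1 h2]
    have hrefl : ∀ i, χ.1 (σ ^ i * τ) = 0 := by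
      intro i
      have Di := D.shift i
      by_cases hconj : IsConj (centInv σ n) (σ ^ i * τ)
      · rw [← H26.irr_eq_of_isConj χ hconj, hJval, v0 h hJl.1 hJl.2]
      have e := Di.norm_reflection M hM hconj
      rw [finsum_mem_eq_finite_toFinset_sum _ (Set.toFinite _)] at e
      by_contra hne
      have hbig : ∀ η : Cfsg.IrrCharacter G, (∃ d : ℤ, (d = 1 ∨ d = -1) ∧
          η.1 (centInv σ n) = d) → (1 : ℝ) ≤ ‖η.1 (σ ^ i * τ)‖ ^ 2 := by
        rintro η ⟨d, hd, hv⟩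
        obtain ⟨a, ha⟩ := exists_int_involution η hJ
        obtain ⟨b, hb⟩ := exists_int_involution η Di.ordτ
        rw [hv] at ha
        have ha' : d = 2 * (a : ℤ) - Cfsg.charDegree η.1 := Int.cast_injective ha
        have hz0 : (2 * (b : ℤ) - Cfsg.charDegree η.1) ≠ 0 := by omega
        rw [hb, Complex.norm_intCast, sq_abs]
        have h1 := Int.one_le_abs hz0
        have h2 : (1 : ℤ) ≤ (2 * (b : ℤ) - Cfsg.charDegree η.1) ^ 2 := by
          nlinarith [sq_abs (2 * (b : ℤ) - Cfsg.charDegree η.1)]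
        exact_mod_cast h2
      have g0 := hbig o ⟨1, Or.inl rfl, by simp [ho, H26.oneIrr_val]⟩
      have g1 := hbig A ⟨δ, hδ, by rw [hJval, vA h hJl.1 hJl.2]⟩
      have g2 := hbig B₂ ⟨-δ₂, by omega, by rw [hJval, v2 h hJl.1 hJl.2, hsign]; push_cast; ring⟩
      have g3 := hbig B₃ ⟨-δ₃, by omega, by rw [hJval, v3 h hJl.1 hJl.2, hsign]; push_cast; ring⟩
      have hle := Finset.sum_le_sum_of_subset_of_nonneg
        (f := fun η : Cfsg.IrrCharacter G => ‖η.1 (σ ^ i * τ)‖ ^ 2)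
        (show ({χ, o, A, B₂, B₃} : Finset (Cfsg.IrrCharacter G)) ⊆ (Set.toFinite B).toFinset by
          intro η hη
          rw [Set.Finite.mem_toFinset]
          simp only [Finset.mem_insert, Finset.mem_singleton] at hη
          rcases hη with rfl | rfl | rfl | rfl | rfl
          exacts [hχ, hone, AB, B2B, B3B]) (fun η _ _ => sq_nonneg _)
      rw [Finset.sum_insert (by simp [hno, hnA, hn2, hn3]),
        Finset.sum_insert (by simp [A1.symm, B21.symm, B31.symm]),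
        Finset.sum_insert (by simp [nA2, nA3]), Finset.sum_insert (by simp [n23]),
        Finset.sum_singleton, e] at hle
      have : 0 < ‖χ.1 (σ ^ i * τ)‖ ^ 2 := by positivity
      linarith
    have hv : ∀ g : G, g ≠ 1 → (∃ j, orderOf g = 2 ^ j) → χ.1 g = 0 := by
      rintro g hg ⟨j, hj⟩
      obtain ⟨Q, hQ⟩ := (IsPGroup.of_card (n := j) (by rw [Nat.card_zpowers, hj]) :
        IsPGroup 2 (zpowers g)).exists_le_sylow
      obtain ⟨x, hx⟩ := MulAction.exists_smul_eq G Q P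
      have hxg : x * g * x⁻¹ ∈ (P : Subgroup G) := by
        rw [← hx, Sylow.smul_def]
        exact Subgroup.smul_mem_pointwise_smul _ (MulAut.conj x) _ (hQ (mem_zpowers g))
      rw [← H26.irr_conj χ g x]
      obtain ⟨i, hi | hi⟩ := D.forms _ hxg
      · rw [hi, ← pow_mod_orderOf σ i, D.ordσ]
        rcases Nat.eq_zero_or_pos (i % 2 ^ (n - 1)) with h0 | h0
        · exfalso
          rw [← pow_mod_orderOf σ i, D.ordσ, h0, pow_zero] at hi
          exact hg (conj_eq_one_iff.1 hi)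
        · exact v0 _ h0 (Nat.mod_lt _ (by positivity))
      · rw [hi]; exact hrefl i
    have hsing := H40.blockOf_eq_singleton (p := 2) hM χ (H40.factorization_eq_of_vanish χ hv).ge
    have hB' : Cfsg.blockOf M (χ : G → ℂ) = B := H41.block_eq_of_mem_of_mem
      (H41.isPBlock_blockOf χ) H41.isPBlock_principalBlock (H41.mem_blockOf_self χ) hχ
    have : o ∈ ({χ} : Set (Cfsg.IrrCharacter G)) := by rw [← hsing, hB']; exact hone
    exact hno (Set.mem_singleton_iff.1 this).symm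
  have hne1 : ∀ {χ : Cfsg.IrrCharacter G}, χ ≠ o → (χ : G → ℂ) ≠ (fun _ => 1) :=
    fun hne e => hne (Subtype.ext e)
  have hset : B = {χ : Cfsg.IrrCharacter G | (χ : G → ℂ) = (fun _ => 1) ∨ χ = A ∨ χ = B₂ ∨ χ = B₃ ∨
      ∃ j : Fin (h - 1), χ = q ((j : ℕ) + 1)} := by
    ext χ
    refine ⟨fun hχ => ?_, ?_⟩
    · by_contra hn'
      simp only [Set.mem_setOf_eq, not_or, not_exists] at hn'
      obtain ⟨j, j1, j2, hj⟩ := hrest χ hχ (fun e => hn'.1 (by rw [e]; rfl)) hn'.2.1 hn'.2.2.1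
        hn'.2.2.2.1
      exact hn'.2.2.2.2 ⟨j - 1, by omega⟩ (by rw [hj]; congr 1; simp; omega)
    · rintro (e | rfl | rfl | rfl | ⟨j, rfl⟩)
      · rwa [show χ = o from Subtype.ext e]
      · exact AB
      · exact B2B
      · exact B3B
      · exact (hqB _ (by omega) (by omega)).2
  refine ⟨?_, A, B₂, B₃, fun j => q ((j : ℕ) + 1), δ, δ₂, δ₃, hδ, hδ₂, hδ₃,
    fun a b e => Fin.ext (Nat.succ_injective
      (hqinj _ _ (by omega) (by omega) (by omega) (by omega) e)),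
    hne1 A1, hne1 B21, hne1 B31, nA2, nA3, n23,
    fun j => ⟨(hq _ (by omega) (by omega)).1, (hq _ (by omega) (by omega)).2.1,
      (hq _ (by omega) (by omega)).2.2, hne1 (hqB _ (by omega) (by omega)).1⟩, hset,
    fun l hl0 hl => ⟨vA l hl0 hl, v2 l hl0 hl, v3 l hl0 hl,
      fun j => vq _ (by omega) (by omega) l hl0 hl⟩, fun ρ hρ j => ?_⟩
  · set Q := Finset.univ.image (fun j : Fin (h - 1) => q ((j : ℕ) + 1)) with hQ
    have hB2 : B = ↑(insert o (insert A (insert B₂ (insert B₃ Q)))) := by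
      rw [hset]
      ext χ
      simp only [Finset.coe_insert, Set.mem_insert_iff, Set.mem_setOf_eq, Finset.mem_coe, hQ,
        Finset.mem_image, Finset.mem_univ, true_and]
      refine or_congr ⟨fun e => Subtype.ext e, fun e => by rw [e]; rfl⟩
        (or_congr Iff.rfl (or_congr Iff.rfl (or_congr Iff.rfl ?_)))
      exact exists_congr fun j => eq_comm
    have hni : ∀ χ, (∀ j, 1 ≤ j → j < h → q j ≠ χ) → χ ∉ Q := by
      intro χ hχ hm'
      obtain ⟨j, -, rfl⟩ := Finset.mem_image.1 hm'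
      exact hχ _ (by omega) (by omega) rfl
    rw [hB2, Nat.card_coe_set_eq, Set.ncard_coe_finset,
      Finset.card_insert_of_notMem, Finset.card_insert_of_notMem, Finset.card_insert_of_notMem,
      Finset.card_insert_of_notMem (hni _ fun j a b => (hq j a b).2.2), hQ,
      Finset.card_image_of_injective _ fun a b e => Fin.ext (Nat.succ_injective
        (hqinj _ _ (by omega) (by omega) (by omega) (by omega) e)), Finset.card_fin]
    · omega
    · simp only [Finset.mem_insert, not_or]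
      exact ⟨n23, hni _ fun j a b => (hq j a b).2.1⟩
    · simp only [Finset.mem_insert, not_or]
      exact ⟨nA2, nA3, hni _ fun j a b => (hq j a b).1⟩
    · simp only [Finset.mem_insert, not_or]
      exact ⟨A1.symm, B21.symm, B31.symm, hni _ fun j a b => (hqB j a b).1⟩
  · have hsum : ∀ k, 1 ≤ k → k ≤ h → (1 : ℂ) + ∑ χ, (c k χ : ℂ) * χ.1 ρ = 0 := by
      intro k h1 h2
      have e := D.gTheta_of_odd R (hζk k) hρ
      rw [H26.class_function_expansion _ (gTheta_isClassFunction R _)] at e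
      simp only [Finset.sum_apply, Pi.smul_apply, smul_eq_mul, hC] at e
      rw [← e, ← Finset.add_sum_erase _ _ (Finset.mem_univ o),
        ← Finset.add_sum_erase _ (fun χ => (C k χ : ℂ) * χ.1 ρ) (Finset.mem_univ o), hC1 k h1 h2,
        Finset.sum_congr rfl (g := fun χ => (C k χ : ℂ) * χ.1 ρ) fun χ hχ => by
          simp only [hc, if_neg (Finset.ne_of_mem_erase hχ)]]
      simp [hc, ho, H26.oneIrr_val]
    have eh := hsum h (by omega) le_rfl
    simp only [hch, Int.cast_add, Int.cast_ite, Int.cast_zero, add_mul, ite_mul, zero_mul,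
      Finset.sum_add_distrib, Finset.sum_ite_eq', Finset.mem_univ, if_true] at eh
    have ej := hsum ((j : ℕ) + 1) (by omega) (by omega)
    simp only [hcj _ (show 1 ≤ (j : ℕ) + 1 by omega) (show (j : ℕ) + 1 < h by omega),
      Int.cast_add, Int.cast_ite, Int.cast_zero, Int.cast_neg, add_mul, ite_mul, zero_mul,
      Finset.sum_add_distrib, Finset.sum_ite_eq', Finset.mem_univ, if_true] at ej
    exact ⟨by linear_combination eh, by linear_combination ej⟩

end Cfsg.Agent.H56
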