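import Cfsg.Agent.H56.DihBlock

/-!
# Reflection sections and involution values
-/

set_option autoImplicit false
set_option linter.unusedSectionVars false

open scoped ComplexConjugate

namespace Cfsg.Agent.H56

open Subgroup

variable {G : Type*} [Group G] [Fintype G]

/-- The value at an involution is an integer of the parity of the degree. -/
theorem exists_int_involution (χ : Cfsg.IrrCharacter G) {t : G} (ht : orderOf t = 2) :
    ∃ a : ℕ, χ.1 t = ((2 * (a : ℤ) - Cfsg.charDegree χ.1 : ℤ) : ℂ) := by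
  classical
  haveI := Fintype.ofFinite (zpowers t)
  obtain ⟨a, ha⟩ := H26.exists_nat_classInner_irr
    (H26.isCharacter_comp (H26.irr_isCharacter χ) (zpowers t).subtype) (H26.oneIrr _)
  refine ⟨a, ?_⟩
  have hu : (Finset.univ : Finset (zpowers t)) = {1, ⟨t, mem_zpowers t⟩} := by
    refine (Finset.eq_of_subset_of_card_le (Finset.subset_univ _) ?_).symm
    rw [Finset.card_univ, ← Nat.card_eq_fintype_card, Nat.card_zpowers, ht,
      Finset.card_insert_of_notMem, Finset.card_singleton]
    simp [Subtype.ext_iff, (H28.ne_one_of_orderOf_two ht).symm]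
  simp only [Cfsg.classInner, Nat.card_zpowers, ht, hu, H26.oneIrr_val, map_one, mul_one,
    Function.comp_apply] at ha
  rw [Finset.sum_insert (by simp [Subtype.ext_iff, (H28.ne_one_of_orderOf_two ht).symm]),
    Finset.sum_singleton] at ha
  simp only [coe_subtype, OneMemClass.coe_one, H43.irr_charDegree_spec] at ha
  push_cast at ha ⊢
  linear_combination 2 * ha

/-- A dihedral Sylow 2-subgroup of the given isomorphism type. -/
theorem exists_dihSylow {G : Type*} [Group G] [Finite G] (P : Sylow 2 G) {n : ℕ} (hn : 3 ≤ n)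
    (hP : Nonempty ((P : Subgroup G) ≃* DihedralGroup (2 ^ (n - 1)))) {σ : G}
    (hσ : σ ∈ (P : Subgroup G)) (hσo : orderOf σ = 2 ^ (n - 1)) :
    ∃ τ, DihSylow P σ τ n := by
  obtain ⟨e⟩ := hP
  have hm : 4 ≤ 2 ^ (n - 1) :=
    le_trans (by norm_num) (Nat.pow_le_pow_right two_pos (show 2 ≤ n - 1 by omega))
  haveI : NeZero (2 ^ (n - 1)) := ⟨by positivity⟩
  have ho : orderOf (e ⟨σ, hσ⟩) = 2 ^ (n - 1) := by
    rw [MulEquiv.orderOf_eq, ← Subgroup.orderOf_coe]; exact hσo
  obtain ⟨k, hk⟩ : ∃ k, e ⟨σ, hσ⟩ = DihedralGroup.r k := by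
    rcases h : e ⟨σ, hσ⟩ with k | k
    · exact ⟨k, rfl⟩
    · rw [h, DihedralGroup.orderOf_sr] at ho
      omega
  have hgen : zpowers (DihedralGroup.r k) = zpowers (DihedralGroup.r (1 : ZMod (2 ^ (n - 1)))) := by
    refine Subgroup.eq_of_le_of_card_ge (zpowers_le.2 ?_) ?_
    · exact ⟨k.val, by simp⟩
    · rw [Nat.card_zpowers, Nat.card_zpowers, ← hk, ho, DihedralGroup.orderOf_r_one]
  have hr : ∀ i, ∃ j : ℕ, DihedralGroup.r i = (e ⟨σ, hσ⟩) ^ j := by
    intro i
    have h : DihedralGroup.r i ∈ zpowers (DihedralGroup.r k) := by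
      rw [hgen]
      exact ⟨i.val, by simp⟩
    obtain ⟨j, hj⟩ := (mem_powers_iff_mem_zpowers).2 h
    exact ⟨j, by rw [hk]; exact hj.symm⟩
  set τ' := e.symm (DihedralGroup.sr 0) with hτ'
  refine ⟨(τ' : G), ⟨by omega, hσ, τ'.2, hσo, ?_, ?_, ?_, ?_⟩⟩
  · rw [Subgroup.orderOf_coe, hτ', MulEquiv.orderOf_eq, DihedralGroup.orderOf_sr]
  · have h : τ' * ⟨σ, hσ⟩ * τ'⁻¹ = (⟨σ, hσ⟩ : (P : Subgroup G))⁻¹ := by
      apply e.injective
      simp only [map_mul, map_inv, hτ', MulEquiv.apply_symm_apply, hk]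
      simp [DihedralGroup.inv_r, DihedralGroup.inv_sr]
    exact congrArg Subtype.val h
  · intro h
    obtain ⟨j, hj⟩ := mem_zpowers_iff.1 h
    have h' : (⟨σ, hσ⟩ : (P : Subgroup G)) ^ j = τ' := Subtype.ext (by push_cast; exact hj)
    have h2 := congrArg e h'
    rw [map_zpow, hτ', MulEquiv.apply_symm_apply, hk] at h2
    simp at h2
  · intro p hp
    rcases h : e ⟨p, hp⟩ with i | i
    · obtain ⟨j, hj⟩ := hr i
      refine ⟨j, Or.inl ?_⟩
      have : (⟨p, hp⟩ : (P : Subgroup G)) = ⟨σ, hσ⟩ ^ j :=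
        e.injective (by rw [map_pow, h, hj])
      simpa using congrArg Subtype.val this
    · obtain ⟨j, hj⟩ := hr (0 - i)
      refine ⟨j, Or.inr ?_⟩
      have : (⟨p, hp⟩ : (P : Subgroup G)) = ⟨σ, hσ⟩ ^ j * τ' :=
        e.injective (by
          rw [map_mul, map_pow, h, hτ', MulEquiv.apply_symm_apply, ← hj]
          simp)
      simpa using congrArg Subtype.val this

namespace DihSylow

variable {P : Sylow 2 G} {σ τ : G} {n : ℕ} (D : DihSylow P σ τ n)
include D

/-- The column of a reflection which is not conjugate to the central involution has norm four. -/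
theorem norm_reflection (M : Ideal Cfsg.AlgInt) (hM : Cfsg.IsPModular 2 M)
    (hnc : ¬ IsConj (centInv σ n) τ) [Fintype (Cfsg.IrrCharacter G)] :
    ∑ᶠ χ ∈ Cfsg.principalBlock M G, ‖(χ : G → ℂ) τ‖ ^ 2 = 4 := by
  classical
  haveI : Fact (Nat.Prime 2) := ⟨Nat.prime_two⟩
  set Ct := centralizer ({τ} : Set G) with hCt
  have hJC : centInv σ n ∈ Ct := mem_centralizer_singleton_iff.2 D.commute_tau.symm.eq
  let t : Ct := ⟨τ, mem_centralizer_singleton_iff.2 rfl⟩
  let j : Ct := ⟨centInv σ n, hJC⟩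
  have ht2 : t * t = 1 := Subtype.ext D.tau_mul
  have hj2 : j * j = 1 := Subtype.ext D.centInv_mul
  have htj : j * t = t * j := Subtype.ext D.commute_tau.symm.eq
  have hjt : j ∉ zpowers t := by
    intro h
    obtain ⟨k, hk⟩ := mem_zpowers_iff.1 h
    have hk' : τ ^ k = centInv σ n := congrArg Subtype.val hk
    rcases Int.even_or_odd k with ⟨l, rfl⟩ | ⟨l, rfl⟩
    · rw [← two_mul, zpow_mul, zpow_two, D.tau_mul, one_zpow] at hk'
      exact H28.ne_one_of_orderOf_two D.orderOf_centInv hk'.symm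
    · rw [zpow_add, zpow_mul, zpow_two, D.tau_mul, one_zpow, one_mul, zpow_one] at hk'
      exact hnc (hk' ▸ IsConj.refl τ)
  -- the four-group
  let V : Subgroup Ct :=
    { carrier := {1, t, j, t * j}
      one_mem' := by simp
      mul_mem' := fun {a b} ha hb => by
        simp only [Set.mem_insert_iff, Set.mem_singleton_iff] at ha hb ⊢
        have e1 : t * (t * j) = j := by rw [← mul_assoc, ht2, one_mul]
        have e2 : j * (t * j) = t := by rw [← mul_assoc, htj, mul_assoc, hj2, mul_one]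
        have e3 : t * j * t = j := by rw [mul_assoc, htj, e1]
        have e4 : t * j * j = t := by rw [mul_assoc, hj2, mul_one]
        have e5 : t * j * (t * j) = 1 := by rw [← mul_assoc, e3, hj2]
        rcases ha with rfl | rfl | rfl | rfl <;> rcases hb with rfl | rfl | rfl | rfl <;>
          simp [ht2, hj2, htj, e1, e2, e3, e4, e5]
      inv_mem' := fun {a} ha => by
        simp only [Set.mem_insert_iff, Set.mem_singleton_iff] at ha ⊢
        have e5 : (t * j)⁻¹ = t * j := by
          rw [mul_inv_rev, inv_eq_of_mul_eq_one_right ht2, inv_eq_of_mul_eq_one_right hj2, htj]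
        rcases ha with rfl | rfl | rfl | rfl <;>
          simp [inv_eq_of_mul_eq_one_right ht2, inv_eq_of_mul_eq_one_right hj2, e5] }
  have hVsq : ∀ v ∈ V, v * v = 1 := by
    intro v hv
    simp only [V, Subgroup.mem_mk] at hv
    rcases hv with rfl | rfl | rfl | rfl
    · simp
    · exact ht2
    · exact hj2
    · rw [mul_assoc, ← mul_assoc j, htj, mul_assoc t j, hj2, mul_one, ht2]
  have hVp : IsPGroup 2 V := fun v => ⟨1, Subtype.ext (by
    rw [pow_one, pow_two]; exact hVsq v v.2)⟩
  obtain ⟨W, hVW⟩ := hVp.exists_le_sylow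
  -- the image of `W` in the Sylow subgroup centralizes a reflection
  obtain ⟨Q, hQ⟩ := (W.isPGroup'.map Ct.subtype).exists_le_sylow
  obtain ⟨g, hg⟩ := MulAction.exists_smul_eq G Q P
  have hgW : ∀ w ∈ (W : Subgroup Ct), g * (w : G) * g⁻¹ ∈ (P : Subgroup G) := by
    intro w hw
    rw [← hg, Sylow.smul_def]
    exact Subgroup.smul_mem_pointwise_smul _ (MulAut.conj g) _ (hQ (mem_map_of_mem Ct.subtype hw))
  have htP : g * τ * g⁻¹ ∈ (P : Subgroup G) := hgW t (hVW (by simp [V]))
  obtain ⟨a, ha⟩ : ∃ a, g * τ * g⁻¹ = σ ^ a * τ := by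
    obtain ⟨a, ha | ha⟩ := D.forms _ htP
    · exfalso
      obtain ⟨R⟩ := D.exists_retr
      have h2 : orderOf (g * τ * g⁻¹) = 2 :=
        ((MulAut.conj g).orderOf_eq τ).trans D.ordτ
      rcases D.over_cases R (D.le_centralizer htP) (H28.mul_self_of_orderOf_two h2)
        (H28.ne_one_of_orderOf_two h2) with h | ⟨i, -, h⟩
      · rw [R.π_fix _ htP] at h
        exact hnc ((isConj_iff.2 ⟨g, h⟩ : IsConj τ (centInv σ n)).symm)
      · rw [R.π_fix _ htP, ha] at h
        exact D.pow_mul_tau_not_mem i (h ▸ npow_mem_zpowers σ a)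
    · exact ⟨a, ha⟩
  have hWle : ∀ w ∈ (W : Subgroup Ct), g * (w : G) * g⁻¹ ∈
      ({1, centInv σ n, σ ^ a * τ, centInv σ n * (σ ^ a * τ)} : Finset G) := by
    intro w hw
    have hc : g * (w : G) * g⁻¹ * (σ ^ a * τ) = σ ^ a * τ * (g * (w : G) * g⁻¹) := by
      rw [← ha]
      calc g * (w : G) * g⁻¹ * (g * τ * g⁻¹) = g * ((w : G) * τ) * g⁻¹ := by group
        _ = g * τ * g⁻¹ * (g * (w : G) * g⁻¹) := by
          rw [mem_centralizer_singleton_iff.1 w.2]; group
    rcases (D.shift a).centralizer_sigma (hgW w hw) hc with h | h | h | h <;> simp [h]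
  have hWcard : Nat.card (W : Subgroup Ct) ≤ 4 := by
    haveI := Fintype.ofFinite (W : Subgroup Ct)
    rw [Nat.card_eq_fintype_card, ← Finset.card_univ]
    refine (Finset.card_le_card_of_injOn (fun w : (W : Subgroup Ct) => g * ((w : Ct) : G) * g⁻¹)
      (fun w _ => hWle w w.2) fun x _ y _ h => ?_).trans Finset.card_le_four
    exact Subtype.ext (Subtype.ext (mul_left_cancel (mul_right_cancel h)))
  have hZ : ({1, t, j, t * j} : Finset Ct).card = 4 := by
    have a1 : t ≠ 1 := fun h => H28.ne_one_of_orderOf_two D.ordτ (congrArg Subtype.val h)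
    have a2 : j ≠ 1 := fun h => hjt (h ▸ one_mem _)
    have a3 : j ≠ t := fun h => hjt (h ▸ mem_zpowers t)
    have a4 : t * j ≠ 1 := fun h => hjt (by
      rw [eq_inv_of_mul_eq_one_right h]; exact inv_mem (mem_zpowers t))
    have a5 : t * j ≠ t := fun h => a2 (mul_eq_left.1 h)
    have a6 : t * j ≠ j := fun h => a1 (mul_eq_right.1 h)
    rw [Finset.card_insert_of_notMem, Finset.card_insert_of_notMem, Finset.card_insert_of_notMem,
      Finset.card_singleton]
    · simpa using a6.symm
    · simp only [Finset.mem_insert, Finset.mem_singleton, not_or]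
      exact ⟨a3.symm, a5.symm⟩
    · simp only [Finset.mem_insert, Finset.mem_singleton, not_or]
      exact ⟨a1.symm, a2.symm, a4.symm⟩
  have hZW : ∀ w ∈ (W : Subgroup Ct), w ∈ ({1, t, j, t * j} : Finset Ct) := by
    haveI := Fintype.ofFinite (W : Subgroup Ct)
    have hsub : ({1, t, j, t * j} : Finset Ct) ⊆
        (Set.toFinite ((W : Subgroup Ct) : Set Ct)).toFinset := by
      intro z hz
      rw [Set.Finite.mem_toFinset]
      refine hVW ?_
      simpa [V] using hz
    have heq := Finset.eq_of_subset_of_card_le hsub (by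
      rw [hZ, ← Set.ncard_eq_toFinset_card, ← Nat.card_coe_set_eq]
      exact hWcard)
    intro w hw
    rw [heq, Set.Finite.mem_toFinset]
    exact hw
  have D' : DihSylow W t j 2 :=
    { two_le := le_rfl
      memσ := hVW (by simp [V])
      memτ := hVW (by simp [V])
      ordσ := by rw [← Subgroup.orderOf_coe]; exact D.ordτ
      ordτ := by rw [← Subgroup.orderOf_coe]; exact D.orderOf_centInv
      inv := by rw [htj, mul_inv_cancel_right, inv_eq_of_mul_eq_one_right ht2]
      not_mem := hjt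
      forms := fun p hp => by
        have h := hZW p hp
        simp only [Finset.mem_insert, Finset.mem_singleton] at h
        rcases h with rfl | rfl | rfl | rfl
        · exact ⟨0, Or.inl (pow_zero t).symm⟩
        · exact ⟨1, Or.inl (pow_one _).symm⟩
        · exact ⟨0, Or.inr (by rw [pow_zero, one_mul])⟩
        · exact ⟨1, Or.inr (by rw [pow_one])⟩ }
  obtain ⟨R'⟩ := D'.exists_retr
  have hcI : centInv t 2 = t := by simp [centInv]
  have htop : centralizer ({centInv t 2} : Set Ct) = ⊤ := by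
    rw [hcI, eq_top_iff]
    exact fun c _ => mem_centralizer_singleton_iff.2 (Subtype.ext (mem_centralizer_singleton_iff.1 c.2))
  have hKn : R'.K.Normal := ⟨fun a ha c => by
    have hcC : c ∈ centralizer ({centInv t 2} : Set Ct) := htop ▸ mem_top c
    have haC := R'.K_le ha
    refine (R'.π_ker _ (htop ▸ mem_top _)).1 ?_
    rw [R'.π_conj hcC haC, R'.π_of_mem ha, mul_one, mul_inv_cancel]⟩
  have hcard : Nat.card Ct = 4 * Nat.card R'.K := by
    have h := R'.card_centralizer_eq D'.le_centralizer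
    rw [htop, Subgroup.card_top, D'.card_P] at h
    rw [h]
    norm_num
  have hle := H19.le_pPrimeCore hKn (Nat.Coprime.symm (Nat.coprime_two_left.2 R'.K_odd))
  have hnc' : ∃ k : ℕ, (Cfsg.pPrimeCore 2 Ct).index = 2 ^ k := by
    have hd := Subgroup.index_dvd_of_le hle
    have hi : R'.K.index = 2 ^ 2 := by
      have h := R'.K.card_mul_index
      rw [hcard, mul_comm 4] at h
      exact Nat.eq_of_mul_eq_mul_left Nat.card_pos h
    rw [hi] at hd
    obtain ⟨k, -, hk⟩ := (Nat.dvd_prime_pow Nat.prime_two).1 hd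
    exact ⟨k, hk⟩
  have h := (S0947.result 2 M hM τ ⟨1, by rw [D.ordτ]; norm_num⟩
    (H28.ne_one_of_orderOf_two D.ordτ) (1 : Ct) (by simp)).2 hnc'
  have hv : (Nat.card Ct).factorization 2 = 2 := by
    rw [hcard, Nat.factorization_mul (by norm_num) Nat.card_pos.ne', Finsupp.add_apply,
      Nat.factorization_eq_zero_of_not_dvd (n := Nat.card R'.K) (fun hd =>
        (Nat.not_even_iff_odd.2 R'.K_odd) (even_iff_two_dvd.2 hd)), add_zero,
      show (4 : ℕ) = 2 ^ 2 by norm_num, Nat.prime_two.factorization_pow, Finsupp.single_eq_same]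
  rw [hv] at h
  simpa using h

end DihSylow

end Cfsg.Agent.H56
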