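import Mathlib
import Cfsg.Agent.H29.TwoTransfer
import Cfsg.Agent.H28.Dihedral

/-!
# The centralizer of the central involution of a dihedral Sylow 2-subgroup
-/

set_option autoImplicit false
set_option linter.unusedSectionVars false

namespace Cfsg.Agent.H56

open Subgroup

variable {G : Type*} [Group G]

/-- A Sylow 2-subgroup which is dihedral of order `2 ^ n`, the four-group included. -/
structure DihSylow (P : Sylow 2 G) (σ τ : G) (n : ℕ) : Prop where
  two_le : 2 ≤ n
  memσ : σ ∈ (P : Subgroup G)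
  memτ : τ ∈ (P : Subgroup G)
  ordσ : orderOf σ = 2 ^ (n - 1)
  ordτ : orderOf τ = 2
  inv : τ * σ * τ⁻¹ = σ⁻¹
  not_mem : τ ∉ zpowers σ
  forms : ∀ p ∈ (P : Subgroup G), ∃ i : ℕ, p = σ ^ i ∨ p = σ ^ i * τ

/-- The central involution. -/
def centInv (σ : G) (n : ℕ) : G := σ ^ (2 ^ (n - 2))

namespace DihSylow

variable {P : Sylow 2 G} {σ τ : G} {n : ℕ} (D : DihSylow P σ τ n)
include D

theorem tau_mul : τ * τ = 1 := H28.mul_self_of_orderOf_two D.ordτ

theorem tau_inv : τ⁻¹ = τ := H28.inv_eq_self_of_orderOf_two D.ordτ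

theorem two_mul_half : 2 * 2 ^ (n - 2) = 2 ^ (n - 1) := by
  rw [← pow_succ']
  congr 1
  have := D.two_le
  omega

theorem tau_pow (i : ℕ) : τ * σ ^ i * τ⁻¹ = (σ ^ i)⁻¹ := by
  rw [← conj_pow, D.inv, inv_pow]

theorem refl_mul_self (i : ℕ) : σ ^ i * τ * (σ ^ i * τ) = 1 := by
  have h := D.tau_pow i
  rw [D.tau_inv] at h
  rw [mul_assoc, ← mul_assoc τ, h, mul_inv_cancel]

theorem orderOf_centInv : orderOf (centInv σ n) = 2 := by
  have h := D.two_mul_half
  rw [centInv, orderOf_pow' _ (by positivity), D.ordσ, ← h, Nat.gcd_mul_left_left,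
    Nat.mul_div_cancel _ (by positivity)]

theorem centInv_mul : centInv σ n * centInv σ n = 1 :=
  H28.mul_self_of_orderOf_two D.orderOf_centInv

theorem centInv_mem : centInv σ n ∈ (P : Subgroup G) := pow_mem D.memσ _

theorem commute_sigma (i : ℕ) : Commute (σ ^ i) (centInv σ n) := Commute.pow_pow_self σ _ _

theorem commute_tau : Commute τ (centInv σ n) := by
  have h := D.tau_pow (2 ^ (n - 2))
  rw [show (σ ^ (2 ^ (n - 2)))⁻¹ = σ ^ (2 ^ (n - 2)) from
    H28.inv_eq_self_of_orderOf_two D.orderOf_centInv] at h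
  exact mul_inv_eq_iff_eq_mul.1 h

theorem le_centralizer : (P : Subgroup G) ≤ centralizer ({centInv σ n} : Set G) := by
  intro p hp
  rw [mem_centralizer_singleton_iff]
  obtain ⟨i, rfl | rfl⟩ := D.forms p hp
  · exact (D.commute_sigma i).eq
  · exact ((D.commute_sigma i).mul_left D.commute_tau).eq

theorem pow_mul_tau_not_mem (i : ℕ) : σ ^ i * τ ∉ zpowers σ := fun h =>
  D.not_mem (by simpa using mul_mem (inv_mem (npow_mem_zpowers σ i)) h)

/-- Another reflection gives the same data. -/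
theorem shift (j : ℕ) : DihSylow P σ (σ ^ j * τ) n where
  two_le := D.two_le
  memσ := D.memσ
  memτ := mul_mem (pow_mem D.memσ j) D.memτ
  ordσ := D.ordσ
  ordτ := H28.orderOf_two_of_mul_self (D.refl_mul_self j) fun h =>
    D.pow_mul_tau_not_mem j (h ▸ one_mem _)
  inv := by
    have h := D.inv
    rw [show σ ^ j * τ * σ * (σ ^ j * τ)⁻¹ = σ ^ j * (τ * σ * τ⁻¹) * (σ ^ j)⁻¹ by group, h]
    group
  not_mem := D.pow_mul_tau_not_mem j
  forms := by
    intro p hp
    obtain ⟨i, rfl | rfl⟩ := D.forms p hp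
    · exact ⟨i, Or.inl rfl⟩
    · refine ⟨i + (2 ^ (n - 1) - 1) * j, Or.inr ?_⟩
      have h : (σ ^ j) ^ (2 ^ (n - 1)) = 1 := by
        rw [← pow_mul, mul_comm, pow_mul, ← D.ordσ, pow_orderOf_eq_one, one_pow]
      obtain ⟨m, hm⟩ : ∃ m, 2 ^ (n - 1) = m + 1 := ⟨2 ^ (n - 1) - 1, (Nat.sub_add_cancel Nat.one_le_two_pow).symm⟩
      rw [hm] at h ⊢
      rw [Nat.add_sub_cancel, pow_add, mul_assoc, ← mul_assoc (σ ^ (m * j)), ← pow_add,
        show m * j + j = j * (m + 1) by ring, pow_mul, h, one_mul]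

variable [Finite G]

theorem card_P : Nat.card (P : Subgroup G) = 2 * 2 ^ (n - 1) := by
  classical
  have hA : zpowers σ ≤ (P : Subgroup G) := zpowers_le.2 D.memσ
  have hidx : (zpowers σ).relIndex (P : Subgroup G) = 2 := by
    rw [relIndex, index_eq_two_iff]
    refine ⟨⟨τ, D.memτ⟩, fun b => ?_⟩
    simp only [mem_subgroupOf, Subgroup.coe_mul]
    have hA' : ∀ i : ℕ, σ ^ i * τ ∉ zpowers σ := D.pow_mul_tau_not_mem
    obtain ⟨i, h | h⟩ := D.forms b b.2
    · rw [h]
      exact Or.inr ⟨npow_mem_zpowers σ i, hA' i⟩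
    · rw [h]
      refine Or.inl ⟨?_, hA' i⟩
      rw [mul_assoc, D.tau_mul, mul_one]
      exact npow_mem_zpowers σ i
  have h := card_mul_index ((zpowers σ).subgroupOf (P : Subgroup G))
  rw [Nat.card_congr (subgroupOfEquivOfLe hA).toEquiv, Nat.card_zpowers, D.ordσ] at h
  rw [← h, ← relIndex, hidx, mul_comm]

end DihSylow

/-- The retraction of the centralizer of the central involution onto the Sylow 2-subgroup. -/
structure CentRetr (P : Sylow 2 G) (J : G) where
  K : Subgroup G
  π : G → G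
  K_le : K ≤ centralizer ({J} : Set G)
  K_odd : Odd (Nat.card K)
  π_mul : ∀ a ∈ centralizer ({J} : Set G), ∀ b ∈ centralizer ({J} : Set G), π (a * b) = π a * π b
  π_mem : ∀ a ∈ centralizer ({J} : Set G), π a ∈ (P : Subgroup G)
  π_fix : ∀ p ∈ (P : Subgroup G), π p = p
  π_ker : ∀ a ∈ centralizer ({J} : Set G), (π a = 1 ↔ a ∈ K)

/-- The centralizer has a normal 2-complement. -/
theorem DihSylow.exists_retr [Finite G] {P : Sylow 2 G} {σ τ : G} {n : ℕ}
    (D : DihSylow P σ τ n) : Nonempty (CentRetr P (centInv σ n)) := by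
  classical
  set J := centInv σ n with hJ
  set C := centralizer ({J} : Set G) with hC
  set T : Sylow 2 C := P.subtype D.le_centralizer with hT
  have hTmem : ∀ x : C, x ∈ (T : Subgroup C) ↔ (x : G) ∈ (P : Subgroup G) := fun x => Iff.rfl
  have hA : zpowers σ ≤ (P : Subgroup G) := zpowers_le.2 D.memσ
  have hAC : zpowers σ ≤ C := hA.trans D.le_centralizer
  have hAcard : Nat.card ((zpowers σ).subgroupOf C) = 2 ^ (n - 1) := by
    rw [Nat.card_congr (subgroupOfEquivOfLe hAC).toEquiv, Nat.card_zpowers, D.ordσ]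
  have hTcard : Nat.card (T : Subgroup C) = 2 * 2 ^ (n - 1) := by
    rw [← D.card_P]
    exact Nat.card_congr (subgroupOfEquivOfLe D.le_centralizer).toEquiv
  have hAT : (zpowers σ).subgroupOf C ≤ (T : Subgroup C) := fun x hx => hA hx
  have hAi : ((zpowers σ).subgroupOf C).relIndex (T : Subgroup C) = 2 := by
    have h := card_mul_index (((zpowers σ).subgroupOf C).subgroupOf (T : Subgroup C))
    rw [Nat.card_congr (subgroupOfEquivOfLe hAT).toEquiv, hAcard, ← relIndex, hTcard,
      mul_comm 2] at h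
    exact Nat.eq_of_mul_eq_mul_left (by positivity) h
  haveI : IsCyclic ((zpowers σ).subgroupOf C) :=
    isCyclic_of_surjective (subgroupOfEquivOfLe hAC).symm.toMonoidHom
      (subgroupOfEquivOfLe hAC).symm.surjective
  obtain ⟨N, hNn, hNodd, k, hNk⟩ := H29.exists_normal_two_complement_of_dihedral_type T
    ((zpowers σ).subgroupOf C) hAT inferInstance hAi ⟨J, D.le_centralizer D.centInv_mem⟩
    (by rw [← Subgroup.orderOf_coe]; exact D.orderOf_centInv)
    (by rw [mem_subgroupOf]; exact npow_mem_zpowers σ _)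
    (fun g => Subtype.ext (mem_centralizer_singleton_iff.1 g.2))
    (by
      intro s hs hsA
      obtain ⟨i, h | h⟩ := D.forms s hs
      · exact absurd (mem_subgroupOf.2 (h ▸ npow_mem_zpowers σ i)) hsA
      · refine Subtype.ext ?_
        rw [pow_two, Subgroup.coe_mul, h, D.refl_mul_self, Subgroup.coe_one])
  haveI := hNn
  have hcop : (Nat.card (T : Subgroup C)).Coprime (Nat.card N) := by
    rw [hTcard, ← pow_succ']
    exact Nat.Coprime.pow_left _ (Nat.coprime_two_left.2 hNodd)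
  let f : (T : Subgroup C) →* C ⧸ N := (QuotientGroup.mk' N).comp (T : Subgroup C).subtype
  have hinj : Function.Injective f := by
    rw [injective_iff_map_eq_one]
    intro x hx
    have hxN : (x : C) ∈ N := (QuotientGroup.eq_one_iff _).1 hx
    exact Subtype.ext ((disjoint_def.1 (disjoint_iff.2 (inf_eq_bot_of_coprime hcop))) x.2 hxN)
  have hcard : Nat.card (T : Subgroup C) = Nat.card (C ⧸ N) := by
    rw [T.card_eq_multiplicity, ← Subgroup.index, hNk, ← N.card_mul_index, hNk,
      Nat.factorization_mul Nat.card_pos.ne' (by positivity), Finsupp.add_apply,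
      Nat.factorization_eq_zero_of_not_dvd (fun h => by
        obtain ⟨c, hc⟩ := hNodd
        omega), zero_add, Nat.prime_two.factorization_pow, Finsupp.single_eq_same]
  let e : (T : Subgroup C) ≃* C ⧸ N :=
    MulEquiv.ofBijective f ((Nat.bijective_iff_injective_and_card f).2 ⟨hinj, hcard⟩)
  let r : C →* (T : Subgroup C) := e.symm.toMonoidHom.comp (QuotientGroup.mk' N)
  refine ⟨⟨N.map C.subtype, fun g => if h : g ∈ C then ((r ⟨g, h⟩ : C) : G) else 1,
    map_subtype_le N, by rw [card_map_of_injective C.subtype_injective]; exact hNodd,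
    fun a ha b hb => ?_, fun a ha => ?_, fun p hp => ?_, fun a ha => ?_⟩⟩
  · rw [← hC] at ha hb
    simp only [dif_pos ha, dif_pos hb, dif_pos (mul_mem ha hb)]
    rw [show (⟨a * b, mul_mem ha hb⟩ : C) = ⟨a, ha⟩ * ⟨b, hb⟩ from rfl, map_mul]
    rfl
  · rw [← hC] at ha
    simp only [dif_pos ha]
    exact (r ⟨a, ha⟩).2
  · have hpC : p ∈ C := D.le_centralizer hp
    simp only [dif_pos hpC]
    have : r ⟨p, D.le_centralizer hp⟩ = ⟨⟨p, D.le_centralizer hp⟩, (hTmem _).2 hp⟩ :=
      e.symm_apply_eq.2 rfl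
    rw [this]
  · rw [← hC] at ha
    simp only [dif_pos ha]
    rw [OneMemClass.coe_eq_one, OneMemClass.coe_eq_one]
    show e.symm _ = 1 ↔ _
    rw [MulEquiv.map_eq_one_iff]
    refine (QuotientGroup.eq_one_iff _).trans ⟨fun h => ⟨_, h, rfl⟩, ?_⟩
    rintro ⟨x, hx, rfl⟩
    exact hx

end Cfsg.Agent.H56
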