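import Cfsg.Agent.H22.CharIdem
import Cfsg.Agent.H22.SubpairPoint
import Cfsg.Agent.H22.PairBridge
import Cfsg.Agent.H22.StarDef
import Cfsg.Agent.H22.StarSection
import Cfsg.Agent.H40.CyclicWords
import Cfsg.Agent.H40.SecondMain
import Cfsg.Agent.H45.Galois

/-!
# Characters at lifted idempotents, and the point of a block of rank one
-/

set_option autoImplicit false
set_option linter.unusedSectionVars false

open scoped ComplexConjugate

namespace Cfsg.Agent.H56.FD

open Cfsg MonoidAlgebra
open Cfsg.Agent.H41 (ResField localRing res groupAlgCenter)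
open Cfsg.Agent.H22 (Supp Inv cut cj red trc elTop el)

section Pull

variable {R : Type*} [CommRing R] {G X : Type*} [Group G] [Finite G] [Group X] [Finite X]

/-- The coefficients along a homomorphism. -/
noncomputable def pull (f : X →* G) : MonoidAlgebra R G →ₗ[R] MonoidAlgebra R X where
  toFun a := H40.ofFun fun x => a.coeff (f x)
  map_add' a b := H40.ext_coeff fun x => by
    simp [H40.coeff_ofFun]
  map_smul' c a := H40.ext_coeff fun x => by
    rw [RingHom.id_apply, MonoidAlgebra.coeff_smul_apply, H40.coeff_ofFun, H40.coeff_ofFun,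
      MonoidAlgebra.coeff_smul_apply]

theorem coeff_pull (f : X →* G) (a : MonoidAlgebra R G) (x : X) :
    (pull f a).coeff x = a.coeff (f x) := H40.coeff_ofFun _ _

variable {f : X →* G} (hf : Function.Injective f)

include hf

theorem pull_one : pull f (1 : MonoidAlgebra R G) = 1 := H40.ext_coeff fun x => by
  classical
  rw [coeff_pull, MonoidAlgebra.one_def, MonoidAlgebra.coeff_single, MonoidAlgebra.one_def,
    MonoidAlgebra.coeff_single, Finsupp.single_apply, Finsupp.single_apply]
  exact if_congr ⟨fun e => hf (e ▸ (map_one f)), fun e => e ▸ (map_one f).symm⟩ rfl rfl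

theorem pull_mul {a : MonoidAlgebra R G} (ha : Supp f.range a) (b : MonoidAlgebra R G) :
    pull f (a * b) = pull f a * pull f b := H40.ext_coeff fun c => by
  classical
  have := Fintype.ofFinite G
  have := Fintype.ofFinite X
  rw [coeff_pull, H40.coeff_mul_eq_sum, H40.coeff_mul_eq_sum]
  simp only [coeff_pull, map_mul, map_inv]
  refine (Finset.sum_bij_ne_zero (fun x _ _ => f x) (fun _ _ _ => Finset.mem_univ _)
    (fun _ _ _ _ _ _ h => hf h) (fun y _ hy => ?_) fun _ _ _ => rfl).symm
  obtain ⟨x, rfl⟩ : y ∈ f.range := ha y fun h => hy (by rw [h, zero_mul])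
  exact ⟨x, Finset.mem_univ _, hy, rfl⟩

omit hf in
theorem pull_cj (x : X) (a : MonoidAlgebra R G) : cj x (pull f a) = pull f (cj (f x) a) :=
  H40.ext_coeff fun y => by simp [coeff_pull]

omit hf in
theorem inv_pull {U : Subgroup G} {a : MonoidAlgebra R G} (ha : Inv U a) :
    Inv (U.comap f) (pull f a) := fun x hx => by rw [pull_cj, ha (f x) hx]

omit hf in
theorem pull_cut (K : Subgroup G) (a : MonoidAlgebra R G) :
    cut (K.comap f) (pull f a) = pull f (cut K a) := H40.ext_coeff fun x => by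
  by_cases hx : f x ∈ K
  · rw [H22.coeff_cut_of_mem _ (Subgroup.mem_comap.2 hx), coeff_pull, coeff_pull,
      H22.coeff_cut_of_mem _ hx]
  · rw [H22.coeff_cut_of_notMem _ (fun h => hx (Subgroup.mem_comap.1 h)), coeff_pull,
      H22.coeff_cut_of_notMem _ hx]

omit hf in
theorem supp_pull {K : Subgroup G} {a : MonoidAlgebra R G} (ha : Supp K a) :
    Supp (K.comap f) (pull f a) := fun x hx => ha _ (by rwa [coeff_pull] at hx)

theorem supp_top (a : MonoidAlgebra R G) : Supp (⊤ : Subgroup G) a := fun x _ => Subgroup.mem_top x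

theorem pull_idem {a : MonoidAlgebra R G} (ha : Supp f.range a) (h : a * a = a) :
    pull f a * pull f a = pull f a := by rw [← pull_mul hf ha, h]

end Pull

variable {G : Type*} [Group G] [Finite G] {M : Ideal AlgInt} [M.IsMaximal] {p : ℕ} [Fact p.Prime]

theorem red_pull {X : Type*} [Group X] [Finite X] (f : X →* G)
    (a : MonoidAlgebra (localRing M) G) : red M X (pull f a) = pull f (red M G a) :=
  H40.ext_coeff fun x => by rw [H22.coeff_red, coeff_pull, coeff_pull, H22.coeff_red]

theorem pull_el (K : Subgroup G) (b : Set (IrrCharacter K)) :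
    pull K.subtype (el M K b) = elTop M b := H40.ext_coeff fun h => by
  rw [coeff_pull, H22.coeff_el, H22.coeff_elTop, subgroupBlockCoeff, dif_pos (show K.subtype h ∈ K from h.2)]
  rfl

theorem pull_comp {R X Y : Type*} [CommRing R] [Group X] [Finite X] [Group Y] [Finite Y]
    (f : X →* G) (g : Y →* X) (a : MonoidAlgebra R G) :
    pull g (pull f a) = pull (f.comp g) a :=
  H40.ext_coeff fun y => by simp [coeff_pull]

/-- Idempotents lift inside a subalgebra. -/
theorem exists_idem_red {A : Subalgebra (localRing M) (MonoidAlgebra (localRing M) G)}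
    {c : MonoidAlgebra (localRing M) G} (hc : c ∈ A)
    (hc2 : red M G c * red M G c = red M G c) :
    ∃ e ∈ A, e * e = e ∧ red M G e = red M G c := by
  obtain ⟨e, q, d, n, hee, -, -, heA, hqA, hdA, hcqe, hd, hred⟩ := H22.exists_idem_lift hc
  exact ⟨e, heA, hee, H22.riesz_image (red M G) hcqe hd hred hc2⟩

theorem isClassFunction_mul_comm {χ : G → ℂ} (h : IsClassFunction G χ) (x y : G) :
    χ (x * y) = χ (y * x) := by
  rw [← h (y * x) x]; congr 1; group

theorem char_mem_localRing {χ : G → ℂ} (h : IsCharacter G χ) (g : G) : χ g ∈ localRing M :=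
  H41.isIntegral_mem_localRing (H45.isIntegral_char' h g)

/-- The value at `u` only depends on the reduction cut to the centraliser. -/
theorem trc_eq_of_cut (hM : IsPModular p M) {χ : G → ℂ} (hχ : IsCharacter G χ) {u : G} {j : ℕ}
    (hu : orderOf u = p ^ j) {i i' : MonoidAlgebra (localRing M) G} (hi : i * i = i)
    (hi' : i' * i' = i') (hiu : Inv (Subgroup.zpowers u) i) (hiu' : Inv (Subgroup.zpowers u) i')
    (h : cut (Subgroup.centralizer (Subgroup.zpowers u : Set G)) (red M G i) =
      cut (Subgroup.centralizer (Subgroup.zpowers u : Set G)) (red M G i')) :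
    trc χ u i = trc χ u i' := by
  have hcl := isClassFunction_mul_comm (H26.isClassFunction_of_isCharacter hχ)
  rw [H22.trc_eq_tau hM (char_mem_localRing hχ) hcl hu hi hiu,
    H22.trc_eq_tau hM (char_mem_localRing hχ) hcl hu hi' hiu', h]

theorem cut_top (a : MonoidAlgebra (ResField M) G) :
    cut (Subgroup.centralizer (Subgroup.zpowers (1 : G) : Set G)) a = a := by
  refine H22.cut_of_supp fun x _ => ?_
  rw [H22.centralizer_zpowers_eq]
  exact Subgroup.mem_centralizer_singleton_iff.2 (by simp)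

theorem inv_zpowers_one {R : Type*} [CommRing R] (a : MonoidAlgebra R G) :
    Inv (Subgroup.zpowers (1 : G)) a := by
  intro g hg
  rw [Subgroup.zpowers_one_eq_bot, Subgroup.mem_bot] at hg
  rw [hg, H22.cj_one_apply]

/-- At the identity the trace only depends on the reduction. -/
theorem trc_one_eq_of_red (hM : IsPModular p M) {χ : G → ℂ} (hχ : IsCharacter G χ)
    {i i' : MonoidAlgebra (localRing M) G} (hi : i * i = i) (hi' : i' * i' = i')
    (h : red M G i = red M G i') : trc χ 1 i = trc χ 1 i' :=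
  trc_eq_of_cut hM hχ (j := 0) (by simp) hi hi' (inv_zpowers_one i) (inv_zpowers_one i') (by rw [h])

theorem exists_nat_trc (hM : IsPModular p M) {χ : G → ℂ} (hχ : IsCharacter G χ)
    {i : MonoidAlgebra (localRing M) G} (hi : i * i = i) : ∃ n : ℕ, trc χ 1 i = n :=
  H26.exists_nat_char_one (H22.isCharacter_trc hχ hi (U := Subgroup.zpowers (1 : G))
    (inv_zpowers_one i))

/-- Blocks cut out values. -/
theorem trc_mul_setLocIdem [Fintype G] {S : Set (IrrCharacter G)}
    (hS : H40.BlockClosed M S) (χ : IrrCharacter G) [Decidable (χ ∈ S)] (u : G)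
    (a : MonoidAlgebra (localRing M) G) :
    trc (χ : G → ℂ) u (a * ((H40.setLocIdem hS : groupAlgCenter (localRing M) G) :
      MonoidAlgebra (localRing M) G)) =
      if χ ∈ S then trc (χ : G → ℂ) u a else 0 := by
  classical
  have key : ∀ h : G, ∑ s : G, ((((H40.setLocIdem hS : groupAlgCenter (localRing M) G) :
      MonoidAlgebra (localRing M) G).coeff s : ℂ)) * (χ : G → ℂ) (h * s * u) =
      if χ ∈ S then (χ : G → ℂ) (h * u) else 0 := by
    intro h
    have e : ∀ s, (χ : G → ℂ) (h * s * u) = (χ : G → ℂ) (s * (u * h)) := fun s => by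
      rw [mul_assoc, isClassFunction_mul_comm (H26.irr_isClassFunction χ), mul_assoc]
    simp only [e, H40.coe_coeff_setLocIdem, H40.sum_blockCoeff_mul_irr]
    rw [isClassFunction_mul_comm (H26.irr_isClassFunction χ) u h]
    split_ifs <;> rfl
  rw [H22.trc_mul, H22.trc_apply]
  simp only [mul_assoc (_ : ℂ) _ ((χ : G → ℂ) _), ← Finset.mul_sum, key]
  split_ifs <;> simp

theorem red_setLocIdem {B : Set (IrrCharacter G)} (hB : IsPBlock M B) :
    red M G ((H40.setLocIdem (H40.blockClosed_of_isPBlock hB) : groupAlgCenter (localRing M) G) :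
      MonoidAlgebra (localRing M) G) =
      elTop M B := H40.ext_coeff fun x => by
  rw [H22.coeff_red, H22.coeff_elTop, H22.resT_of_mem (H41.blockCoeff_mem hB _)]
  exact congrArg (res M) (Subtype.ext (H40.coe_coeff_setLocIdem _ x))

/-- An idempotent absorbed by a block only sees the members of the block. -/
theorem trc_eq_zero_of_absorb (hM : IsPModular p M) {B : Set (IrrCharacter G)} (hB : IsPBlock M B)
    {χ : IrrCharacter G} (hχ : χ ∉ B) {u : G} {j : ℕ} (hu : orderOf u = p ^ j)
    {i : MonoidAlgebra (localRing M) G} (hi : i * i = i) (hiu : Inv (Subgroup.zpowers u) i)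
    (ha : red M G i * elTop M B = red M G i) : trc (χ : G → ℂ) u i = 0 := by
  classical
  have := Fintype.ofFinite G
  set e : MonoidAlgebra (localRing M) G :=
    ((H40.setLocIdem (H40.blockClosed_of_isPBlock hB) : groupAlgCenter (localRing M) G) :
      MonoidAlgebra (localRing M) G) with he
  have hec : ∀ b, e * b = b * e := fun b =>
    (Subalgebra.mem_center_iff.1
      (H40.setLocIdem (H40.blockClosed_of_isPBlock hB) : groupAlgCenter (localRing M) G).2 b).symm
  have hee : e * e = e := congrArg Subtype.val (H40.isIdempotentElem_setLocIdem _).eq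
  have hii : i * e * (i * e) = i * e := by
    rw [mul_assoc, ← mul_assoc e, hec i, mul_assoc i e e, hee, ← mul_assoc, hi]
  have hie : Inv (Subgroup.zpowers u) (i * e) := by
    refine hiu.mul fun g _ => H40.ext_coeff fun x => ?_
    rw [H22.coeff_cj]
    refine Subtype.ext ?_
    rw [he, H40.coe_coeff_setLocIdem, H40.coe_coeff_setLocIdem]
    simpa using H40.blockCoeff_conj B x g⁻¹
  rw [trc_eq_of_cut hM (H26.irr_isCharacter χ) hu hi hii hiu hie (by
      rw [map_mul, he, red_setLocIdem hB, ha]), trc_mul_setLocIdem, if_neg hχ]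

/-! ### Class sums of idempotents vanish on singular classes -/

theorem sum_mul_eq_zero_of_singular (hM : IsPModular p M) [Fintype G]
    {i : MonoidAlgebra (localRing M) G} (hi : i * i = i) {F : G → ℂ} (hF : IsClassFunction G F)
    (h0 : ∀ h, ¬ p ∣ orderOf h → F h = 0) : ∑ h : G, (i.coeff h : ℂ) * F h = 0 := by
  classical
  rw [← Finset.sum_fiberwise Finset.univ (fun h : G => ConjClasses.mk h)
    (fun h => (i.coeff h : ℂ) * F h)]
  refine Finset.sum_eq_zero fun c _ => ?_
  obtain ⟨y, rfl⟩ := ConjClasses.mk_surjective c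
  have hFy : ∀ h ∈ Finset.univ.filter (fun h : G => ConjClasses.mk h = ConjClasses.mk y),
      F h = F y := by
    intro h hh
    obtain ⟨x, rfl⟩ := isConj_iff.1 (ConjClasses.mk_eq_mk_iff_isConj.1 (Finset.mem_filter.1 hh).2).symm
    exact hF y x
  rw [Finset.sum_congr rfl fun h hh => by rw [hFy h hh], ← Finset.sum_mul]
  by_cases hy : p ∣ orderOf y
  · have hz : (∑ x : G, if IsConj y x then i.coeff x else 0 : localRing M) = 0 :=
      H40.eq_zero_of_forall_pow_dvd hM _ fun n => by
        obtain ⟨z, hz⟩ := H40.exists_classCoeffSum_eq_pow_mul (p := p) hi hy n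
        exact (pow_dvd_pow _ (Nat.le_succ n)).trans ⟨z, hz⟩
    have hz' := congrArg (fun z : localRing M => (z : ℂ)) hz
    simp only [AddSubmonoidClass.coe_finsetSum, ZeroMemClass.coe_zero] at hz'
    rw [show ∑ h ∈ Finset.univ.filter (fun h : G => ConjClasses.mk h = ConjClasses.mk y),
        (i.coeff h : ℂ) = 0 from ?_, zero_mul]
    rw [Finset.sum_filter]
    refine Eq.trans ?_ hz'
    refine Finset.sum_congr rfl fun x _ => ?_
    simp only [ConjClasses.mk_eq_mk_iff_isConj]
    by_cases h : IsConj y x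
    · rw [if_pos h, if_pos h.symm]
    · rw [if_neg h, if_neg fun h' => h h'.symm, ZeroMemClass.coe_zero]
  · rw [h0 y hy, mul_zero]

theorem trc_one_apply [Fintype G] (χ : G → ℂ) (a : MonoidAlgebra (localRing M) G) :
    trc χ 1 a = ∑ h : G, (a.coeff h : ℂ) * χ h := by
  simp [H22.trc_apply]

theorem trc_one_congr (hM : IsPModular p M) [Fintype G]
    {i : MonoidAlgebra (localRing M) G} (hi : i * i = i) {F F' : G → ℂ}
    (hF : IsClassFunction G F) (hF' : IsClassFunction G F')
    (h : ∀ x, ¬ p ∣ orderOf x → F x = F' x) : trc F 1 i = trc F' 1 i := by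
  rw [trc_one_apply, trc_one_apply, ← sub_eq_zero, ← Finset.sum_sub_distrib]
  simp only [← mul_sub]
  exact sum_mul_eq_zero_of_singular hM hi (fun x y => by simp only [hF x y, hF' x y])
    fun x hx => by rw [h x hx, sub_self]

/-! ### Central elements -/

/-- The scalar of a central element. -/
noncomputable def scal (ψ : IrrCharacter G) (u : G) : ℂ := (ψ : G → ℂ) u / (ψ : G → ℂ) 1

theorem irr_mul_central [Fintype G] {u : G} (hu : ∀ g : G, Commute u g) (ψ : IrrCharacter G)
    (h : G) : (ψ : G → ℂ) (h * u) = scal ψ u * (ψ : G → ℂ) h := by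
  classical
  have e := H42.irr_sum_mul ψ (fun z => if z = u then (1 : ℂ) else 0) (fun g x => by
    refine if_congr ⟨fun he => ?_, fun he => by rw [he, ← (hu x).eq, mul_inv_cancel_right]⟩ rfl rfl
    calc g = x⁻¹ * (x * g * x⁻¹) * x := by group
      _ = u := by rw [he, mul_assoc, (hu x).eq, inv_mul_cancel_left]) h
  rw [← isClassFunction_mul_comm (H26.irr_isClassFunction ψ)]
  simpa [scal] using e

theorem trc_central [Fintype G] {u : G} (hu : ∀ g : G, Commute u g) (ψ : IrrCharacter G)
    (a : MonoidAlgebra (localRing M) G) :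
    trc (ψ : G → ℂ) u a = scal ψ u * trc (ψ : G → ℂ) 1 a := by
  rw [H22.trc_apply, trc_one_apply, Finset.mul_sum]
  exact Finset.sum_congr rfl fun x _ => by rw [irr_mul_central hu]; ring

theorem scal_mul [Fintype G] {u v : G} (hu : ∀ g : G, Commute u g) (ψ : IrrCharacter G) :
    scal ψ (v * u) = scal ψ u * scal ψ v := by
  rw [scal, irr_mul_central hu, mul_div_assoc]
  rfl

theorem scal_one (ψ : IrrCharacter G) : scal ψ 1 = 1 := div_self (H26.irr_one_ne_zero ψ)

theorem scal_pow [Fintype G] {u : G} (hu : ∀ g : G, Commute u g) (ψ : IrrCharacter G) (n : ℕ) :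
    scal ψ (u ^ n) = scal ψ u ^ n := by
  induction n with
  | zero => rw [pow_zero, pow_zero, scal_one]
  | succ n ih => rw [pow_succ, scal_mul hu, ih, pow_succ']

theorem isIntegral_scal [Fintype G] {u : G} (hu : ∀ g : G, Commute u g) (ψ : IrrCharacter G) :
    IsIntegral ℤ (scal ψ u) :=
  IsIntegral.of_pow (orderOf_pos u) (by
    rw [← scal_pow hu, pow_orderOf_eq_one, scal_one]; exact isIntegral_one)

/-! ### The pairing of two sections -/

open scoped Classical in
theorem sum_irr_mul_conj [Fintype G] (x y : G) :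
    ∑ χ : IrrCharacter G, (χ : G → ℂ) x * conj ((χ : G → ℂ) y) =
      ((Finset.univ.filter fun g : G => g * x * g⁻¹ = y).card : ℂ) := by
  rw [H26.column_orthogonality, H26.classIndicator]
  by_cases h : IsConj x y
  · obtain ⟨g₀, hg₀⟩ := isConj_iff.1 h
    rw [if_pos h, mul_one, Nat.card_eq_fintype_card, Fintype.card_subtype]
    congr 1
    refine Finset.card_bij (fun c _ => c * g₀) (fun c hc => ?_)
      (fun a _ b _ e => mul_right_cancel e) fun g hg => ⟨g * g₀⁻¹, ?_, inv_mul_cancel_right g g₀⟩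
    · rw [Finset.mem_filter, Subgroup.mem_centralizer_singleton_iff] at hc
      rw [Finset.mem_filter]
      refine ⟨Finset.mem_univ _, ?_⟩
      rw [show c * g₀ * x * (c * g₀)⁻¹ = c * (g₀ * x * g₀⁻¹) * c⁻¹ by group, hg₀, hc.2,
        mul_inv_cancel_right]
    · rw [Finset.mem_filter] at hg
      rw [Finset.mem_filter, Subgroup.mem_centralizer_singleton_iff]
      refine ⟨Finset.mem_univ _, ?_⟩
      calc g * g₀⁻¹ * y = g * x * g⁻¹ * (g * g₀⁻¹) := by rw [← hg₀]; group
        _ = y * (g * g₀⁻¹) := by rw [hg.2]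
  · rw [if_neg h, mul_zero, Finset.card_eq_zero.2, Nat.cast_zero]
    exact Finset.filter_eq_empty_iff.2 fun g _ e => h (isConj_iff.2 ⟨g, e⟩)

theorem pp_mul [Fintype G] {u h : G} (hc : Commute u h) (hu : ∃ j, orderOf u = p ^ j)
    (hh : ¬ p ∣ orderOf h) : H22.pp p (h * u) = u := by
  obtain ⟨j, hj⟩ := hu
  rw [← hc.eq]
  exact H22.pp_eq (H40.isPPart_mul hc hj hh)

theorem pp_regular [Fintype G] {r : G} (hr : ¬ p ∣ orderOf r) : H22.pp p r = 1 :=
  H22.pp_eq (H40.isPPart_of_regular hr)

section Pair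

variable [Fintype G] (hM : IsPModular p M) {K : Type*} [Group K] [Fintype K]
  {κ : K →* G} (hκ : Function.Injective κ)
  {u : G} (hu : ∃ j, orderOf u = p ^ j) (hrange : κ.range = Subgroup.centralizer ({u} : Set G))
  {i : MonoidAlgebra (localRing M) G} (hi : i * i = i) (his : Supp κ.range i)

include hM hκ hu hrange hi his

omit hM hu hi in
theorem sum_supp (F : G → ℂ) :
    ∑ x : G, (i.coeff x : ℂ) * F x = ∑ c : K, ((pull κ i).coeff c : ℂ) * F (κ c) := by
  refine (Finset.sum_bij_ne_zero (fun c _ _ => κ c) (fun _ _ _ => Finset.mem_univ _)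
    (fun _ _ _ _ _ _ h => hκ h) (fun y _ hy => ?_) fun c _ _ => by rw [coeff_pull]).symm
  obtain ⟨c, rfl⟩ : y ∈ κ.range := his y fun h => hy (by rw [h]; simp)
  exact ⟨c, Finset.mem_univ _, by rwa [coeff_pull], rfl⟩

/-- Only regular elements of the centraliser contribute. -/
theorem sum_supp_eq_zero (F : G → ℂ)
    (hF : ∀ c ∈ Subgroup.centralizer ({u} : Set G), ∀ h, F (c * h * c⁻¹) = F h)
    (h0 : ∀ h ∈ Subgroup.centralizer ({u} : Set G), ¬ p ∣ orderOf h → F h = 0) :
    ∑ x : G, (i.coeff x : ℂ) * F x = 0 := by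
  rw [sum_supp hκ hrange his]
  refine sum_mul_eq_zero_of_singular hM (pull_idem hκ his hi) (fun h c => ?_) fun h hh => ?_
  · rw [map_mul, map_mul, map_inv]
    exact hF _ (hrange ▸ ⟨c, rfl⟩) _
  · refine h0 _ (hrange ▸ ⟨h, rfl⟩) ?_
    rwa [orderOf_injective κ hκ]

/-- Sections are orthogonal to the regular elements. -/
theorem sum_trc_mul_regular (hu1 : u ≠ 1) {r : G} (hr : ¬ p ∣ orderOf r) :
    ∑ χ : IrrCharacter G, trc (χ : G → ℂ) u i * conj ((χ : G → ℂ) r) = 0 := by
  classical
  simp only [H22.trc_apply, Finset.sum_mul]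
  rw [Finset.sum_comm]
  simp only [mul_assoc (_ : ℂ) _ (conj _), ← Finset.mul_sum, sum_irr_mul_conj]
  refine sum_supp_eq_zero hM hκ hu hrange hi his _ (fun c hc h => ?_) fun h hh hreg => ?_
  · congr 1
    refine Finset.card_bij (fun g _ => g * c) (fun g hg => ?_)
      (fun a _ b _ e => mul_right_cancel e) fun g hg => ⟨g * c⁻¹, ?_, inv_mul_cancel_right g c⟩
    · rw [Finset.mem_filter] at hg ⊢
      refine ⟨Finset.mem_univ _, Eq.trans ?_ hg.2⟩
      have := Subgroup.mem_centralizer_singleton_iff.1 hc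
      rw [show g * (c * h * c⁻¹ * u) * g⁻¹ = g * (c * h * (c⁻¹ * u)) * g⁻¹ by group,
        show c⁻¹ * u = u * c⁻¹ by
          rw [eq_mul_inv_iff_mul_eq, mul_assoc, ← this, inv_mul_cancel_left]]
      group
    · rw [Finset.mem_filter] at hg ⊢
      refine ⟨Finset.mem_univ _, Eq.trans ?_ hg.2⟩
      have := Subgroup.mem_centralizer_singleton_iff.1 hc
      rw [show g * c⁻¹ * (c * h * c⁻¹ * u) * (g * c⁻¹)⁻¹ = g * (h * (c⁻¹ * (u * c))) * g⁻¹ by
        group, ← this, inv_mul_cancel_left]
  · rw [Finset.card_eq_zero.2, Nat.cast_zero]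
    refine Finset.filter_eq_empty_iff.2 fun g _ e => hu1 ?_
    have h1 := congrArg (H22.pp p) e
    rw [H22.pp_conj, pp_mul (Subgroup.mem_centralizer_singleton_iff.1 hh).symm hu hreg,
      pp_regular hr, conj_eq_one_iff] at h1
    exact h1

variable {v : G} (hv : ∃ j, orderOf v = p ^ j) {i' : MonoidAlgebra (localRing M) G}
  (hi' : i' * i' = i') (his' : Supp (Subgroup.centralizer ({v} : Set G)) i')

include hv hi' his'

omit hκ hrange his hi in
theorem reg_card [DecidableEq G] {h h' : G} (hh : Commute u h) (hh' : Commute v h')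
    (hr : ¬ p ∣ orderOf h) (hr' : ¬ p ∣ orderOf h') (g : G) :
    g * (h * u) * g⁻¹ = h' * v ↔ g * u * g⁻¹ = v ∧ g * h * g⁻¹ = h' := by
  refine ⟨fun e => ?_, fun ⟨e1, e2⟩ => by rw [← e1, ← e2]; group⟩
  have h1 := congrArg (H22.pp p) e
  rw [H22.pp_conj, pp_mul hh hu hr, pp_mul hh' hv hr'] at h1
  refine ⟨h1, ?_⟩
  rw [← mul_right_cancel_iff (a := v), ← e]
  conv_lhs => rw [← h1]
  group

/-- The pairing of two sections. -/
theorem sum_trc_mul_conj_trc :
    (¬ IsConj u v → ∑ χ : IrrCharacter G, trc (χ : G → ℂ) u i *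
      conj (trc (χ : G → ℂ) v i') = 0) ∧
    ∀ g₀ : G, g₀ * u * g₀⁻¹ = v →
      ∑ χ : IrrCharacter G, trc (χ : G → ℂ) u i * conj (trc (χ : G → ℂ) v i') =
        ∑ ψ : IrrCharacter K, trc (ψ : K → ℂ) 1 (pull κ i) *
          conj (trc (ψ : K → ℂ) 1 (pull κ (cj g₀⁻¹ i'))) := by
  classical
  set N : G → G → ℂ := fun h h' =>
    ((Finset.univ.filter fun g : G => g * (h * u) * g⁻¹ = h' * v).card : ℂ) with hN
  set N' : G → G → ℂ := fun h h' =>
    ((Finset.univ.filter fun g : G => g * u * g⁻¹ = v ∧ g * h * g⁻¹ = h').card : ℂ) with hN'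
  have hL : ∑ χ : IrrCharacter G, trc (χ : G → ℂ) u i * conj (trc (χ : G → ℂ) v i') =
      ∑ h : G, (i.coeff h : ℂ) * ∑ h' : G, conj (i'.coeff h' : ℂ) * N h h' := by
    simp only [H22.trc_apply, map_sum, map_mul, Finset.sum_mul, Finset.mul_sum]
    rw [Finset.sum_comm]
    conv_rhs => rw [Finset.sum_comm]
    refine Finset.sum_congr rfl fun h' _ => ?_
    rw [Finset.sum_comm]
    refine Finset.sum_congr rfl fun h _ => ?_
    rw [hN]
    dsimp only
    rw [← sum_irr_mul_conj, Finset.mul_sum, Finset.mul_sum]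
    exact Finset.sum_congr rfl fun χ _ => by ring
  -- replace `N` by `N'`
  have hcard : ∀ (P₁ P₂ : G → Prop) [DecidablePred P₁] [DecidablePred P₂] (c : G),
      (∀ g, P₁ (g * c) ↔ P₂ g) →
      ((Finset.univ.filter fun g : G => P₁ g).card : ℂ) =
        ((Finset.univ.filter fun g : G => P₂ g).card : ℂ) := by
    intro P₁ P₂ _ _ c hP
    congr 1
    refine (Finset.card_bij (fun g _ => g * c) (fun g hg => ?_)
      (fun a _ b _ e => mul_right_cancel e) fun g hg => ⟨g * c⁻¹, ?_, inv_mul_cancel_right g c⟩).symm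
    · rw [Finset.mem_filter] at hg ⊢; exact ⟨Finset.mem_univ _, (hP g).2 hg.2⟩
    · rw [Finset.mem_filter] at hg ⊢
      exact ⟨Finset.mem_univ _, (hP _).1 (by rw [inv_mul_cancel_right]; exact hg.2)⟩
  have hcu : ∀ c ∈ Subgroup.centralizer ({u} : Set G), c * u * c⁻¹ = u := fun c hc => by
    rw [Subgroup.mem_centralizer_singleton_iff.1 hc, mul_inv_cancel_right]
  have hconjN : ∀ c ∈ Subgroup.centralizer ({u} : Set G), ∀ h h', N (c * h * c⁻¹) h' = N h h' ∧
      N' (c * h * c⁻¹) h' = N' h h' := by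
    intro c hc h h'
    refine ⟨hcard _ _ c⁻¹ fun g => ?_, hcard _ _ c⁻¹ fun g => ?_⟩
    · rw [show g * c⁻¹ * (c * h * c⁻¹ * u) * (g * c⁻¹)⁻¹ = g * (h * (c⁻¹ * u * c)) * g⁻¹ by group,
        show c⁻¹ * u * c = u by
          conv_lhs => rw [← hcu c hc]
          group]
    · rw [show g * c⁻¹ * (c * h * c⁻¹) * (g * c⁻¹)⁻¹ = g * h * g⁻¹ by group,
        show g * c⁻¹ * u * (g * c⁻¹)⁻¹ = g * (c⁻¹ * u * c) * g⁻¹ by group,
        show c⁻¹ * u * c = u by
          conv_lhs => rw [← hcu c hc]
          group]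
  have hcv : ∀ c ∈ Subgroup.centralizer ({v} : Set G), c * v * c⁻¹ = v := fun c hc => by
    rw [Subgroup.mem_centralizer_singleton_iff.1 hc, mul_inv_cancel_right]
  have hinner : ∀ h ∈ Subgroup.centralizer ({u} : Set G), ¬ p ∣ orderOf h →
      ∑ h' : G, conj (i'.coeff h' : ℂ) * (N h h' - N' h h') = 0 := by
    intro h hh hr
    have hh' := (Subgroup.mem_centralizer_singleton_iff.1 hh).symm
    have key := sum_supp_eq_zero hM (Subgroup.centralizer ({v} : Set G)).subtype_injective hv
      (Subgroup.centralizer ({v} : Set G)).range_subtype hi'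
      (by rw [Subgroup.range_subtype]; exact his') (fun h' => N h h' - N' h h') (fun c hc h' => ?_)
      fun h' hc' hr' => ?_
    · have := congrArg conj key
      rw [map_sum, map_zero] at this
      refine Eq.trans (Finset.sum_congr rfl fun h' _ => ?_) this
      rw [map_mul, map_sub]
      simp [hN, hN']
    · congr 1
      · simp only [hN]
        congr 1
        refine Finset.card_bij (fun g _ => c⁻¹ * g) (fun g hg => ?_)
          (fun a _ b _ e => mul_left_cancel e) fun g hg => ⟨c * g, ?_, inv_mul_cancel_left c g⟩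
        · rw [Finset.mem_filter] at hg ⊢
          refine ⟨Finset.mem_univ _, ?_⟩
          rw [show c⁻¹ * g * (h * u) * (c⁻¹ * g)⁻¹ = c⁻¹ * (g * (h * u) * g⁻¹) * c by group, hg.2,
            show c⁻¹ * (c * h' * c⁻¹ * v) * c = h' * (c⁻¹ * (c * v * c⁻¹)⁻¹⁻¹ * c) by
              rw [inv_inv, hcv c hc]; group]
          group
        · rw [Finset.mem_filter] at hg ⊢
          refine ⟨Finset.mem_univ _, ?_⟩
          rw [show c * g * (h * u) * (c * g)⁻¹ = c * (g * (h * u) * g⁻¹) * c⁻¹ by group, hg.2,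
            show c * (h' * v) * c⁻¹ = c * h' * c⁻¹ * (c * v * c⁻¹) by group, hcv c hc]
      · simp only [hN']
        congr 1
        refine Finset.card_bij (fun g _ => c⁻¹ * g) (fun g hg => ?_)
          (fun a _ b _ e => mul_left_cancel e) fun g hg => ⟨c * g, ?_, inv_mul_cancel_left c g⟩
        · rw [Finset.mem_filter] at hg ⊢
          refine ⟨Finset.mem_univ _, ?_, ?_⟩
          · rw [show c⁻¹ * g * u * (c⁻¹ * g)⁻¹ = c⁻¹ * (g * u * g⁻¹) * c by group, hg.2.1]
            conv_lhs => rw [← hcv c hc]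
            group
          · rw [show c⁻¹ * g * h * (c⁻¹ * g)⁻¹ = c⁻¹ * (g * h * g⁻¹) * c by group, hg.2.2]
            group
        · rw [Finset.mem_filter] at hg ⊢
          refine ⟨Finset.mem_univ _, ?_, ?_⟩
          · rw [show c * g * u * (c * g)⁻¹ = c * (g * u * g⁻¹) * c⁻¹ by group, hg.2.1, hcv c hc]
          · rw [show c * g * h * (c * g)⁻¹ = c * (g * h * g⁻¹) * c⁻¹ by group, hg.2.2]
    · rw [sub_eq_zero]
      simp only [hN, hN']
      congr 2
      ext g
      simp only [Finset.mem_filter, Finset.mem_univ, true_and]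
      exact reg_card hM hu hv hi' his' hh'
        (Subgroup.mem_centralizer_singleton_iff.1 hc').symm hr hr' g
  have hL' : ∑ χ : IrrCharacter G, trc (χ : G → ℂ) u i * conj (trc (χ : G → ℂ) v i') =
      ∑ h : G, (i.coeff h : ℂ) * ∑ h' : G, conj (i'.coeff h' : ℂ) * N' h h' := by
    rw [hL, ← sub_eq_zero, ← Finset.sum_sub_distrib]
    simp only [← mul_sub, ← Finset.sum_sub_distrib]
    refine sum_supp_eq_zero hM hκ hu hrange hi his _ (fun c hc h => ?_) hinner
    exact Finset.sum_congr rfl fun h' _ => by rw [(hconjN c hc h h').1, (hconjN c hc h h').2]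
  refine ⟨fun hn => ?_, fun g₀ hg₀ => ?_⟩
  · rw [hL']
    refine Finset.sum_eq_zero fun h _ => ?_
    rw [Finset.sum_eq_zero fun h' _ => ?_, mul_zero]
    rw [hN']
    dsimp only
    rw [Finset.card_eq_zero.2, Nat.cast_zero, mul_zero]
    exact Finset.filter_eq_empty_iff.2 fun g _ e => hn (isConj_iff.2 ⟨g, e.1⟩)
  · rw [hL', sum_supp hκ hrange his]
    have hR : ∀ c : K, ∑ h' : G, conj (i'.coeff h' : ℂ) * N' (κ c) h' =
        ∑ d : K, conj (((pull κ (cj g₀⁻¹ i')).coeff (d * c * d⁻¹) : localRing M) : ℂ) := by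
      intro c
      simp only [hN', Finset.card_filter, Nat.cast_sum, Finset.mul_sum]
      rw [Finset.sum_comm]
      symm
      refine Finset.sum_bij_ne_zero (fun d _ _ => g₀ * κ d) (fun _ _ _ => Finset.mem_univ _)
        (fun _ _ _ _ _ _ e => hκ (mul_left_cancel e)) (fun g _ hg => ?_) fun d _ _ => ?_
      · have hgu : g * u * g⁻¹ = v := by
          by_contra hne
          exact hg (Finset.sum_eq_zero fun h' _ => by simp [hne])
        obtain ⟨d, hd⟩ : g₀⁻¹ * g ∈ κ.range := by
          rw [hrange, Subgroup.mem_centralizer_singleton_iff]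
          calc g₀⁻¹ * g * u = g₀⁻¹ * (g * u * g⁻¹) * g := by group
            _ = g₀⁻¹ * (g₀ * u * g₀⁻¹) * g := by rw [hgu, hg₀]
            _ = u * (g₀⁻¹ * g) := by group
        refine ⟨d, Finset.mem_univ _, ?_, by rw [hd, mul_inv_cancel_left]⟩
        intro h0
        refine hg ?_
        rw [Finset.sum_eq_single (g * κ c * g⁻¹) (fun h' _ hh' => by simp [Ne.symm hh'])
          (fun h => absurd (Finset.mem_univ _) h)]
        rw [coeff_pull, map_mul κ, map_mul κ, map_inv κ, hd, H22.coeff_cj, inv_inv] at h0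
        rw [show g₀ * (g₀⁻¹ * g * κ c * (g₀⁻¹ * g)⁻¹) * g₀⁻¹ = g * κ c * g⁻¹ by group] at h0
        rw [h0, zero_mul]
      · have hd : κ d * u * (κ d)⁻¹ = u := hcu _ (hrange ▸ ⟨d, rfl⟩)
        rw [Finset.sum_eq_single (g₀ * κ d * κ c * (g₀ * κ d)⁻¹)
          (fun h' _ hh' => by rw [if_neg fun e => hh' e.2.symm, Nat.cast_zero, mul_zero])
          (fun h => absurd (Finset.mem_univ _) h),
          coeff_pull, map_mul κ, map_mul κ, map_inv κ, H22.coeff_cj, inv_inv, if_pos ⟨by
            rw [show g₀ * κ d * u * (g₀ * κ d)⁻¹ = g₀ * (κ d * u * (κ d)⁻¹) * g₀⁻¹ by group, hd,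
              hg₀], rfl⟩, Nat.cast_one, mul_one]
        congr 3
        group
    simp only [hR]
    simp only [trc_one_apply, map_sum, map_mul, Finset.mul_sum, Finset.sum_mul]
    symm
    rw [Finset.sum_comm]
    refine (Finset.sum_congr rfl fun d _ => Finset.sum_comm).trans ?_
    rw [Finset.sum_comm]
    refine Finset.sum_congr rfl fun x _ => ?_
    have e : ∀ d : K, ∑ ψ : IrrCharacter K, ((pull κ i).coeff x : ℂ) * (ψ : K → ℂ) x *
        (conj (((pull κ (cj g₀⁻¹ i')).coeff d : localRing M) : ℂ) * conj ((ψ : K → ℂ) d)) =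
        ∑ z : K, if z * x * z⁻¹ = d then ((pull κ i).coeff x : ℂ) *
          conj (((pull κ (cj g₀⁻¹ i')).coeff d : localRing M) : ℂ) else 0 := by
      intro d
      rw [Finset.sum_ite, Finset.sum_const_zero, add_zero, Finset.sum_const, nsmul_eq_mul,
        ← sum_irr_mul_conj, Finset.sum_mul]
      exact Finset.sum_congr rfl fun ψ _ => by ring
    rw [Finset.sum_congr rfl fun d _ => e d, Finset.sum_comm]
    exact Finset.sum_congr rfl fun z _ => by rw [Finset.sum_ite_eq, if_pos (Finset.mem_univ _)]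

end Pair

end Cfsg.Agent.H56.FD
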