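import Cfsg.Agent.H56.DihOrder
import Cfsg.Agent.H22.AbelianSylow
import Cfsg.Agent.H26.CharReal

/-!
# The principal 2-block for a Klein four Sylow 2-subgroup
-/

set_option autoImplicit false

open scoped ComplexConjugate

namespace Cfsg.Agent.H56

open Subgroup

variable {G : Type*} [Group G]

open Matrix in
/-- A real irreducible character of odd degree has Frobenius–Schur indicator one. -/
theorem fsIndicator_eq_one_of_odd [Fintype G] (χ : Cfsg.IrrCharacter G)
    (hodd : Odd (Cfsg.charDegree χ.1)) (hreal : H26.conjIrr χ = χ) :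
    H26.fsIndicator χ.1 = 1 := by
  classical
  refine ((H26.fsIndicator_cases χ).2 hreal).resolve_right fun hν => ?_
  obtain ⟨m, ρ, hρ, e⟩ := χ.2
  let A := H26.matHom ρ
  have hA : ∀ g, Matrix.trace (A g) = χ.1 g := fun g => by
    rw [H26.trace_matHom, ← e]
    rfl
  obtain ⟨⟨M, hM0, hM⟩, hsym⟩ := H26.invariant_forms A χ hA ((H26.conjIrr_eq_self_iff χ).1 hreal)
  have hMt := hsym M hM
  rw [hν, neg_one_smul] at hMt
  have hmul : ∀ g v, A g *ᵥ v = ρ g v := fun g v => by
    show LinearMap.toMatrix' (ρ g) *ᵥ v = ρ g v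
    rw [← Matrix.toLin'_apply, Matrix.toLin'_toMatrix']
  have hker : LinearMap.ker M.mulVecLin = ⊥ := by
    refine (((H26.isIrreducible_iff_forall ρ).1 hρ).2 (LinearMap.ker M.mulVecLin)
      fun g v hv => ?_).resolve_right fun htop => hM0 ?_
    · rw [LinearMap.mem_ker, Matrix.mulVecLin_apply] at hv ⊢
      rw [← hmul]
      have h := congrArg (fun N : Matrix (Fin m) (Fin m) ℂ => N *ᵥ v) (hM g)
      simp only [← Matrix.mulVec_mulVec, hv] at h
      have hu : IsUnit (A g).transpose :=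
        (Matrix.isUnit_transpose _).2 ((Group.isUnit g).map A)
      exact Matrix.mulVec_injective_of_isUnit hu (h.trans (Matrix.mulVec_zero _).symm)
    · refine Matrix.toLin'.injective (LinearMap.ext fun v => ?_)
      have : v ∈ LinearMap.ker M.mulVecLin := htop ▸ Submodule.mem_top
      simpa using this
  have hdet : M.det ≠ 0 := by
    have h := Matrix.mulVec_injective_iff_isUnit.1
      (LinearMap.ker_eq_bot.1 hker : Function.Injective M.mulVec)
    exact ((Matrix.isUnit_iff_isUnit_det M).1 h).ne_zero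
  have hm : Odd m := by
    have h1 : Cfsg.charDegree χ.1 = m := by
      have h2 : χ.1 1 = (m : ℂ) := by rw [← e, ρ.char_one, Module.finrank_fin_fun]
      rw [Cfsg.charDegree, h2, Complex.natCast_re, Nat.floor_natCast]
    rwa [h1] at hodd
  have h := congrArg Matrix.det hMt
  rw [Matrix.det_transpose, Matrix.det_neg, Fintype.card_fin, hm.neg_one_pow] at h
  exact hdet (by linear_combination (1 / 2 : ℂ) * h)

/-- A group of order `4 g₀` without normal 2-complement has a four-group as Sylow 2-subgroup and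
one class of involutions. -/
theorem exists_klein_data [Finite G] {g₀ : ℕ} (hg₀ : Odd g₀) (hG : Nat.card G = 4 * g₀)
    (hnc : ¬ ∃ N : Subgroup G, N.Normal ∧ Nat.card N = g₀) (P : Sylow 2 G) (J : G)
    (hJ : J ∈ (P : Subgroup G)) (hJ2 : orderOf J = 2) :
    ∃ τ, DihSylow P J τ 2 ∧ centInv J 2 = J ∧ ∀ i : ℕ, IsConj (centInv J 2) (J ^ i * τ) := by
  classical
  haveI : Fact (Nat.Prime 2) := ⟨Nat.prime_two⟩
  have hcI : centInv J 2 = J := by simp [centInv]
  have h4 : Nat.card (P : Subgroup G) = 4 := by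
    rw [P.card_eq_multiplicity, hG, Nat.factorization_mul (by norm_num) (by rintro rfl; simp at hg₀),
      Finsupp.add_apply, Nat.factorization_eq_zero_of_not_dvd (n := g₀) (by
        obtain ⟨c, hc⟩ := hg₀; omega), add_zero, show (4 : ℕ) = 2 ^ 2 by norm_num,
      Nat.prime_two.factorization_pow, Finsupp.single_eq_same]
  have hnot : ¬ Cfsg.HasNormalPComplement 2 G := by
    rintro ⟨Q, N, hN, hc⟩
    refine hnc ⟨N, hN, ?_⟩
    have h := hc.card_mul
    rw [show Nat.card (Q : Subgroup G) = 4 by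
      rw [Q.card_eq_multiplicity, ← P.card_eq_multiplicity, h4], hG] at h
    omega
  have hncyc : ¬ IsCyclic (P : Subgroup G) := fun h => hnot
    (H22.burnside_normal_complement P (h.normalizer_le_centralizer
      ((Nat.minFac_eq_two_iff _).2 (hG ▸ by omega))))
  have hcomm : ∀ a ∈ (P : Subgroup G), ∀ b ∈ (P : Subgroup G), a * b = b * a := fun a ha b hb =>
    congrArg Subtype.val ((IsPGroup.isMulCommutative_of_card_eq_prime_sq (p := 2)
      (by rw [h4]; norm_num)).is_comm.comm (⟨a, ha⟩ : (P : Subgroup G)) ⟨b, hb⟩)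
  have hsq : ∀ p ∈ (P : Subgroup G), p * p = 1 := by
    intro p hp
    have hd : orderOf p ∣ 2 ^ 2 := by
      rw [show 2 ^ 2 = Nat.card (P : Subgroup G) from by rw [h4]; norm_num]
      exact Subgroup.orderOf_dvd_natCard _ hp
    obtain ⟨k, hk, hko⟩ := (Nat.dvd_prime_pow Nat.prime_two).1 hd
    rw [← pow_two, ← orderOf_dvd_iff_pow_eq_one, hko]
    interval_cases k
    · norm_num
    · norm_num
    · exfalso
      refine hncyc (isCyclic_of_orderOf_eq_card ⟨p, hp⟩ ?_)
      rw [Subgroup.orderOf_mk, hko, h4]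
      norm_num
  have hne : ¬ (P : Subgroup G) ≤ zpowers J := fun h => by
    have := Subgroup.card_le_of_le h
    rw [h4, Nat.card_zpowers, hJ2] at this
    omega
  obtain ⟨τ, hτ, hτJ⟩ := SetLike.not_le_iff_exists.1 hne
  have hτ1 : τ ≠ 1 := fun h => hτJ (h ▸ one_mem _)
  have hJτ : J * τ = τ * J := hcomm J hJ τ hτ
  have hJ1 : J ≠ 1 := H28.ne_one_of_orderOf_two hJ2
  have hJτ1 : J * τ ≠ 1 := fun h => hτJ (by
    rw [eq_inv_of_mul_eq_one_right h]; exact inv_mem (mem_zpowers J))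
  let Z : Finset G := {1, J, τ, J * τ}
  have hZc : Z.card = 4 := by
    have a1 : J ≠ τ := fun h => hτJ (h ▸ mem_zpowers J)
    have a2 : J ≠ J * τ := fun h => hτ1 (mul_eq_left.1 h.symm)
    have a3 : τ ≠ J * τ := fun h => hJ1 (mul_eq_right.1 h.symm)
    rw [Finset.card_insert_of_notMem, Finset.card_insert_of_notMem, Finset.card_insert_of_notMem,
      Finset.card_singleton]
    · simpa using a3
    · simpa using ⟨a1, hτ1⟩
    · simpa using ⟨hJ1.symm, hτ1.symm, hJτ1.symm⟩
  have hall : ∀ p ∈ (P : Subgroup G), p ∈ Z := by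
    haveI := Fintype.ofFinite (P : Subgroup G)
    have hsub : Z ⊆ (Set.toFinite ((P : Subgroup G) : Set G)).toFinset := by
      intro z hz
      rw [Set.Finite.mem_toFinset, SetLike.mem_coe]
      simp only [Z, Finset.mem_insert, Finset.mem_singleton] at hz
      rcases hz with rfl | rfl | rfl | rfl
      · exact one_mem _
      · exact hJ
      · exact hτ
      · exact mul_mem hJ hτ
    have heq := Finset.eq_of_subset_of_card_le hsub (by
      rw [hZc, ← Set.ncard_eq_toFinset_card, ← Nat.card_coe_set_eq]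
      exact h4.le)
    intro p hp
    rw [heq, Set.Finite.mem_toFinset]
    exact hp
  have D : DihSylow P J τ 2 :=
    { two_le := le_rfl
      memσ := hJ
      memτ := hτ
      ordσ := by rw [hJ2]; norm_num
      ordτ := H28.orderOf_two_of_mul_self (hsq τ hτ) hτ1
      inv := by rw [← hJτ, mul_inv_cancel_right, H28.inv_eq_self_of_orderOf_two hJ2]
      not_mem := hτJ
      forms := fun p hp => by
        have h := hall p hp
        simp only [Z, Finset.mem_insert, Finset.mem_singleton] at h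
        rcases h with rfl | rfl | rfl | rfl
        · exact ⟨0, Or.inl (pow_zero J).symm⟩
        · exact ⟨1, Or.inl (pow_one p).symm⟩
        · exact ⟨0, Or.inr (by rw [pow_zero, one_mul])⟩
        · exact ⟨1, Or.inr (by rw [pow_one])⟩ }
  refine ⟨τ, D, hcI, ?_⟩
  -- an element of odd order of the normalizer moves all three involutions
  obtain ⟨g, hgN, hgC⟩ := SetLike.not_le_iff_exists.1
    (fun h => hnot (H22.burnside_normal_complement P h) :
      ¬ Subgroup.normalizer ((P : Subgroup G) : Set G) ≤ centralizer ((P : Subgroup G) : Set G))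
  obtain ⟨x, y, hxy, hcm, hx2, hyo⟩ := H40.exists_isPPart 2 g
  obtain ⟨kx, hkx⟩ := H40.exists_pow_eq_of_isPPart
    (⟨y, hxy, hcm, hx2, hyo⟩ : Cfsg.IsPPart 2 g x)
  have hxN : x ∈ Subgroup.normalizer ((P : Subgroup G) : Set G) := hkx ▸ pow_mem hgN kx
  have hxC : x ∈ centralizer ((P : Subgroup G) : Set G) := by
    obtain ⟨k, hk⟩ := hx2
    have hp : IsPGroup 2 (zpowers x) := IsPGroup.of_card (n := k) (by rw [Nat.card_zpowers, hk])
    have hle : zpowers x ≤ Subgroup.normalizer ((P : Subgroup G) : Set G) := zpowers_le.2 hxN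
    have hsup := hp.to_sup_of_normal_right' P.isPGroup' hle
    have hmem : x ∈ (P : Subgroup G) := by
      have h := P.is_maximal' hsup le_sup_right
      rw [← h]
      exact mem_sup_left (mem_zpowers x)
    exact mem_centralizer_iff.2 fun p hp => hcomm p hp x hmem
  have hyN : y ∈ Subgroup.normalizer ((P : Subgroup G) : Set G) :=
    (mul_mem_cancel_left hxN).1 (hxy ▸ hgN)
  have hyC : y ∉ centralizer ((P : Subgroup G) : Set G) := fun h => hgC (hxy ▸ mul_mem hxC h)
  have hconjP : ∀ p ∈ (P : Subgroup G), y * p * y⁻¹ ∈ (P : Subgroup G) := fun p hp =>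
    (Subgroup.mem_normalizer_iff.1 hyN p).1 hp
  have hodd : Odd (orderOf y) := Nat.odd_iff.2 (Nat.two_dvd_ne_zero.1 hyo)
  have hfix : ∀ a ∈ (P : Subgroup G), a ≠ 1 → y * a * y⁻¹ ≠ a := by
    intro a ha ha1 hfix
    obtain ⟨b, hb, hb1, hba⟩ : ∃ b ∈ (P : Subgroup G), b ≠ 1 ∧ b ≠ a := by
      by_cases h : a = J
      · exact ⟨τ, hτ, hτ1, fun e => hτJ ((e.trans h) ▸ mem_zpowers J)⟩
      · exact ⟨J, hJ, hJ1, Ne.symm h⟩
    have hPab : ∀ p ∈ (P : Subgroup G), p = 1 ∨ p = a ∨ p = b ∨ p = a * b := by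
      intro p hp
      have hZ' : ({1, a, b, a * b} : Finset G) = Z := by
        refine Finset.eq_of_subset_of_card_le (fun z hz => ?_) ?_
        · simp only [Finset.mem_insert, Finset.mem_singleton] at hz
          rcases hz with rfl | rfl | rfl | rfl
          · exact hall _ (one_mem _)
          · exact hall _ ha
          · exact hall _ hb
          · exact hall _ (mul_mem ha hb)
        · rw [hZc, Finset.card_insert_of_notMem, Finset.card_insert_of_notMem,
            Finset.card_insert_of_notMem, Finset.card_singleton]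
          · simpa using fun h => ha1 (mul_eq_right.1 (h : b = a * b).symm)
          · simpa using ⟨hba.symm, hb1⟩
          · simpa using ⟨ha1.symm, hb1.symm, fun h => hba (by
              have e := eq_inv_of_mul_eq_one_right (h : (1 : G) = a * b).symm
              rw [inv_eq_of_mul_eq_one_right (hsq a ha)] at e
              exact e)⟩
      have := hall p hp
      rw [← hZ'] at this
      simpa using this
    have hb2 : y * (y * b * y⁻¹) * y⁻¹ = b := by
      rcases hPab _ (hconjP b hb) with h | h | h | h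
      · exact absurd (by rw [← mul_inv_cancel y] at h; simpa using h) hb1
      · refine absurd ?_ hba
        have e : y * b * y⁻¹ = y * a * y⁻¹ := h.trans hfix.symm
        exact mul_left_cancel (mul_right_cancel e)
      · rw [h, h]
      · rw [h]
        calc y * (a * b) * y⁻¹ = (y * a * y⁻¹) * (y * b * y⁻¹) := by group
          _ = a * (a * b) := by rw [hfix, h]
          _ = b := by rw [← mul_assoc, hsq a ha, one_mul]
    have hyb : Commute y b := by
      obtain ⟨k, hk⟩ := hodd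
      have h2 : Commute (y ^ 2) b := by
        show y ^ 2 * b = b * y ^ 2
        calc y ^ 2 * b = y * (y * b * y⁻¹) * y⁻¹ * (y * y) := by rw [pow_two]; group
          _ = b * y ^ 2 := by rw [hb2, pow_two]
      have := h2.pow_left (k + 1)
      rwa [← pow_mul, show 2 * (k + 1) = orderOf y + 1 by omega, pow_succ, pow_orderOf_eq_one,
        one_mul] at this
    have hya : Commute y a := mul_inv_eq_iff_eq_mul.1 hfix
    refine hyC (mem_centralizer_iff.2 fun p hp => ?_)
    rcases hPab p hp with rfl | rfl | rfl | rfl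
    · simp
    · exact hya.eq.symm
    · exact hyb.eq.symm
    · exact (hya.mul_right hyb).eq.symm
  have hreach : ∀ p ∈ (P : Subgroup G), p ≠ 1 → IsConj J p := by
    intro p hp hp1
    have h1 := hconjP J hJ
    have h1ne : y * J * y⁻¹ ≠ 1 := fun h => hJ1 (by rw [← mul_inv_cancel y] at h; simpa using h)
    have h12 := hfix J hJ hJ1
    have h2 := hconjP _ h1
    have h2ne : y * (y * J * y⁻¹) * y⁻¹ ≠ 1 := fun h => h1ne (by
      rw [← mul_inv_cancel y] at h; simpa using h)
    have h23 := hfix _ h1 h1ne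
    have h13 : y * (y * J * y⁻¹) * y⁻¹ ≠ J := by
      intro h
      refine h12 ?_
      have hh : Commute (y ^ 2) J := by
        show y ^ 2 * J = J * y ^ 2
        calc y ^ 2 * J = y * (y * J * y⁻¹) * y⁻¹ * (y * y) := by rw [pow_two]; group
          _ = J * y ^ 2 := by rw [h, pow_two]
      obtain ⟨k, hk⟩ := hodd
      have := hh.pow_left (k + 1)
      rw [← pow_mul, show 2 * (k + 1) = orderOf y + 1 by omega, pow_succ, pow_orderOf_eq_one,
        one_mul] at this
      rw [this.eq, mul_inv_cancel_right]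
    have hset : ({1, J, y * J * y⁻¹, y * (y * J * y⁻¹) * y⁻¹} : Finset G) = Z := by
      refine Finset.eq_of_subset_of_card_le (fun z hz => ?_) ?_
      · simp only [Finset.mem_insert, Finset.mem_singleton] at hz
        rcases hz with rfl | rfl | rfl | rfl
        · exact hall _ (one_mem _)
        · exact hall _ hJ
        · exact hall _ h1
        · exact hall _ h2
      · rw [hZc, Finset.card_insert_of_notMem, Finset.card_insert_of_notMem,
          Finset.card_insert_of_notMem, Finset.card_singleton]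
        · simp only [Finset.mem_singleton]
          exact h23.symm
        · simp only [Finset.mem_insert, Finset.mem_singleton, not_or]
          exact ⟨h12.symm, h13.symm⟩
        · simp only [Finset.mem_insert, Finset.mem_singleton, not_or]
          exact ⟨hJ1.symm, h1ne.symm, h2ne.symm⟩
    have hmem := hall p hp
    rw [← hset] at hmem
    simp only [Finset.mem_insert, Finset.mem_singleton] at hmem
    rcases hmem with h | h | h | h
    · exact absurd h hp1
    · rw [h]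
    · exact isConj_iff.2 ⟨y, h.symm⟩
    · exact (isConj_iff.2 ⟨y, rfl⟩ : IsConj J (y * J * y⁻¹)).trans (isConj_iff.2 ⟨y, h.symm⟩)
  intro i
  rw [hcI]
  exact hreach _ (mul_mem (pow_mem hJ i) hτ) fun h => D.pow_mul_tau_not_mem i (h ▸ one_mem _)

section Block

variable [Fintype G] {P : Sylow 2 G} {J τ : G} (D : DihSylow P J τ 2)
  (R : CentRetr P (centInv J 2))
include D

theorem sum_coeff_klein (M : Ideal Cfsg.AlgInt) (hM : Cfsg.IsPModular 2 M)
    (χ₁ χ₂ χ₃ : Cfsg.IrrCharacter G) (ε₁ ε₂ ε₃ : ℤ)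
    (hB : Cfsg.principalBlock M G = {χ : Cfsg.IrrCharacter G | (χ : G → ℂ) = (fun _ => 1) ∨
      χ = χ₁ ∨ χ = χ₂ ∨ χ = χ₃})
    (hdist : (χ₁ : G → ℂ) ≠ (fun _ => 1) ∧ (χ₂ : G → ℂ) ≠ (fun _ => 1) ∧
      (χ₃ : G → ℂ) ≠ (fun _ => 1) ∧ χ₁ ≠ χ₂ ∧ χ₁ ≠ χ₃ ∧ χ₂ ≠ χ₃)
    (hε : (ε₁ = 1 ∨ ε₁ = -1) ∧ (ε₂ = 1 ∨ ε₂ = -1) ∧ (ε₃ = 1 ∨ ε₃ = -1))
    (hval : (χ₁ : G → ℂ) J = ε₁ ∧ (χ₂ : G → ℂ) J = ε₂ ∧ (χ₃ : G → ℂ) J = ε₃) :
    (∀ F : Cfsg.IrrCharacter G → ℂ, ∑ χ, Cfsg.classInner (dihTheta R) χ.1 * F χ =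
      F (H26.oneIrr G) + ε₁ * F χ₁ + ε₂ * F χ₂ + ε₃ * F χ₃) ∧
    Cfsg.classInner (dihTheta R) χ₁.1 = ε₁ ∧ Cfsg.classInner (dihTheta R) χ₂.1 = ε₂ ∧
      Cfsg.classInner (dihTheta R) χ₃.1 = ε₃ ∧
    ∀ χ, χ ≠ H26.oneIrr G → χ ≠ χ₁ → χ ≠ χ₂ → χ ≠ χ₃ →
      Cfsg.classInner (dihTheta R) χ.1 = 0 := by
  classical
  obtain ⟨d1, d2, d3, d12, d13, d23⟩ := hdist
  have hcoef : ∀ (χ : Cfsg.IrrCharacter G) (δ : ℤ), χ ∈ Cfsg.principalBlock M G → χ.1 J = δ →
      Cfsg.classInner (dihTheta R) χ.1 = δ := by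
    intro χ δ hχ hv
    refine D.coeff_of_const R χ δ fun i hi0 hi k hk => ?_
    rw [D.principal_const R M hM hχ hi0 hi hk]
    have hi1 : i = 1 := by norm_num at hi; omega
    rw [hi1, pow_one, hv]
  have c0 : Cfsg.classInner (dihTheta R) (H26.oneIrr G).1 = (1 : ℤ) :=
    D.coeff_of_const R _ 1 fun i _ _ k _ => by simp [H26.oneIrr_val]
  have c1 := hcoef χ₁ ε₁ (by rw [hB]; simp) hval.1
  have c2 := hcoef χ₂ ε₂ (by rw [hB]; simp) hval.2.1
  have c3 := hcoef χ₃ ε₃ (by rw [hB]; simp) hval.2.2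
  choose c hc using D.exists_int_coeff R
  set s : Finset (Cfsg.IrrCharacter G) := {H26.oneIrr G, χ₁, χ₂, χ₃} with hs
  have hne : ∀ χ : Cfsg.IrrCharacter G, (χ : G → ℂ) ≠ (fun _ => 1) → H26.oneIrr G ≠ χ :=
    fun χ h e => h (congrArg Subtype.val e).symm
  have hsum : ∀ F : Cfsg.IrrCharacter G → ℂ,
      ∑ χ ∈ s, F χ = F (H26.oneIrr G) + F χ₁ + F χ₂ + F χ₃ := by
    intro F
    rw [hs, Finset.sum_insert (by simp [hne χ₁ d1, hne χ₂ d2, hne χ₃ d3]),
      Finset.sum_insert (by simp [d12, d13]), Finset.sum_insert (by simp [d23]),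
      Finset.sum_singleton]
    ring
  have hsq : ∑ χ ∈ s, c χ ^ 2 = 4 := by
    have h := hsum fun χ => ((c χ ^ 2 : ℤ) : ℂ)
    have e : ∀ (χ : Cfsg.IrrCharacter G) (d : ℤ), Cfsg.classInner (dihTheta R) χ.1 = d → c χ = d :=
      fun χ d hd => by exact_mod_cast (hc χ).symm.trans hd
    rw [e _ _ c0, e _ _ c1, e _ _ c2, e _ _ c3] at h
    obtain ⟨e1, e2, e3⟩ := hε
    have h' : ∑ χ ∈ s, c χ ^ 2 = 1 ^ 2 + ε₁ ^ 2 + ε₂ ^ 2 + ε₃ ^ 2 := by exact_mod_cast h
    rw [h']
    rcases e1 with rfl | rfl <;> rcases e2 with rfl | rfl <;> rcases e3 with rfl | rfl <;> norm_num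
  have hall : ∑ χ, c χ ^ 2 = 4 := by
    have h := D.norm_dihTheta R
    rw [if_pos rfl, H26.classInner_eq_sum _ _ (dihTheta_isClassFunction R)] at h
    simp only [hc, map_intCast, ← pow_two] at h
    exact_mod_cast h
  have hrest : ∀ χ, χ ∉ s → Cfsg.classInner (dihTheta R) χ.1 = 0 := by
    intro χ hχ
    have h := Finset.sum_le_sum_of_subset_of_nonneg
      (Finset.subset_univ (insert χ s)) (fun i _ _ => sq_nonneg (c i))
    rw [Finset.sum_insert hχ, hsq, hall] at h
    have : c χ = 0 := by nlinarith [sq_nonneg (c χ)]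
    rw [hc, this, Int.cast_zero]
  refine ⟨fun F => ?_, c1, c2, c3, fun χ h0 h1 h2 h3 => hrest χ (by simp [hs, h0, h1, h2, h3])⟩
  rw [← Finset.sum_subset (Finset.subset_univ s) fun χ _ hχ => by rw [hrest χ hχ, zero_mul],
    hsum, c0, c1, c2, c3, Int.cast_one, one_mul]

theorem centralizer_sylow_eq (hcI : centInv J 2 = J) :
    (centralizer ({centInv J 2, τ} : Set G) = centralizer ((P : Subgroup G) : Set G)) ∧
    (centralizer ({centInv J 2, J * τ} : Set G) = centralizer ((P : Subgroup G) : Set G)) := by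
  rw [hcI]
  constructor <;> ext g <;>
    simp only [mem_centralizer_iff, Set.mem_insert_iff, Set.mem_singleton_iff, forall_eq_or_imp,
      forall_eq, SetLike.mem_coe] <;> constructor
  · rintro ⟨hJ', hτ'⟩ p hp
    obtain ⟨i, rfl | rfl⟩ := D.forms p hp
    · exact ((show Commute J g from hJ').pow_left i).eq
    · exact (((show Commute J g from hJ').pow_left i).mul_left hτ').eq
  · exact fun h => ⟨h J D.memσ, h τ D.memτ⟩
  · rintro ⟨hJ', hJτ'⟩ p hp
    have hτ' : Commute τ g := by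
      have h1 : Commute (J⁻¹ * (J * τ)) g :=
        (show Commute J g from hJ').inv_left.mul_left hJτ'
      rwa [inv_mul_cancel_left] at h1
    obtain ⟨i, rfl | rfl⟩ := D.forms p hp
    · exact ((show Commute J g from hJ').pow_left i).eq
    · exact (((show Commute J g from hJ').pow_left i).mul_left hτ').eq
  · exact fun h => ⟨h J D.memσ, h _ (mul_mem D.memσ D.memτ)⟩

end Block

end Cfsg.Agent.H56

namespace Cfsg.Agent.H56

open Subgroup

variable {G : Type*} [Group G]

/-- The order formula for a Klein four Sylow 2-subgroup, in the form `|G| S = 8 c(J)³ / c(P)²`. -/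
theorem klein_order_eq [Fintype G] (M : Ideal Cfsg.AlgInt) (hM : Cfsg.IsPModular 2 M) {g₀ : ℕ}
    (hg₀ : Odd g₀) (hG : Nat.card G = 4 * g₀)
    (hnc : ¬ ∃ N : Subgroup G, N.Normal ∧ Nat.card N = g₀) (P : Sylow 2 G) (J : G)
    (hJ : J ∈ (P : Subgroup G)) (hJ2 : orderOf J = 2)
    (χ₁ χ₂ χ₃ : Cfsg.IrrCharacter G) (ε₁ ε₂ ε₃ : ℤ)
    (hB : Cfsg.principalBlock M G = {χ : Cfsg.IrrCharacter G | (χ : G → ℂ) = (fun _ => 1) ∨
      χ = χ₁ ∨ χ = χ₂ ∨ χ = χ₃})
    (hdist : (χ₁ : G → ℂ) ≠ (fun _ => 1) ∧ (χ₂ : G → ℂ) ≠ (fun _ => 1) ∧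
      (χ₃ : G → ℂ) ≠ (fun _ => 1) ∧ χ₁ ≠ χ₂ ∧ χ₁ ≠ χ₃ ∧ χ₂ ≠ χ₃)
    (hε : (ε₁ = 1 ∨ ε₁ = -1) ∧ (ε₂ = 1 ∨ ε₂ = -1) ∧ (ε₃ = 1 ∨ ε₃ = -1))
    (hval : (χ₁ : G → ℂ) J = ε₁ ∧ (χ₂ : G → ℂ) J = ε₂ ∧ (χ₃ : G → ℂ) J = ε₃) :
    1 + (ε₁ : ℂ) * χ₁.1 1 + ε₂ * χ₂.1 1 + ε₃ * χ₃.1 1 = 0 ∧
    (Nat.card G : ℂ) * (1 + ε₁ / χ₁.1 1 + ε₂ / χ₂.1 1 + ε₃ / χ₃.1 1) =
      8 * (Nat.card (centralizer ({J} : Set G)) : ℂ) ^ 3 /
        (Nat.card (centralizer ((P : Subgroup G) : Set G)) : ℂ) ^ 2 := by
  classical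
  obtain ⟨τ, D, hcI, hinv⟩ := exists_klein_data hg₀ hG hnc P J hJ hJ2
  obtain ⟨R⟩ := D.exists_retr
  obtain ⟨hsum, -⟩ := sum_coeff_klein D R M hM χ₁ χ₂ χ₃ ε₁ ε₂ ε₃ hB hdist hε hval
  constructor
  · have h := D.dihTheta_one R
    rw [H26.class_function_expansion _ (dihTheta_isClassFunction R)] at h
    simp only [Finset.sum_apply, Pi.smul_apply, smul_eq_mul] at h
    rw [hsum fun χ => χ.1 1, H26.oneIrr_val] at h
    exact h
  · have h := D.order_eq R hinv
    obtain ⟨ha, hb⟩ := centralizer_sylow_eq D hcI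
    rw [ha, hb, hsum fun χ => χ.1 (centInv J 2) ^ 2 / χ.1 1, H26.oneIrr_val, H26.oneIrr_val, hcI,
      hval.1, hval.2.1, hval.2.2] at h
    have hsq : ∀ {e : ℤ}, e = 1 ∨ e = -1 → (e : ℂ) ^ 2 = 1 := by
      intro e he
      rcases he with rfl | rfl <;> norm_num
    rw [hsq hε.1, hsq hε.2.1, hsq hε.2.2] at h
    simp only [mul_one_div, one_pow, div_one] at h
    rw [h]
    field_simp
    ring

/-- With signs `1, 1, -1` the first two degrees agree. -/
theorem klein_degree_eq [Fintype G] (M : Ideal Cfsg.AlgInt) (hM : Cfsg.IsPModular 2 M) {g₀ : ℕ}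
    (hg₀ : Odd g₀) (hG : Nat.card G = 4 * g₀)
    (hnc : ¬ ∃ N : Subgroup G, N.Normal ∧ Nat.card N = g₀) (P : Sylow 2 G) (J : G)
    (hJ : J ∈ (P : Subgroup G)) (hJ2 : orderOf J = 2)
    (χ₁ χ₂ χ₃ : Cfsg.IrrCharacter G) (ε₁ ε₂ ε₃ : ℤ)
    (hB : Cfsg.principalBlock M G = {χ : Cfsg.IrrCharacter G | (χ : G → ℂ) = (fun _ => 1) ∨
      χ = χ₁ ∨ χ = χ₂ ∨ χ = χ₃})
    (hdist : (χ₁ : G → ℂ) ≠ (fun _ => 1) ∧ (χ₂ : G → ℂ) ≠ (fun _ => 1) ∧
      (χ₃ : G → ℂ) ≠ (fun _ => 1) ∧ χ₁ ≠ χ₂ ∧ χ₁ ≠ χ₃ ∧ χ₂ ≠ χ₃)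
    (e1 : ε₁ = 1) (e2 : ε₂ = 1) (e3 : ε₃ = -1)
    (hval : (χ₁ : G → ℂ) J = ε₁ ∧ (χ₂ : G → ℂ) J = ε₂ ∧ (χ₃ : G → ℂ) J = ε₃) :
    Cfsg.charDegree χ₁.1 = Cfsg.charDegree χ₂.1 := by
  classical
  obtain ⟨τ, D, hcI, hinv⟩ := exists_klein_data hg₀ hG hnc P J hJ hJ2
  obtain ⟨R⟩ := D.exists_retr
  obtain ⟨hsum, c1, c2, c3, hrest⟩ := sum_coeff_klein D R M hM χ₁ χ₂ χ₃ ε₁ ε₂ ε₃ hB hdist
    ⟨Or.inl e1, Or.inl e2, Or.inr e3⟩ hval
  obtain ⟨d1, d2, d3, d12, d13, d23⟩ := hdist
  have hreal : ∀ g, conj (dihTheta R g) = dihTheta R g := by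
    intro g
    have hxp := H26.class_function_expansion _ (dihTheta_isClassFunction R)
    by_cases h : ∀ x : G, dihF R (x * g * x⁻¹) = 0
    · simp [dihTheta, h]
    · obtain ⟨x, hx⟩ := not_forall.1 h
      rw [← dihTheta_isClassFunction R g x, D.dihTheta_of_ne R hx, map_add, Complex.conj_conj,
        add_comm]
  have hconjc : ∀ χ : Cfsg.IrrCharacter G, Cfsg.classInner (dihTheta R) (H26.conjIrr χ).1 =
      conj (Cfsg.classInner (dihTheta R) χ.1) := by
    intro χ
    simp only [Cfsg.classInner, map_mul, map_inv₀, Complex.conj_natCast, map_sum, hreal,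
      H26.conjIrr_val]
  have hconj3 : H26.conjIrr χ₃ = χ₃ := by
    by_contra hne
    have h := hconjc χ₃
    rw [c3, map_intCast, e3] at h
    by_cases h0 : H26.conjIrr χ₃ = H26.oneIrr G
    · exact d3 (funext fun g => by
        have := congrArg (fun f : Cfsg.IrrCharacter G => conj (f.1 g)) h0
        simpa [H26.conjIrr_val, H26.oneIrr_val] using this)
    by_cases h1 : H26.conjIrr χ₃ = χ₁
    · rw [h1, c1, e1] at h; norm_num at h
    by_cases h2 : H26.conjIrr χ₃ = χ₂
    · rw [h2, c2, e2] at h; norm_num at h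
    rw [hrest _ h0 h1 h2 hne] at h
    norm_num at h
  have hodd : ∀ {χ : Cfsg.IrrCharacter G} {e : ℤ}, χ ∈ Cfsg.principalBlock M G →
      χ.1 J = e → (e = 1 ∨ e = -1) → Odd (Cfsg.charDegree χ.1) := by
    intro χ e _ hv he
    haveI := Fintype.ofFinite (zpowers J)
    obtain ⟨a, ha⟩ := H26.exists_nat_classInner_irr
      (H26.isCharacter_comp (H26.irr_isCharacter χ) (zpowers J).subtype) (H26.oneIrr _)
    have hu : (Finset.univ : Finset (zpowers J)) = {1, ⟨J, mem_zpowers J⟩} := by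
      refine (Finset.eq_of_subset_of_card_le (Finset.subset_univ _) ?_).symm
      rw [Finset.card_univ, ← Nat.card_eq_fintype_card, Nat.card_zpowers, hJ2,
        Finset.card_insert_of_notMem, Finset.card_singleton]
      simp [Subtype.ext_iff, (H28.ne_one_of_orderOf_two hJ2).symm]
    simp only [Cfsg.classInner, Nat.card_zpowers, hJ2, hu, H26.oneIrr_val, map_one, mul_one,
      Function.comp_apply] at ha
    rw [Finset.sum_insert (by simp [Subtype.ext_iff, (H28.ne_one_of_orderOf_two hJ2).symm]),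
      Finset.sum_singleton] at ha
    simp only [coe_subtype, OneMemClass.coe_one, hv, H43.irr_charDegree_spec] at ha
    have h' : (Cfsg.charDegree χ.1 : ℤ) + e = 2 * a := by
      have h2 : ((Cfsg.charDegree χ.1 : ℤ) : ℂ) + (e : ℂ) = ((2 * a : ℤ) : ℂ) := by
        push_cast at ha ⊢
        linear_combination 2 * ha
      exact_mod_cast h2
    rw [Nat.odd_iff]
    omega
  have hswap : H26.conjIrr χ₁ = χ₁ ∨ H26.conjIrr χ₁ = χ₂ := by
    by_contra hne
    obtain ⟨n1, n2⟩ := not_or.1 hne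
    have h := hconjc χ₁
    rw [c1, map_intCast, e1] at h
    by_cases h0 : H26.conjIrr χ₁ = H26.oneIrr G
    · exact d1 (funext fun g => by
        have := congrArg (fun f : Cfsg.IrrCharacter G => conj (f.1 g)) h0
        simpa [H26.conjIrr_val, H26.oneIrr_val] using this)
    by_cases h3 : H26.conjIrr χ₁ = χ₃
    · rw [h3, c3, e3] at h; norm_num at h
    rw [hrest _ h0 n1 n2 h3] at h
    norm_num at h
  rcases hswap with h1 | h1
  · exfalso
    have h2 : H26.conjIrr χ₂ = χ₂ := by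
      by_contra hne
      have h := hconjc χ₂
      rw [c2, map_intCast, e2] at h
      by_cases h0 : H26.conjIrr χ₂ = H26.oneIrr G
      · exact d2 (funext fun g => by
          have := congrArg (fun f : Cfsg.IrrCharacter G => conj (f.1 g)) h0
          simpa [H26.conjIrr_val, H26.oneIrr_val] using this)
      by_cases h1' : H26.conjIrr χ₂ = χ₁
      · exact d12.symm (by rw [← H26.conjIrr_conjIrr χ₂, h1', h1])
      by_cases h3 : H26.conjIrr χ₂ = χ₃
      · rw [h3, c3, e3] at h; norm_num at h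
      rw [hrest _ h0 h1' hne h3] at h
      norm_num at h
    -- the square root count vanishes on the section
    haveI := Fintype.ofFinite R.K
    let r : G → ℂ := fun g => ∑ ψ : Cfsg.IrrCharacter G, H26.fsIndicator ψ.1 * ψ.1 g
    have hr : Cfsg.IsClassFunction G r := by
      intro a x
      simp only [r, H26.irr_conj]
    have hzero : Cfsg.classInner (dihTheta R) r = 0 := by
      rw [D.classInner_dihTheta R hr, D.sum_dihF_mul R]
      refine mul_eq_zero_of_right _ (Finset.sum_eq_zero fun i hi => ?_)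
      rcases Nat.eq_zero_or_pos i with rfl | hi0
      · simp
      refine mul_eq_zero_of_right _ (Finset.sum_eq_zero fun k _ => ?_)
      have hi' : i = 1 := by
        have := Finset.mem_range.1 hi
        norm_num at this
        omega
      subst hi'
      rw [map_eq_zero]
      show ∑ ψ : Cfsg.IrrCharacter G, H26.fsIndicator ψ.1 * ψ.1 _ = 0
      rw [← H26.card_sqrt_eq_sum]
      refine Nat.cast_eq_zero.2 (Finset.card_eq_zero.2 (Finset.filter_eq_empty_iff.2 fun s _ hs => ?_))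
      have hgC : J ^ 1 * (k : G) ∈ centralizer ({centInv J 2} : Set G) :=
        mul_mem (D.le_centralizer (pow_mem hJ 1)) (R.K_le k.2)
      have hf : dihF R (s * s) ≠ 0 := by
        rw [hs, D.dihF_pow_mul R 1 k.2, pow_one, sub_ne_zero]
        exact ((zeta_spec 2).ne_one (by norm_num)).symm
      have hsC := D.mem_of_conj R hf (x := s) (by rwa [show s * (s * s) * s⁻¹ = s * s by group])
      have hπ := R.π_mul _ hsC _ hsC
      rw [hs, R.π_mul _ (D.le_centralizer (pow_mem hJ 1)) _ (R.K_le k.2), R.π_fix _ (pow_mem hJ 1),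
        R.π_of_mem k.2, mul_one, pow_one] at hπ
      obtain ⟨j, hj | hj⟩ := D.forms _ (R.π_mem s hsC)
      · rw [hj, ← pow_add, ← two_mul, pow_mul, pow_two, H28.mul_self_of_orderOf_two hJ2,
          one_pow] at hπ
        exact H28.ne_one_of_orderOf_two hJ2 hπ
      · rw [hj, D.refl_mul_self] at hπ
        exact H28.ne_one_of_orderOf_two hJ2 hπ
    have hν : ∀ χ : Cfsg.IrrCharacter G, Cfsg.classInner r χ.1 = H26.fsIndicator χ.1 := by
      intro χ
      have h := H26.classInner_sum_smul_irr (fun ψ => H26.fsIndicator ψ.1) χ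
      refine Eq.trans ?_ h
      congr 1
      funext g
      simp [r, Finset.sum_apply]
    rw [H26.classInner_eq_sum _ _ (dihTheta_isClassFunction R)] at hzero
    simp only [hν] at hzero
    rw [hsum fun χ => conj (H26.fsIndicator χ.1)] at hzero
    have f0 : H26.fsIndicator (H26.oneIrr G).1 = 1 := by
      simp [H26.fsIndicator, H26.oneIrr_val, Nat.card_eq_fintype_card]
    rw [f0, fsIndicator_eq_one_of_odd χ₁ (hodd (by rw [hB]; simp) hval.1 (Or.inl e1)) h1,
      fsIndicator_eq_one_of_odd χ₂ (hodd (by rw [hB]; simp) hval.2.1 (Or.inl e2)) h2,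
      fsIndicator_eq_one_of_odd χ₃ (hodd (by rw [hB]; simp) hval.2.2 (Or.inr e3)) hconj3,
      e1, e2, e3] at hzero
    norm_num at hzero
  · rw [← h1]
    have : (H26.conjIrr χ₁).1 1 = χ₁.1 1 := by
      rw [H26.conjIrr_val, H43.irr_charDegree_spec, Complex.conj_natCast]
    rw [Cfsg.charDegree, Cfsg.charDegree, this]

end Cfsg.Agent.H56
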