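import Cfsg.Agent.H56.ContribBounds
import Cfsg.Agent.H32.DefectOnePrincipal
import Cfsg.Agent.H40.CentralQuotient
import Cfsg.Agent.H26.CharInvolutions
import Mathlib.GroupTheory.Transfer
import Mathlib.GroupTheory.SpecificGroups.Cyclic
import Mathlib.GroupTheory.FiniteAbelian.Duality
import Mathlib.Analysis.Complex.Polynomial.Basic

/-!
# Height zero members of the principal block and a small centralizer

If some `p`-element has a centralizer whose `p`-part is at most `p ^ 2`, the principal block has at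
most `p ^ 2` members of degree prime to `p`.
-/

set_option autoImplicit false
set_option linter.unusedSectionVars false

open scoped ComplexConjugate

namespace Cfsg.Agent.H56.Subsec

open Cfsg.Agent.H32
open scoped Classical
open Cfsg.Agent.H44 (inflate)
open Cfsg.Agent.H42 (regRes)

variable {G : Type*} [Group G] [Fintype G] {p : ℕ} [hp : Fact p.Prime] {M : Ideal Cfsg.AlgInt}

theorem minVal_principal {H : Type*} [Group H] [Fintype H] [M.IsMaximal] :
    Cfsg.Agent.H41.minDegVal p (Cfsg.principalBlock M H) = 0 := by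
  refine Nat.le_zero.1 ((H41.minDegVal_le (χ := H26.oneIrr H)
    (show H26.oneIrr H ∈ Cfsg.principalBlock M H from
      H41.sameBlock_refl ((H26.oneIrr H : Cfsg.IrrCharacter H) : H → ℂ))).trans ?_)
  rw [H42.charDegree_of_eq_nat (n := 1) (by simp [H26.oneIrr_val]), Nat.factorization_one]
  simp

theorem blockDefect_principal {H : Type*} [Group H] [Fintype H] [M.IsMaximal] :
    Cfsg.blockDefect p (Cfsg.principalBlock M H) = (Nat.card H).factorization p := by
  have := minVal_principal (p := p) (M := M) (H := H)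
  rw [H41.minDegVal] at this
  rw [Cfsg.blockDefect, this, Nat.sub_zero]

/-- The principal block of the centralizer induces the principal block. -/
theorem induced_principal (hM : Cfsg.IsPModular p M) {x : G} (hx : ∃ k : ℕ, orderOf x = p ^ k) :
    Cfsg.IsInducedBlock M (CZ x) (Cfsg.principalBlock M (CZ x)) (Cfsg.principalBlock M G) := by
  haveI := hM.2.1
  have key : ∀ K : Subgroup G, K = Subgroup.centralizer ({x} : Set G) →
      Cfsg.IsInducedBlock M K (Cfsg.principalBlock M K) (Cfsg.principalBlock M G) := by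
    intro K hK
    subst hK
    haveI := Fintype.ofFinite (Subgroup.centralizer ({x} : Set G))
    exact (H41.isInducedBlock_principal_iff _ hM
      (H40.exists_isInducedBlock_centralizer hM hx H41.isPBlock_principalBlock)).2 rfl
  exact key _ (centralizer_singleton_eq x).symm

theorem card_prime_to_p_principal [M.IsMaximal] :
    (zeroSet p (Cfsg.principalBlock M G)).card =
      Nat.card {χ : Cfsg.IrrCharacter G //
        χ ∈ Cfsg.principalBlock M G ∧ ¬ p ∣ Cfsg.charDegree (χ : G → ℂ)} := by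
  rw [card_zeroSet]
  refine Nat.card_congr (Equiv.subtypeEquivRight fun χ => and_congr_right fun _ => ?_)
  have h := minVal_principal (p := p) (M := M) (H := G)
  rw [H41.minDegVal] at h
  rw [Cfsg.blockHeight, h, Nat.sub_zero, Nat.factorization_eq_zero_iff]
  have := (H42.charDegree_pos χ).ne'
  simp [hp.out, this]

/-- Height zero members against the trace. -/
theorem card_zeroSet_le_mul (hM : Cfsg.IsPModular p M) {y : G} (hy : ∃ k : ℕ, orderOf y = p ^ k)
    {b : Set (Cfsg.IrrCharacter (CZ y))} {B : Set (Cfsg.IrrCharacter G)}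
    (hind : Cfsg.IsInducedBlock M (CZ y) b B) :
    (zeroSet p B).card ≤ p ^ Cfsg.blockDefect p b * Cfsg.blockRank p b := by
  haveI := hM.2.1
  obtain ⟨j, hj⟩ := id hy
  set N := p ^ (j + 1)
  have hN : y ^ N = 1 := by
    simp only [N]; rw [pow_succ, pow_mul, ← hj, pow_orderOf_eq_one, one_pow]
  have hN0 : N ≠ 0 := (pow_pos hp.out.pos _).ne'
  set U := Twist.units N
  have hU : (0 : ℝ) < (U.card : ℝ) := Nat.cast_pos.2 (Finset.card_pos.2 ⟨1,
    Finset.mem_filter.2 ⟨Finset.mem_range.2 (Nat.one_lt_pow (Nat.succ_ne_zero j) hp.out.one_lt),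
      Nat.coprime_one_left _⟩⟩)
  have hlow : ∀ χ ∈ zeroSet p B, (U.card : ℝ) ≤ ∑ k ∈ U, (cont p y b χ χ k).re := by
    intro χ hχ
    rw [zeroSet, Finset.mem_filter] at hχ
    have h := (isTwist_cont (p := p) (b := b) hN χ χ).card_le_sum_norm_pow hN0
      (isIntegral_cont χ χ 1) (fun h0 => ?_) 1
    · refine h.trans (le_of_eq (Finset.sum_congr rfl fun k hk => ?_))
      have hc : cont p y b χ χ k = (((cont p y b χ χ k).re : ℝ) : ℂ) :=
        (Complex.conj_eq_iff_re.1 (conj_cont χ χ k)).symm
      conv_lhs => rw [hc]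
      rw [pow_one, Complex.norm_real, Real.norm_eq_abs,
        abs_of_nonneg (re_cont_self_nonneg hM hy hind hN0 hN χ hk)]
    refine res_cont_ne_zero hM hy hind (mem_mem'.1 hχ.1) hχ.2 (mem_mem'.1 hχ.1) hχ.2 1
      (H41.isIntegral_mem_localRing (isIntegral_cont χ χ 1)) ?_
    rw [← map_zero (H41.res M)]
    exact congrArg _ (Subtype.ext h0)
  have h := (Finset.sum_le_sum hlow).trans
    (Finset.sum_le_sum_of_subset_of_nonneg (Finset.filter_subset _ _) fun χ _ _ =>
      Finset.sum_nonneg fun k hk => re_cont_self_nonneg hM hy hind hN0 hN χ hk)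
  rw [Finset.sum_const, nsmul_eq_mul, Finset.sum_comm, Finset.sum_congr rfl fun k hk => by
    rw [← Complex.re_sum, sum_cont_self_twist hM hy hind hN0 hN hk], Finset.sum_const,
    nsmul_eq_mul, show ((p : ℂ) ^ Cfsg.blockDefect p b * (Cfsg.blockRank p b : ℂ)) =
      (((p : ℝ) ^ Cfsg.blockDefect p b * (Cfsg.blockRank p b : ℝ) : ℝ) : ℂ) by push_cast; rfl,
    Complex.ofReal_re] at h
  have h' := le_of_mul_le_mul_right (h.trans_eq (mul_comm _ _)) hU
  exact_mod_cast h'

/-- A group of order prime to `p` has principal block of rank one. -/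
theorem blockRank_principal_of_not_dvd {H : Type*} [Group H] [Fintype H]
    (hM : Cfsg.IsPModular p M) (h : ¬ p ∣ Nat.card H) :
    Cfsg.blockRank p (Cfsg.principalBlock M H) = 1 := by
  haveI := hM.2.1
  have hone : Cfsg.principalBlock M H = {H26.oneIrr H} := by
    refine H40.blockOf_eq_singleton hM (H26.oneIrr H) ?_
    rw [H42.charDegree_of_eq_nat (n := 1) (by simp [H26.oneIrr_val]), Nat.factorization_one,
      Nat.factorization_eq_zero_of_not_dvd h]
    rfl
  rw [Cfsg.blockRank, hone, Set.image_singleton, finrank_span_singleton]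
  intro h0
  have := congrFun h0 1
  simp [Cfsg.pRegularPart, Cfsg.IsPRegular, hp.out.ne_one, H26.oneIrr_val] at this

/-- A central element of order `p` survives in a linear character of `p`-power order. -/
theorem exists_linear_of_central {C : Type*} [Group C] [Finite C] {z : C}
    (hz : z ∈ Subgroup.center C) (hzp : orderOf z = p) (hC : (Nat.card C).factorization p = 2) :
    ∃ Λ : C →* ℂˣ, Λ z ≠ 1 ∧ ∀ v : C, ¬ p ∣ orderOf v → Λ v = 1 := by
  obtain ⟨P, hP⟩ := (IsPGroup.of_card (p := p) (n := 1) (G := Subgroup.zpowers z)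
    (by rw [Nat.card_zpowers, hzp, pow_one])).exists_le_sylow
  have hzP : z ∈ (P : Subgroup C) := hP (Subgroup.mem_zpowers z)
  have hcard : Nat.card (P : Subgroup C) = p ^ 2 := by rw [P.card_eq_multiplicity, hC]
  letI : CommGroup (P : Subgroup C) := { (inferInstance : Group (P : Subgroup C)) with
    mul_comm := IsPGroup.commutative_of_card_eq_prime_sq hcard }
  let tr : C →* (P : Subgroup C) := MonoidHom.transfer (MonoidHom.id (P : Subgroup C))
  have key : ∀ (k : ℕ) (g₀ : C), g₀⁻¹ * z ^ k * g₀ ∈ (P : Subgroup C) →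
      g₀⁻¹ * z ^ k * g₀ = z ^ k := fun k g₀ _ => by
    rw [mul_assoc, ← (Subgroup.mem_center_iff.1 (Subgroup.pow_mem _ hz k) g₀),
      inv_mul_cancel_left]
  have htr : tr z = ⟨z ^ (P : Subgroup C).index, MonoidHom.transfer_eq_pow_aux z key⟩ :=
    MonoidHom.transfer_eq_pow (MonoidHom.id (P : Subgroup C)) z key
  have hne : tr z ≠ 1 := by
    rw [htr]
    intro h
    have h' := congrArg Subtype.val h
    simp only [Subgroup.coe_one] at h'
    have := orderOf_dvd_of_pow_eq_one h'
    rw [hzp] at this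
    exact P.not_dvd_index this
  obtain ⟨ψ, hψ⟩ := CommGroup.exists_apply_ne_one_of_hasEnoughRootsOfUnity
    (G := (P : Subgroup C)) (M := ℂ) hne
  refine ⟨ψ.comp tr, hψ, fun v hv => ?_⟩
  have h1 : tr v = 1 := by
    refine orderOf_eq_one_iff.1 ?_
    have hd1 : orderOf (tr v) ∣ orderOf v := orderOf_map_dvd tr v
    have hd2 : orderOf (tr v) ∣ p ^ 2 := hcard ▸ orderOf_dvd_natCard _
    exact Nat.eq_one_of_dvd_coprimes
      (((Nat.Prime.coprime_iff_not_dvd hp.out).2 hv).symm.pow_right 2) hd1 hd2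
  show ψ (tr v) = 1
  rw [h1, map_one]

/-- The index of the centralizer in the normalizer of a subgroup of prime order. -/
theorem relIndex_centralizer_normalizer_pos_le {H : Type*} [Group H] [Finite H] (Q : Subgroup H)
    (hQ : Nat.card Q = p) :
    0 < (Subgroup.centralizer (Q : Set H)).relIndex (Subgroup.normalizer (Q : Set H)) ∧
      (Subgroup.centralizer (Q : Set H)).relIndex (Subgroup.normalizer (Q : Set H)) ≤ p - 1 := by
  haveI : IsCyclic Q := isCyclic_of_prime_card hQ
  have key := Subgroup.card_dvd_of_injective _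
    (QuotientGroup.kerLift_injective Q.normalizerMonoidHom)
  rw [Subgroup.normalizerMonoidHom_ker, ← Subgroup.index, ← Subgroup.relIndex,
    (inferInstance : IsCyclic Q).card_mulAut, hQ, Nat.totient_prime hp.out] at key
  have hp1 : 0 < p - 1 := Nat.sub_pos_of_lt hp.out.one_lt
  exact ⟨Nat.pos_of_dvd_of_pos key hp1, Nat.le_of_dvd hp1 key⟩

/-- The regular restrictions of the principal block of a group with Sylow subgroup of prime
order: a signed basis with its Gram matrix. -/
theorem exists_signed_basis {H : Type*} [Group H] [Fintype H] (hM : Cfsg.IsPModular p M)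
    (hH : (Nat.card H).factorization p = 1) :
    ∃ (e t : ℕ) (F : ℝ) (E : Fin e → H → ℂ), 0 < e ∧ e + t ≤ p ∧
      F * (1 + (t : ℝ) * e) = t ∧
      (∀ i, ∃ φ ∈ Cfsg.principalBlock M H, E i = regRes p (φ : H → ℂ) ∨
        E i = -regRes p (φ : H → ℂ)) ∧
      (∀ φ ∈ Cfsg.principalBlock M H, ∃ m : Fin e → ℤ,
        regRes p (φ : H → ℂ) = ∑ i, (m i : ℂ) • E i) ∧
      ∀ i j, Cfsg.classInner (E i) (E j) = ((((if i = j then (1 : ℝ) else 0) - F) : ℝ) : ℂ) := by
  haveI := hM.2.1
  obtain ⟨P⟩ : Nonempty (Sylow p H) := inferInstance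
  have hP : Nat.card P = p := by
    rw [P.card_eq_multiplicity, hH, pow_one]
  obtain ⟨he0, hep⟩ := relIndex_centralizer_normalizer_pos_le (P : Subgroup H) hP
  obtain ⟨X, Y, hXY, hdisj, hX, hY, s, ε, hs, hε, hdeg, hYeq, hrel⟩ :=
    H32.sylow_prime_principal hM P hP _ rfl
  set e := (Subgroup.centralizer ((P : Subgroup H) : Set H)).relIndex
    (Subgroup.normalizer ((P : Subgroup H) : Set H)) with he
  set t := Nat.card Y with ht
  have ht1 : 0 < t := by rw [hY]; exact Nat.div_pos hep he0
  have hte : t * e ≤ p - 1 := by rw [hY]; exact Nat.div_mul_le_self _ _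
  have het : e + t ≤ p := by
    have : e + t ≤ t * e + 1 := by nlinarith
    have := hp.out.two_le
    omega
  let σ : Fin e ≃ X := (Finite.equivFinOfCardEq hX).symm
  let sg : Fin e → ℂ := fun i => (s (σ i : Cfsg.IrrCharacter H) : ℂ)
  have hsg : ∀ i, sg i * sg i = 1 := fun i => by
    rcases (hs _ (σ i).2).1 with h | h <;> simp [sg, h]
  have hsgc : ∀ i, conj (sg i) = sg i := fun i => by simp [sg]
  let E : Fin e → H → ℂ := fun i => sg i • regRes p ((σ i : Cfsg.IrrCharacter H) : H → ℂ)
  set F : ℂ := (Nat.card H : ℂ)⁻¹ *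
    ((Finset.univ.filter fun g : H => p ∣ orderOf g).card : ℂ) with hF
  -- values on singular elements
  have hsing : ∀ χ ∈ X, ∀ g : H, p ∣ orderOf g → (χ : H → ℂ) g = (s χ : ℂ) := by
    intro χ hχ g hg
    obtain ⟨u, v, huv, hc, ⟨j, hj⟩, hv⟩ := H40.exists_isPPart p g
    have hu1 : u ≠ 1 := fun h1 => hv (by rw [h1, one_mul] at huv; rwa [huv])
    obtain ⟨P', hP'⟩ := (IsPGroup.of_card (p := p) (n := j) (G := Subgroup.zpowers u)
      (by rw [Nat.card_zpowers, hj])).exists_le_sylow
    obtain ⟨w, hw⟩ := MulAction.exists_smul_eq H P' P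
    have hP'card : Nat.card P' = p := by rw [P'.card_eq_multiplicity, hH, pow_one]
    have hup : Subgroup.zpowers u = (P' : Subgroup H) := by
      refine Subgroup.eq_of_le_of_card_ge hP' ?_
      rw [hP'card, Nat.card_zpowers]
      rcases Nat.eq_zero_or_pos j with rfl | hj0
      · exact absurd (orderOf_eq_one_iff.1 (by simpa using hj)) hu1
      · rw [hj]; exact Nat.le_self_pow hj0.ne' p
    have hwu : w * u * w⁻¹ ∈ (P : Subgroup H) := by
      rw [← hw, Sylow.coe_subgroup_smul]
      exact ⟨u, hP' (Subgroup.mem_zpowers u), rfl⟩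
    have hwv : w * v * w⁻¹ ∈ Subgroup.centralizer ((P : Subgroup H) : Set H) := by
      rw [← hw, Subgroup.mem_centralizer_iff]
      rintro _ ⟨a, ha, rfl⟩
      rw [← hup] at ha
      obtain ⟨n, rfl⟩ := Subgroup.mem_zpowers_iff.1 ha
      show MulAut.conj w (u ^ n) * MulAut.conj w v = MulAut.conj w v * MulAut.conj w (u ^ n)
      rw [← map_mul, ← map_mul, (hc.zpow_left n).eq]
    have h1 := (hs χ hχ).2.2 (w * u * w⁻¹) hwu (fun h => hu1 (conj_eq_one_iff.1 h))
      (w * v * w⁻¹) hwv (by rwa [← MulAut.conj_apply, MulEquiv.orderOf_eq])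
    rw [show w * u * w⁻¹ * (w * v * w⁻¹) = w * g * w⁻¹ by rw [← huv]; group, H26.irr_conj] at h1
    exact h1
  have hsplit : ∀ χ φ : Cfsg.IrrCharacter H, Cfsg.classInner (regRes p (χ : H → ℂ)) (φ : H → ℂ) =
      Cfsg.classInner (χ : H → ℂ) (φ : H → ℂ) - (Nat.card H : ℂ)⁻¹ *
        ∑ g ∈ Finset.univ.filter (fun g : H => p ∣ orderOf g),
          (χ : H → ℂ) g * conj ((φ : H → ℂ) g) := by
    intro χ φ
    rw [Cfsg.classInner, Cfsg.classInner, ← mul_sub, Finset.sum_filter, ← Finset.sum_sub_distrib]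
    refine congrArg _ (Finset.sum_congr rfl fun g _ => ?_)
    simp only [regRes]
    split_ifs <;> simp
  have hgram0 : ∀ i j, Cfsg.classInner (E i) ((σ j : Cfsg.IrrCharacter H) : H → ℂ) =
      sg j * ((if i = j then 1 else 0) - F) := by
    intro i j
    simp only [E, H26.classInner_smul_left, hsplit, H26.classInner_irr]
    rw [Finset.sum_congr rfl fun g hg => by
      rw [hsing _ (σ i).2 g (Finset.mem_filter.1 hg).2, hsing _ (σ j).2 g (Finset.mem_filter.1 hg).2,
        map_intCast], Finset.sum_const, nsmul_eq_mul]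
    simp only [Subtype.coe_inj, EmbeddingLike.apply_eq_iff_eq]
    split_ifs with h
    · subst h
      have h1 : (s (σ i : Cfsg.IrrCharacter H) : ℂ) * (s (σ i : Cfsg.IrrCharacter H) : ℂ) = 1 :=
        hsg i
      simp only [sg, hF]
      linear_combination -((Nat.card H : ℂ)⁻¹ *
        ((Finset.univ.filter fun g : H => p ∣ orderOf g).card : ℂ) *
        (s (σ i : Cfsg.IrrCharacter H) : ℂ)) * h1
    · have h1 : (s (σ i : Cfsg.IrrCharacter H) : ℂ) * (s (σ i : Cfsg.IrrCharacter H) : ℂ) = 1 :=
        hsg i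
      simp only [sg, hF]
      linear_combination -((Nat.card H : ℂ)⁻¹ *
        ((Finset.univ.filter fun g : H => p ∣ orderOf g).card : ℂ) *
        (s (σ j : Cfsg.IrrCharacter H) : ℂ)) * h1
  have hsupp : ∀ i g, p ∣ orderOf g → E i g = 0 := fun i g hg => by
    simp [E, H42.regRes_of_singular hg]
  have hregR : ∀ (i : Fin e) (f : H → ℂ),
      Cfsg.classInner (E i) (regRes p f) = Cfsg.classInner (E i) f := by
    intro i f
    rw [Cfsg.classInner, Cfsg.classInner]
    refine congrArg _ (Finset.sum_congr rfl fun g _ => ?_)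
    by_cases hg : p ∣ orderOf g
    · simp [hsupp i g hg]
    · rw [H42.regRes_of_regular hg]
  have hgram : ∀ i j, Cfsg.classInner (E i) (E j) = (if i = j then 1 else 0) - F := by
    intro i j
    show Cfsg.classInner (E i) (sg j • _) = _
    rw [H26.classInner_smul_right, hregR, hgram0, hsgc, ← mul_assoc, hsg, one_mul]
  have hrelY : ∀ θ ∈ Y, regRes p (θ : H → ℂ) = (ε : ℂ) • ∑ i, E i := by
    intro θ hθ
    have hεε : (ε : ℂ) * ε = 1 := by rcases hε with h | h <;> simp [h]
    ext g
    by_cases hg : p ∣ orderOf g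
    · simp [H42.regRes_of_singular hg, hsupp _ g hg, Finset.sum_apply]
    · have h := hrel θ hθ g hg
      rw [finsum_mem_eq_finite_toFinset_sum _ (Set.toFinite X)] at h
      have h2 : ∑ χ ∈ (Set.toFinite X).toFinset, (s χ : ℂ) * (χ : H → ℂ) g = ∑ i, E i g := by
        refine (Finset.sum_bij (fun i _ => (σ i : Cfsg.IrrCharacter H)) (fun i _ => by simp)
          (fun a _ b _ hab => σ.injective (Subtype.ext hab))
          (fun χ hχ => ⟨σ.symm ⟨χ, by simpa using hχ⟩, Finset.mem_univ _, by simp⟩)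
          fun i _ => by simp [E, sg, H42.regRes_of_regular hg]).symm
      rw [H42.regRes_of_regular hg, Pi.smul_apply, Finset.sum_apply, ← h2, ← h, smul_eq_mul,
        ← mul_assoc, hεε, one_mul]
  obtain ⟨θ₀, hθ₀⟩ : Y.Nonempty := (Set.ncard_pos (Set.toFinite Y)).1 (by
    rwa [← Nat.card_coe_set_eq])
  have hSne : ∑ i, E i ≠ 0 := by
    intro h0
    have h := congrFun (hrelY θ₀ hθ₀) 1
    rw [h0, smul_zero, H42.regRes_of_regular (by simp [hp.out.ne_one])] at h
    exact H26.irr_one_ne_zero θ₀ h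
  -- the projection fixes the restrictions, which determines `F`
  have hB := (H41.isPBlock_principalBlock (M := M) (G := H))
  have hfix : ∀ j, E j = ∑ χ ∈ mem' (Cfsg.principalBlock M H),
      Cfsg.classInner (E j) (χ : H → ℂ) • regRes p (χ : H → ℂ) := by
    intro j
    have hW := weakOrthogonal_of_isPBlock (C := H) hM hB
    have h := isProj_projKernel hW
    have hmem : E j ∈ Submodule.span ℂ ((fun χ : Cfsg.IrrCharacter H =>
        Cfsg.pRegularPart p (χ : H → ℂ)) '' Cfsg.principalBlock M H) :=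
      Submodule.smul_mem _ _ (Submodule.subset_span ⟨_, hXY ▸ Or.inl (σ j).2,
        H42.pRegularPart_eq_regRes p _⟩)
    have h' := h.map_id _ hmem
    rw [Matrix.mulVecLin_apply, ← pRegularPart_blockPart] at h'
    conv_lhs => rw [← h']
    ext g
    simp only [Finset.sum_apply, Pi.smul_apply, smul_eq_mul, Cfsg.pRegularPart, Cfsg.IsPRegular]
    by_cases hg : p ∣ orderOf g
    · simp [hg, H42.regRes_of_singular hg]
    · simp only [hg, not_false_eq_true, if_true, H42.regRes_of_regular hg, blockPart_eq_sum]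
      refine Finset.sum_congr ?_ fun _ _ => rfl
      ext φ; simp [mem']
  have hFeq : F * (1 + (t : ℂ) * e) = t := by
    have hsplit2 : mem' (Cfsg.principalBlock M H) =
        (Finset.univ.image fun i => (σ i : Cfsg.IrrCharacter H)) ∪ mem' Y := by
      ext χ
      simp only [mem_mem', Finset.mem_union, Finset.mem_image, Finset.mem_univ, true_and, hXY,
        Set.mem_union]
      exact ⟨fun h => h.imp (fun hx => ⟨σ.symm ⟨χ, hx⟩, by simp⟩) id,
        fun h => h.imp (fun ⟨i, hi⟩ => hi ▸ (σ i).2) id⟩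
    have hd : Disjoint (Finset.univ.image fun i => (σ i : Cfsg.IrrCharacter H)) (mem' Y) := by
      rw [Finset.disjoint_left]
      intro χ hχ hχY
      obtain ⟨i, -, rfl⟩ := Finset.mem_image.1 hχ
      exact Set.disjoint_left.1 hdisj (σ i).2 (mem_mem'.1 hχY)
    let j0 : Fin e := ⟨0, he0⟩
    have h := hfix j0
    rw [hsplit2, Finset.sum_union hd,
      Finset.sum_image fun a _ b _ hab => σ.injective (Subtype.ext hab)] at h
    have hX1 : ∀ i, Cfsg.classInner (E j0) ((σ i : Cfsg.IrrCharacter H) : H → ℂ) •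
        regRes p ((σ i : Cfsg.IrrCharacter H) : H → ℂ) =
        ((if j0 = i then (1 : ℂ) else 0) - F) • E i := by
      intro i
      rw [hgram0]
      simp only [E, smul_smul]
      congr 1
      ring
    have hY1 : ∀ θ ∈ mem' Y, Cfsg.classInner (E j0) (θ : H → ℂ) • regRes p (θ : H → ℂ) =
        (1 - F * e) • ∑ i, E i := by
      intro θ hθ
      have hεε : (ε : ℂ) * ε = 1 := by rcases hε with h | h <;> simp [h]
      rw [← hregR, hrelY θ (mem_mem'.1 hθ), H26.classInner_smul_right, H26.classInner_sum_right,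
        smul_smul, map_intCast]
      congr 1
      simp only [hgram, Finset.sum_sub_distrib, Finset.sum_ite_eq, Finset.mem_univ, if_true,
        Finset.sum_const, Finset.card_univ, Fintype.card_fin, nsmul_eq_mul]
      linear_combination (1 - F * (e : ℂ)) * hεε
    rw [Finset.sum_congr rfl fun i _ => hX1 i, Finset.sum_congr rfl hY1, Finset.sum_const,
      show (mem' Y).card = t by
        rw [ht, Nat.card_eq_fintype_card, Fintype.card_subtype]; simp [mem'],
      ← Nat.cast_smul_eq_nsmul ℂ, smul_smul] at h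
    simp only [sub_smul, Finset.sum_sub_distrib, ite_smul, one_smul, zero_smul, Finset.sum_ite_eq,
      Finset.mem_univ, if_true, ← Finset.smul_sum] at h
    have h2 : ((t : ℂ) * (1 - F * e) - F) • ∑ i, E i = 0 := by
      rw [sub_smul]
      have h3 := congrArg (fun f => f - E j0) h
      simp only [sub_self] at h3
      rw [h3]; abel
    rcases smul_eq_zero.1 h2 with h3 | h3
    · linear_combination -h3
    · exact absurd h3 hSne
  set Fr : ℝ := (Nat.card H : ℝ)⁻¹ *
    ((Finset.univ.filter fun g : H => p ∣ orderOf g).card : ℝ) with hFr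
  have hFF : F = (Fr : ℂ) := by rw [hF, hFr]; push_cast; rfl
  refine ⟨e, t, Fr, E, he0, het, ?_, fun i => ⟨σ i, hXY ▸ Or.inl (σ i).2, ?_⟩, fun φ hφ => ?_,
    fun i j => ?_⟩
  · rw [hFF] at hFeq; exact_mod_cast hFeq
  · rcases (hs _ (σ i).2).1 with h | h
    · left; simp [E, sg, h]
    · right; simp [E, sg, h]
  · rcases hXY ▸ hφ with h | h
    · refine ⟨fun i => if i = σ.symm ⟨φ, h⟩ then s φ else 0, ?_⟩
      rw [Finset.sum_eq_single (σ.symm ⟨φ, h⟩) (fun i _ hi => by simp [hi]) (by simp)]
      simp only [if_true]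
      simp only [E, sg, Equiv.apply_symm_apply, smul_smul]
      rw [← Int.cast_mul, show s φ * s φ = 1 by rcases (hs φ h).1 with e | e <;> simp [e],
        Int.cast_one, one_smul]
    · refine ⟨fun _ => ε, ?_⟩
      rw [hrelY φ h, Finset.smul_sum]
  · rw [hgram, hFF]; split_ifs <;> push_cast <;> rfl

/-- The bound when the centralizer has `p`-part `p ^ 2` and the element has order `p`. -/
theorem card_zeroSet_le_sq (hM : Cfsg.IsPModular p M) {x : G} (hx : orderOf x = p)
    (hC : (Nat.card (CZ x)).factorization p = 2) :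
    (zeroSet p (Cfsg.principalBlock M G)).card ≤ p ^ 2 := by
  haveI := hM.2.1
  have hy : ∃ k : ℕ, orderOf x = p ^ k := ⟨1, by rw [hx, pow_one]⟩
  have hind := induced_principal hM hy
  set b := Cfsg.principalBlock M (CZ x)
  set B := Cfsg.principalBlock M G
  have hb : Cfsg.IsPBlock M b := H41.isPBlock_principalBlock
  have hxC : yC x ∈ Subgroup.center (CZ x) := Subgroup.mem_center_iff.2 (commute_yC x)
  have hxo : orderOf (yC x) = p := by rw [← Subgroup.orderOf_coe]; exact hx
  set Q := Subgroup.zpowers (yC x) with hQdef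
  have hQcard : Nat.card Q = p := by rw [Nat.card_zpowers, hxo]
  have hQc : Q ≤ Subgroup.center (CZ x) := Subgroup.zpowers_le.2 hxC
  haveI : Q.Normal := ⟨fun n hn g => by
    rw [Subgroup.mem_center_iff.1 (hQc hn) g, mul_inv_cancel_right]; exact hn⟩
  have hQ : IsPGroup p Q := IsPGroup.of_card (n := 1) (by rw [hQcard, pow_one])
  have hsup : Q ⊔ Subgroup.centralizer (Q : Set (CZ x)) = ⊤ := by
    refine eq_top_iff.2 fun g _ => Subgroup.mem_sup_right (Subgroup.mem_centralizer_iff.2
      fun n hn => (Subgroup.mem_center_iff.1 (hQc hn) g).symm)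
  haveI : Fintype (CZ x ⧸ Q) := Fintype.ofFinite _
  have hcardq : Nat.card (CZ x) = Nat.card (CZ x ⧸ Q) * p := by
    rw [Subgroup.card_eq_card_quotient_mul_card_subgroup Q, hQcard]
  have hH : (Nat.card (CZ x ⧸ Q)).factorization p = 1 := by
    have := hC
    rw [hcardq, Nat.factorization_mul Nat.card_pos.ne' hp.out.ne_zero, Finsupp.add_apply,
      hp.out.factorization_self] at this
    omega
  obtain ⟨e, t, F, Eb, he0, het, hF, hEmem, hEspan, hEgram⟩ :=
    exists_signed_basis (M := M) (H := CZ x ⧸ Q) hM hH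
  let lift : (CZ x ⧸ Q → ℂ) → CZ x → ℂ := fun f c =>
    regRes p (fun d : CZ x => f (QuotientGroup.mk d)) c
  let E : Fin e → CZ x → ℂ := fun i => lift (Eb i)
  have hreg : ∀ g : CZ x, ¬ p ∣ orderOf g → ¬ p ∣ orderOf (g : CZ x ⧸ Q) :=
    fun g hg h => hg (h.trans (H40.orderOf_mk_dvd g))
  have hlift : ∀ φ : Cfsg.IrrCharacter (CZ x ⧸ Q),
      lift (regRes p (φ : CZ x ⧸ Q → ℂ)) = regRes p (inflate Q φ : CZ x → ℂ) := by
    intro φ
    ext c
    simp only [lift]
    by_cases hc : p ∣ orderOf c
    · simp [H42.regRes_of_singular hc]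
    · simp [H42.regRes_of_regular hc, H42.regRes_of_regular (hreg c hc), H44.inflate_apply]
  have hmemb : ∀ φ : Cfsg.IrrCharacter (CZ x ⧸ Q),
      inflate Q φ ∈ b ↔ φ ∈ Cfsg.principalBlock M (CZ x ⧸ Q) := by
    intro φ
    show Cfsg.SameBlock M (fun _ : CZ x => (1 : ℂ)) (inflate Q φ : CZ x → ℂ) ↔
      Cfsg.SameBlock M (fun _ : CZ x ⧸ Q => (1 : ℂ)) (φ : CZ x ⧸ Q → ℂ)
    have hone : (inflate Q (H26.oneIrr (CZ x ⧸ Q)) : CZ x → ℂ) = fun _ => 1 := funext fun g => by
      rw [H44.inflate_apply, H26.oneIrr_val]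
    have hone' : ((H26.oneIrr (CZ x ⧸ Q)) : CZ x ⧸ Q → ℂ) = fun _ => 1 :=
      funext fun g => H26.oneIrr_val g
    rw [← hone, ← hone']
    exact H40.sameBlock_inflate_iff hM hQ hsup _ φ
  have hEsupp : ∀ i (c : CZ x), p ∣ orderOf c → E i c = 0 := fun i c hc => by
    simp [E, lift, H42.regRes_of_singular hc]
  -- the Gram matrix upstairs
  have hinner : ∀ i j, Cfsg.classInner (E i) (E j) =
      (p : ℂ)⁻¹ * ((((if i = j then (1 : ℝ) else 0) - F) : ℝ) : ℂ) := by
    intro i j
    rw [← hEgram, Cfsg.classInner, Cfsg.classInner, hcardq, Nat.cast_mul, mul_inv,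
      ← mul_assoc ((p : ℂ)⁻¹), mul_comm ((p : ℂ)⁻¹)]
    refine congrArg _ ?_
    refine Finset.sum_bij_ne_zero (fun c _ _ => (c : CZ x ⧸ Q)) (fun _ _ _ => Finset.mem_univ _)
      (fun a _ ha a' _ ha' h => ?_) (fun q _ hq => ?_) fun c _ hc => ?_
    · have h1 : ∀ c : CZ x, E i c * conj (E j c) ≠ 0 → ¬ p ∣ orderOf c := fun c hc h =>
        hc (by rw [hEsupp i c h, zero_mul])
      exact H40.regular_lift_unique hQ hsup (h1 a ha) (h1 a' ha') h
    · have hqr : ¬ p ∣ orderOf q := fun h => hq (by
        obtain ⟨φ, -, h' | h'⟩ := hEmem i <;> simp [h', H42.regRes_of_singular h])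
      obtain ⟨c, hc, rfl⟩ := H40.exists_regular_lift hQ hqr
      refine ⟨c, Finset.mem_univ _, ?_, rfl⟩
      simpa [E, lift, H42.regRes_of_regular hc] using hq
    · have hcr : ¬ p ∣ orderOf c := fun h => hc (by rw [hEsupp i c h, zero_mul])
      simp [E, lift, H42.regRes_of_regular hcr]
  -- coordinates of the members of the principal block of the centralizer
  obtain ⟨Λ, hΛ, hΛreg⟩ := exists_linear_of_central (p := p) hxC hxo hC
  have hspan : ∀ φ ∈ b, ∃ m : Fin e → ℤ,
      regRes p (φ : CZ x → ℂ) = ∑ i, (m i : ℂ) • E i := by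
    intro φ hφ
    have hω : scal x φ ^ p = 1 := scal_pow x (by rw [← hx, pow_orderOf_eq_one]) φ
    have hζp : ((Λ (yC x) : ℂˣ) : ℂ) ^ p = 1 := by
      rw [← Units.val_pow_eq_pow_val, ← map_pow, ← hxo, pow_orderOf_eq_one, map_one, Units.val_one]
    have hζ : IsPrimitiveRoot ((Λ (yC x) : ℂˣ) : ℂ) p := by
      refine (IsPrimitiveRoot.iff_orderOf).2 ?_
      exact orderOf_eq_prime hζp (fun h => hΛ (Units.ext h))
    haveI : NeZero p := ⟨hp.out.ne_zero⟩
    obtain ⟨i, hi, hωi⟩ := hζ.eq_pow_of_pow_eq_one hω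
    let φ' := H26.linearTwist (Λ ^ (p - i)) φ
    have hφ'v : ∀ c, (φ' : CZ x → ℂ) c =
        ((Λ c : ℂˣ) : ℂ) ^ (p - i) * (φ : CZ x → ℂ) c := fun c => by
      simp [φ', H26.linearTwist]
    have hreg' : ∀ c, ¬ p ∣ orderOf c → (φ' : CZ x → ℂ) c = (φ : CZ x → ℂ) c := fun c hc => by
      rw [hφ'v, hΛreg c hc]; simp
    have hker : Q ≤ H44.kerOf φ' := by
      rw [hQdef, Subgroup.zpowers_le]
      show (φ' : CZ x → ℂ) (yC x) = (φ' : CZ x → ℂ) 1
      rw [hφ'v, hφ'v, map_one, Units.val_one, one_pow, one_mul]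
      have := irr_yC_mul x φ 1
      rw [mul_one] at this
      rw [this, ← hωi, ← mul_assoc, ← pow_add, Nat.sub_add_cancel hi.le, hζp, one_mul]
    obtain ⟨ψ, hψ⟩ := H44.exists_eq_inflate Q φ' hker
    have hφ'b : φ' ∈ b := by
      have hsame : Cfsg.SameBlock M (φ : CZ x → ℂ) (φ' : CZ x → ℂ) := by
        refine H40.sameBlock_of_regular hM fun c hc => ?_
        have h1 : Cfsg.centralChar (φ' : CZ x → ℂ) c = Cfsg.centralChar (φ : CZ x → ℂ) c := by
          rw [Cfsg.centralChar, Cfsg.centralChar, hreg' c hc,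
            hreg' 1 (by simp [hp.out.ne_one])]
        rw [h1, sub_self]
        exact (H41.memLocalIdeal_coe_iff (M := M) 0).2 (map_zero _)
      exact (H41.mem_iff_of_sameBlock hb hsame).1 hφ
    rw [← hψ, hmemb] at hφ'b
    obtain ⟨mm, hm⟩ := hEspan ψ hφ'b
    refine ⟨mm, ?_⟩
    have h2 : regRes p (φ : CZ x → ℂ) = regRes p (φ' : CZ x → ℂ) := funext fun c => by
      by_cases hc : p ∣ orderOf c
      · simp [H42.regRes_of_singular hc]
      · rw [H42.regRes_of_regular hc, H42.regRes_of_regular hc, hreg' c hc]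
    rw [h2, ← hψ, ← hlift, hm]
    ext c
    by_cases hc : p ∣ orderOf c
    · simp [lift, H42.regRes_of_singular hc, hEsupp _ c hc, Finset.sum_apply]
    · simp [E, lift, H42.regRes_of_regular hc, Finset.sum_apply]
  choose! m hm using hspan
  have hEin : ∀ i, E i ∈ Submodule.span ℂ ((fun φ : Cfsg.IrrCharacter (CZ x) =>
      Cfsg.pRegularPart p (φ : CZ x → ℂ)) '' b) := by
    intro i
    obtain ⟨φ, hφ, h⟩ := hEmem i
    have hbase : lift (regRes p (φ : CZ x ⧸ Q → ℂ)) ∈ Submodule.span ℂ
        ((fun φ : Cfsg.IrrCharacter (CZ x) => Cfsg.pRegularPart p (φ : CZ x → ℂ)) '' b) := by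
      rw [hlift]
      exact Submodule.subset_span ⟨_, (hmemb φ).2 hφ, H42.pRegularPart_eq_regRes p _⟩
    rcases h with h | h
    · show lift (Eb i) ∈ _
      rw [h]; exact hbase
    · show lift (Eb i) ∈ _
      rw [h]
      have : lift (-regRes p (φ : CZ x ⧸ Q → ℂ)) = -lift (regRes p (φ : CZ x ⧸ Q → ℂ)) := by
        ext c
        simp only [lift, Pi.neg_apply, regRes]
        split_ifs <;> simp
      rw [this]
      exact Submodule.neg_mem _ hbase
  let w : Cfsg.IrrCharacter G → Fin e → ℕ → ℂ := fun χ i k =>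
    ∑ φ ∈ mem' b, (mult x χ φ : ℂ) * scal x φ ^ k * (m φ i : ℂ)
  have hpart : ∀ χ c, bpart p x b χ c = ∑ i, w χ i 1 * E i c := by
    intro χ c
    rw [bpart_apply]
    simp only [w, Finset.sum_mul, pow_one]
    rw [Finset.sum_comm]
    refine Finset.sum_congr rfl fun φ hφ => ?_
    rw [congrFun (hm φ (mem_mem'.1 hφ)) c, Finset.sum_apply, Finset.mul_sum]
    exact Finset.sum_congr rfl fun i _ => by simp only [Pi.smul_apply, smul_eq_mul]; ring
  set W : Fin e → Fin e → ℂ := fun i j => ∑ χ ∈ mem' B, w χ i 1 * conj (w χ j 1) with hW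
  have hp0 : (p : ℂ) ≠ 0 := Nat.cast_ne_zero.2 hp.out.ne_zero
  have hcol : ∀ j, E j = ∑ a, (∑ c, W a c * Cfsg.classInner (E j) (E c)) • E a := by
    intro j
    ext s
    have hfix : ∑ u : CZ x, projKernel p b s u * E j u = E j s :=
      congrFun ((isProj_projKernel (weakOrthogonal_of_isPBlock (C := CZ x) hM hb)).map_id _
        (hEin j)) s
    have hC0 : (Nat.card (CZ x) : ℂ) ≠ 0 := Nat.cast_ne_zero.2 Nat.card_pos.ne'
    calc E j s = (Nat.card (CZ x) : ℂ)⁻¹ *
          ∑ u : CZ x, ((Nat.card (CZ x) : ℂ) * projKernel p b s u) * E j u := by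
          simp only [mul_assoc, ← Finset.mul_sum, hfix]
          rw [inv_mul_cancel_left₀ hC0]
      _ = (Nat.card (CZ x) : ℂ)⁻¹ * ∑ u : CZ x,
          (∑ a, ∑ c, W a c * (E a s * conj (E c u))) * E j u := by
          refine congrArg _ (Finset.sum_congr rfl fun u _ => ?_)
          rw [← sum_bpart_mul hM hy hind]
          congr 1
          rw [Finset.sum_congr rfl fun χ _ => show bpart p x b χ s * conj (bpart p x b χ u) =
              ∑ a, ∑ c, w χ a 1 * conj (w χ c 1) * (E a s * conj (E c u)) by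
            rw [hpart, hpart, map_sum, Finset.sum_mul_sum]
            refine Finset.sum_congr rfl fun a _ => Finset.sum_congr rfl fun c _ => ?_
            rw [map_mul]; ring]
          rw [Finset.sum_comm]
          refine Finset.sum_congr rfl fun a _ => ?_
          rw [Finset.sum_comm]
          refine Finset.sum_congr rfl fun c _ => ?_
          simp only [hW, Finset.sum_mul]
      _ = _ := by
          simp only [Finset.sum_apply, Pi.smul_apply, smul_eq_mul, Cfsg.classInner,
            Finset.mul_sum, Finset.sum_mul]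
          rw [Finset.sum_comm]
          refine Finset.sum_congr rfl fun a _ => ?_
          rw [Finset.sum_comm]
          exact Finset.sum_congr rfl fun c _ => Finset.sum_congr rfl fun u _ => by ring
  have hte : (1 : ℂ) + (t : ℂ) * e ≠ 0 := by
    rw [show (1 : ℂ) + (t : ℂ) * e = ((1 + t * e : ℕ) : ℂ) by push_cast; rfl]
    exact Nat.cast_ne_zero.2 (by omega)
  have hFc : (F : ℂ) * (1 + (t : ℂ) * e) = t := by exact_mod_cast congrArg (fun r : ℝ => (r : ℂ)) hF
  have hindep : ∀ c : Fin e → ℂ, ∑ a, c a • E a = 0 → ∀ a, c a = 0 := by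
    intro c hc a
    have hj : ∀ j, c j = (F : ℂ) * ∑ a, c a := by
      intro j
      have h := congrArg (fun f => (p : ℂ) * Cfsg.classInner f (E j)) hc
      simp only [H26.classInner_sum_left, H26.classInner_smul_left, hinner, Finset.mul_sum] at h
      rw [show Cfsg.classInner (0 : CZ x → ℂ) (E j) = 0 by simp [Cfsg.classInner], mul_zero] at h
      rw [← sub_eq_zero, ← h, Finset.mul_sum]
      rw [show c j = ∑ a, (if a = j then c a else 0) by simp, ← Finset.sum_sub_distrib]
      refine Finset.sum_congr rfl fun a _ => ?_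
      split_ifs <;> push_cast <;> field_simp <;> ring
    have hs : ∑ a, c a = (e : ℂ) * ((F : ℂ) * ∑ a, c a) := by
      conv_lhs => rw [Finset.sum_congr rfl fun a _ => hj a]
      rw [Finset.sum_const, Finset.card_univ, Fintype.card_fin, nsmul_eq_mul]
    have h0 : ∑ a, c a = 0 := by
      linear_combination (1 + (t : ℂ) * e) * hs + ((e : ℂ) * ∑ a, c a) * hFc
    rw [hj a, h0, mul_zero]
  have hWval : ∀ a j, W a j = (p : ℂ) * ((if a = j then 1 else 0) + t) := by
    intro a j
    have hz : ∀ j a, ∑ c, W a c * Cfsg.classInner (E j) (E c) = if a = j then 1 else 0 := by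
      intro j a
      have h := hindep (fun a => (∑ c, W a c * Cfsg.classInner (E j) (E c)) -
        if a = j then 1 else 0) (by
          simp only [sub_smul, Finset.sum_sub_distrib, ite_smul, one_smul, zero_smul,
            Finset.sum_ite_eq', Finset.mem_univ, if_true]
          rw [← hcol j, sub_self]) a
      exact sub_eq_zero.1 h
    have h1 : ∀ j, W a j - (F : ℂ) * ∑ c, W a c = (p : ℂ) * if a = j then 1 else 0 := by
      intro j
      rw [← hz j a, Finset.mul_sum, Finset.mul_sum,
        show W a j = ∑ c, (if j = c then W a c else 0) by simp, ← Finset.sum_sub_distrib]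
      refine Finset.sum_congr rfl fun c _ => ?_
      rw [hinner]
      split_ifs <;> push_cast <;> field_simp <;> ring
    have h2 : (∑ c, W a c) * (1 - (e : ℂ) * F) = p := by
      have := Finset.sum_congr rfl fun j (_ : j ∈ Finset.univ) => h1 j
      rw [Finset.sum_sub_distrib, Finset.sum_const, Finset.card_univ, Fintype.card_fin,
        nsmul_eq_mul, ← Finset.mul_sum, Finset.sum_ite_eq, if_pos (Finset.mem_univ _),
        mul_one] at this
      linear_combination this
    have h3 : (F : ℂ) * ∑ c, W a c = (p : ℂ) * t := by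
      linear_combination (F : ℂ) * (1 + (t : ℂ) * e) * h2 + ((p : ℂ) + (e : ℂ) * (F : ℂ) * ∑ c, W a c) * hFc
    rw [mul_add, ← h3, ← h1 j]
    ring
  -- the quadratic form along a path
  set N := p ^ 2 with hNdef
  have hN : x ^ N = 1 := by rw [hNdef, pow_two, pow_mul, ← hx, pow_orderOf_eq_one, one_pow]
  have hN0 : N ≠ 0 := (pow_pos hp.out.pos _).ne'
  set U := Twist.units N
  have hU : (0 : ℝ) < (U.card : ℝ) := Nat.cast_pos.2 (Finset.card_pos.2 ⟨1,
    Finset.mem_filter.2 ⟨Finset.mem_range.2 (Nat.one_lt_pow two_ne_zero hp.out.one_lt),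
      Nat.coprime_one_left _⟩⟩)
  have hwtw : ∀ χ i, Twist.IsTwist N (w χ i 1) (w χ i) := fun χ i τ k hτ => by
    simp only [w, map_sum, map_mul, map_natCast, map_intCast, pow_one,
      hτ _ (scal_pow x hN _)]
  have hwint : ∀ χ i, IsIntegral ℤ (w χ i 1) := fun χ i => IsIntegral.sum _ fun φ _ =>
    ((isIntegral_algebraMap (R := ℤ) (x := (mult x χ φ : ℤ))).mul
      ((scal_isIntegral x φ).pow 1)).mul (isIntegral_algebraMap (x := m φ i))
  let ext' : Cfsg.IrrCharacter G → ℕ → ℕ → ℂ := fun χ a k =>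
    if h : 1 ≤ a ∧ a ≤ e then w χ ⟨a - 1, by omega⟩ k else 0
  let d : Cfsg.IrrCharacter G → ℕ → ℕ → ℂ := fun χ a k => ext' χ (a + 1) k - ext' χ a k
  have hexttw : ∀ χ a, Twist.IsTwist N (ext' χ a 1) (ext' χ a) := fun χ a τ k hτ => by
    simp only [ext']
    split_ifs with h
    · exact hwtw χ _ τ k hτ
    · exact map_zero τ
  have hextint : ∀ χ a, IsIntegral ℤ (ext' χ a 1) := fun χ a => by
    simp only [ext']
    split_ifs with h
    · exact hwint χ _
    · exact isIntegral_zero
  have hdtw : ∀ χ a, Twist.IsTwist N (d χ a 1) (d χ a) := fun χ a τ k hτ => by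
    simp only [d, map_sub, hexttw χ _ τ k hτ]
  have hlow : ∀ χ ∈ zeroSet p B,
      2 * (U.card : ℝ) ≤ ∑ a ∈ Finset.range (e + 1), ∑ k ∈ U, ‖d χ a k‖ ^ 2 := by
    intro χ hχ
    rw [zeroSet, Finset.mem_filter] at hχ
    let S := (Finset.range (e + 2)).filter fun a => ext' χ a 1 ≠ 0
    have hS : S.Nonempty := by
      by_contra hS
      rw [Finset.not_nonempty_iff_eq_empty] at hS
      have hw0 : ∀ i, w χ i 1 = 0 := fun i => by
        by_contra h
        have : (i : ℕ) + 1 ∈ S := Finset.mem_filter.2 ⟨Finset.mem_range.2 (by omega), by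
          simp only [ext', show 1 ≤ (i : ℕ) + 1 ∧ (i : ℕ) + 1 ≤ e from ⟨by omega, i.2⟩,
            and_self, dif_pos, Nat.add_sub_cancel]
          exact h⟩
        rw [hS] at this
        simp at this
      refine res_cont_ne_zero hM hy hind (mem_mem'.1 hχ.1) hχ.2 (mem_mem'.1 hχ.1) hχ.2 1
        (H41.isIntegral_mem_localRing (isIntegral_cont χ χ 1)) ?_
      rw [← map_zero (H41.res M)]
      refine congrArg _ (Subtype.ext ?_)
      show cont p x b χ χ 1 = 0
      rw [cont_one_eq hb]
      simp [hpart, hw0]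
    set a₀ := S.min' hS
    set a₁ := S.max' hS
    have h0 := Finset.mem_filter.1 (S.min'_mem hS)
    have h1 := Finset.mem_filter.1 (S.max'_mem hS)
    have hr : ∀ a, ext' χ a 1 ≠ 0 → 1 ≤ a ∧ a ≤ e := fun a ha => by
      by_contra h
      exact ha (dif_neg h)
    have hr0 := hr a₀ h0.2
    have hr1 := hr a₁ h1.2
    have hz0 : ext' χ (a₀ - 1) 1 = 0 := by
      by_contra h
      have := S.min'_le (a₀ - 1) (Finset.mem_filter.2 ⟨Finset.mem_range.2 (by omega), h⟩)
      omega
    have hz1 : ext' χ (a₁ + 1) 1 = 0 := by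
      by_contra h
      have := S.le_max' (a₁ + 1) (Finset.mem_filter.2 ⟨Finset.mem_range.2 (by omega), h⟩)
      omega
    have hd0 : d χ (a₀ - 1) 1 ≠ 0 := by
      simp only [d]; rw [hz0, sub_zero, Nat.sub_add_cancel hr0.1]; exact h0.2
    have hd1 : d χ a₁ 1 ≠ 0 := by
      simp only [d]; rw [hz1, zero_sub]; exact neg_ne_zero.2 h1.2
    have hle : a₀ ≤ a₁ := S.min'_le_max' hS
    have hsub : ({a₀ - 1, a₁} : Finset ℕ) ⊆ Finset.range (e + 1) := by
      intro a ha
      simp only [Finset.mem_insert, Finset.mem_singleton] at ha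
      exact Finset.mem_range.2 (by omega)
    refine le_trans ?_ (Finset.sum_le_sum_of_subset_of_nonneg hsub fun a _ _ =>
      Finset.sum_nonneg fun k _ => sq_nonneg _)
    rw [Finset.sum_pair (by omega : a₀ - 1 ≠ a₁), two_mul]
    exact add_le_add
      ((hdtw χ _).card_le_sum_norm_pow hN0 ((hextint χ _).sub (hextint χ _)) hd0 2)
      ((hdtw χ _).card_le_sum_norm_pow hN0 ((hextint χ _).sub (hextint χ _)) hd1 2)
  have hWk : ∀ k ∈ U, ∀ a j, ∑ χ ∈ mem' B, w χ a k * conj (w χ j k) =
      (p : ℂ) * ((if a = j then 1 else 0) + t) := by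
    intro k hk a j
    obtain ⟨τ, hτ⟩ := H45.exists_ringAut_pow hN0 (Finset.mem_filter.1 hk).2
    have h := congrArg τ (hWval a j)
    simp only [hW, w, map_sum, map_mul, map_natCast, map_intCast, map_pow, conj_scal, pow_one,
      map_add, apply_ite τ, map_one, map_zero] at h
    simp only [w, map_sum, map_mul, map_natCast, map_intCast, map_pow, conj_scal]
    rw [← h]
    refine Finset.sum_congr rfl fun χ _ => congrArg₂ (· * ·) ?_ ?_
    · exact Finset.sum_congr rfl fun φ _ => by rw [hτ _ (scal_pow x hN φ)]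
    · exact Finset.sum_congr rfl fun φ _ => by
        rw [hτ _ (by rw [inv_pow, scal_pow x hN, inv_one] : ((scal x φ)⁻¹) ^ N = 1)]
  have hext : ∀ k ∈ U, ∀ a a', ∑ χ ∈ mem' B, ext' χ a k * conj (ext' χ a' k) =
      if (1 ≤ a ∧ a ≤ e) ∧ (1 ≤ a' ∧ a' ≤ e) then (p : ℂ) * ((if a = a' then 1 else 0) + t)
      else 0 := by
    intro k hk a a'
    by_cases ha : 1 ≤ a ∧ a ≤ e
    · by_cases ha' : 1 ≤ a' ∧ a' ≤ e
      · simp only [ext', dif_pos ha, dif_pos ha', if_pos (And.intro ha ha'), hWk k hk]
        congr 2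
        exact if_congr (by rw [Fin.ext_iff]; simp only; omega) rfl rfl
      · rw [if_neg fun h => ha' h.2]
        exact Finset.sum_eq_zero fun χ _ => by simp only [ext', dif_neg ha', map_zero, mul_zero]
    · rw [if_neg fun h => ha h.1]
      exact Finset.sum_eq_zero fun χ _ => by simp only [ext', dif_neg ha, zero_mul]
  have hdk : ∀ k ∈ U, ∀ a ∈ Finset.range (e + 1), ∑ χ ∈ mem' B, ‖d χ a k‖ ^ 2 =
      2 * (p : ℝ) + (if a = 0 then ((t : ℝ) - 1) * p else 0) +
        (if a = e then ((t : ℝ) - 1) * p else 0) := by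
    intro k hk a ha
    have ha' := Finset.mem_range.1 ha
    apply Complex.ofReal_injective
    rw [Complex.ofReal_sum, Finset.sum_congr rfl fun χ _ =>
      show ((‖d χ a k‖ ^ 2 : ℝ) : ℂ) = d χ a k * conj (d χ a k) by
        rw [Complex.mul_conj', Complex.ofReal_pow]]
    simp only [d, map_sub, sub_mul, mul_sub, Finset.sum_sub_distrib, hext k hk]
    split_ifs <;> first | omega | (push_cast; ring)
  have h := Finset.sum_le_sum hlow
  have h2 := h.trans (Finset.sum_le_sum_of_subset_of_nonneg (Finset.filter_subset _ _)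
    fun χ _ _ => Finset.sum_nonneg fun a _ => Finset.sum_nonneg fun k _ => sq_nonneg _)
  rw [Finset.sum_comm, Finset.sum_congr rfl fun a ha => (by
    rw [Finset.sum_comm, Finset.sum_congr rfl fun k hk => hdk k hk a ha, Finset.sum_const,
      nsmul_eq_mul] : ∑ χ ∈ mem' B, ∑ k ∈ U, ‖d χ a k‖ ^ 2 = (U.card : ℝ) *
        (2 * (p : ℝ) + (if a = 0 then ((t : ℝ) - 1) * p else 0) +
          (if a = e then ((t : ℝ) - 1) * p else 0))),
    ← Finset.mul_sum (a := (U.card : ℝ)), Finset.sum_add_distrib, Finset.sum_add_distrib,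
    Finset.sum_ite_eq', Finset.sum_ite_eq',
    if_pos (Finset.mem_range.2 (Nat.succ_pos e)), if_pos (Finset.mem_range.2 (Nat.lt_succ_self e))]
    at h2
  simp only [Finset.sum_const, Finset.card_range, nsmul_eq_mul] at h2
  have het' : (e : ℝ) + (t : ℝ) ≤ (p : ℝ) := by exact_mod_cast het
  have hk0 : ((zeroSet p B).card : ℝ) ≤ (p : ℝ) * ((e : ℝ) + (t : ℝ)) := by
    refine le_of_mul_le_mul_right ?_ hU
    push_cast at h2
    linarith
  have hfin : ((zeroSet p B).card : ℝ) ≤ (p : ℝ) ^ 2 := by
    rw [pow_two]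
    exact hk0.trans (mul_le_mul_of_nonneg_left het' (Nat.cast_nonneg _))
  exact_mod_cast hfin

/-- The bound when the element generates the Sylow subgroup of its centralizer. -/
theorem card_zeroSet_le_cyclic (hM : Cfsg.IsPModular p M) {x : G} {j : ℕ} (hx : orderOf x = p ^ j)
    (hC : (Nat.card (CZ x)).factorization p = j) :
    (zeroSet p (Cfsg.principalBlock M G)).card ≤ p ^ j := by
  haveI := hM.2.1
  have hy : ∃ k : ℕ, orderOf x = p ^ k := ⟨j, hx⟩
  have h := card_zeroSet_le_mul hM hy (induced_principal hM hy)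
  have hxC : yC x ∈ Subgroup.center (CZ x) := Subgroup.mem_center_iff.2 (commute_yC x)
  set Q := Subgroup.zpowers (yC x) with hQdef
  have hQcard : Nat.card Q = p ^ j := by
    rw [Nat.card_zpowers, ← Subgroup.orderOf_coe]; exact hx
  have hQc : Q ≤ Subgroup.center (CZ x) := Subgroup.zpowers_le.2 hxC
  haveI : Q.Normal := ⟨fun n hn g => by
    rw [Subgroup.mem_center_iff.1 (hQc hn) g, mul_inv_cancel_right]; exact hn⟩
  have hQ : IsPGroup p Q := IsPGroup.of_card hQcard
  have hsup : Q ⊔ Subgroup.centralizer (Q : Set (CZ x)) = ⊤ := by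
    refine eq_top_iff.2 fun g _ => Subgroup.mem_sup_right (Subgroup.mem_centralizer_iff.2
      fun n hn => (Subgroup.mem_center_iff.1 (hQc hn) g).symm)
  haveI : Fintype (CZ x ⧸ Q) := Fintype.ofFinite _
  have hnd : ¬ p ∣ Nat.card (CZ x ⧸ Q) := by
    intro hd
    have h1 : p ^ (j + 1) ∣ Nat.card (CZ x) := by
      rw [Subgroup.card_eq_card_quotient_mul_card_subgroup Q, hQcard, pow_succ']
      exact mul_dvd_mul hd dvd_rfl
    have := (hp.out.pow_dvd_iff_le_factorization Nat.card_pos.ne').1 h1
    omega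
  rw [blockDefect_principal, hC, H40.blockRank_principal_quotient hM hQ hsup,
    blockRank_principal_of_not_dvd hM hnd, mul_one] at h
  exact h

/-- The bound when the element has order `p` and centralizer with Sylow subgroup of order `p`. -/
theorem card_zeroSet_le_full (hM : Cfsg.IsPModular p M) {x : G} (hx : orderOf x = p)
    (hC : (Nat.card (CZ x)).factorization p = 1) :
    (zeroSet p (Cfsg.principalBlock M G)).card ≤ p := by
  simpa using card_zeroSet_le_cyclic hM (j := 1) (by rw [hx, pow_one]) hC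

/-- The count in general. -/
theorem count_le_of_small_centralizer (hM : Cfsg.IsPModular p M) {x : G}
    (hx : ∃ k : ℕ, orderOf x = p ^ k) (hC : (Nat.card (CZ x)).factorization p ≤ 2) :
    (zeroSet p (Cfsg.principalBlock M G)).card ≤ p ^ 2 := by
  haveI := hM.2.1
  obtain ⟨j, hj⟩ := id hx
  set a := (Nat.card (CZ x)).factorization p with ha
  have hxC : yC x ∈ Subgroup.center (CZ x) := Subgroup.mem_center_iff.2 (commute_yC x)
  have hxo : orderOf (yC x) = p ^ j := by rw [← Subgroup.orderOf_coe]; exact hj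
  have hja : j ≤ a := by
    have h1 : p ^ j ∣ Nat.card (CZ x) := hxo ▸ orderOf_dvd_natCard _
    exact (hp.out.pow_dvd_iff_le_factorization Nat.card_pos.ne').1 h1
  have hind := induced_principal hM hx
  rcases hja.lt_or_eq with hlt | heq
  · rcases Nat.eq_zero_or_pos j with rfl | hj0
    · -- `x = 1`: the whole group has small Sylow subgroups; take a central element of one
      have hx1 : x = 1 := orderOf_eq_one_iff.1 (by simpa using hj)
      obtain ⟨P⟩ : Nonempty (Sylow p G) := inferInstance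
      have hGa : (Nat.card G).factorization p = a := by
        rw [ha]
        have : (CZ x : Subgroup G) = ⊤ := by
          rw [eq_top_iff]
          exact fun g _ => mem_centralizer_zpowers_iff.2 (by rw [hx1]; exact Commute.one_right g)
        rw [this, Subgroup.card_top]
      have hPc : Nat.card P = p ^ a := by rw [P.card_eq_multiplicity, hGa]
      haveI : Nontrivial (P : Subgroup G) := Finite.one_lt_card_iff_nontrivial.1
        (hPc ▸ Nat.one_lt_pow (by omega) hp.out.one_lt)
      haveI : Nontrivial (Subgroup.center (P : Subgroup G)) := P.isPGroup'.center_nontrivial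
      haveI : Fact p.Prime := hp
      obtain ⟨z, hz⟩ := exists_prime_orderOf_dvd_card' (G := Subgroup.center (P : Subgroup G)) p (by
        obtain ⟨n, hn0, hn⟩ := (P.isPGroup'.to_subgroup _).nontrivial_iff_card.1
          (inferInstance : Nontrivial (Subgroup.center (P : Subgroup G)))
        rw [hn]; exact dvd_pow_self p hn0.ne')
      set u : G := ((z : (P : Subgroup G)) : G) with hu
      have huo : orderOf u = p := by
        rw [hu, Subgroup.orderOf_coe, Subgroup.orderOf_coe, hz]
      have hle : (Nat.card (CZ u)).factorization p ≤ a := by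
        rw [← hGa]
        exact (Nat.factorization_le_iff_dvd Nat.card_pos.ne' Nat.card_pos.ne').2
          (Subgroup.card_subgroup_dvd_card _) p
      have hge : 1 ≤ (Nat.card (CZ u)).factorization p := by
        have h1 : p ^ 1 ∣ Nat.card (CZ u) := by
          rw [pow_one, ← huo, show orderOf u = orderOf (yC u) from Subgroup.orderOf_coe (yC u)]
          exact orderOf_dvd_natCard _
        exact (hp.out.pow_dvd_iff_le_factorization Nat.card_pos.ne').1 h1
      by_cases h2 : (Nat.card (CZ u)).factorization p = 2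
      · exact card_zeroSet_le_sq hM huo h2
      · have h1 : (Nat.card (CZ u)).factorization p = 1 := by omega
        have := card_zeroSet_le_full hM huo h1
        exact this.trans (Nat.le_self_pow two_ne_zero p)
    · have h2 : a = 2 ∧ j = 1 := by omega
      exact card_zeroSet_le_sq hM (by rw [hj, h2.2, pow_one]) (ha ▸ h2.1)
  · refine (card_zeroSet_le_cyclic hM hj (ha ▸ heq.symm)).trans ?_
    exact Nat.pow_le_pow_right hp.out.pos (heq ▸ hC)

end Cfsg.Agent.H56.Subsec
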